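import Cfsg.Agent.H73.Conway.Main
import Cfsg.Agent.Orthogonal.AutStab

/-!
Coordinates for the hyperbolic space of dimension eight as natural numbers below 256, the
elements fixing a maximal singular subspace pointwise, and transvections stabilising a pair of
complementary singular subspaces.
-/

set_option autoImplicit false
set_option maxRecDepth 100000
set_option linter.style.nativeDecide false

namespace Cfsg.Agent.PGroups.ConwayA

open QuadraticMap Cfsg.Agent.Orthogonal Cfsg.Agent.H73.Conway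

/-- A bit as an element of the field. -/
def bz (n i : ℕ) : ZMod 2 := bif n.testBit i then 1 else 0

/-- The bit of a field element. -/
def zb (a : ZMod 2) (i : ℕ) : ℕ := if a = 0 then 0 else 2 ^ i

/-- The vector of a number: bits `0..3` on the first half, `4..7` on the second. -/
def vec (n : ℕ) : V8 :=
  ((bz n 0, bz n 4), (bz n 1, bz n 5), (bz n 2, bz n 6), bz n 3, bz n 7)

/-- The number of a vector. -/
def code (y : V8) : ℕ :=
  zb y.1.1 0 ||| zb y.1.2 4 ||| zb y.2.1.1 1 ||| zb y.2.1.2 5 ||| zb y.2.2.1.1 2 |||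
    zb y.2.2.1.2 6 ||| zb y.2.2.2.1 3 ||| zb y.2.2.2.2 7

theorem code_spec : ∀ y : V8, code y < 256 ∧ vec (code y) = y := by decide +kernel

theorem code_vec : ∀ n, n < 256 → code (vec n) = n := by
  intro n hn
  have : ((List.range 256).all fun n => code (vec n) == n) = true := by decide +kernel
  exact eq_of_beq (List.all_eq_true.1 this n (List.mem_range.2 hn))

theorem vec_inj {m n : ℕ} (hm : m < 256) (hn : n < 256) (e : vec m = vec n) : m = n := by
  rw [← code_vec m hm, e, code_vec n hn]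

theorem vec_zero : vec 0 = 0 := by decide

theorem bz_xor (m n i : ℕ) : bz (m ^^^ n) i = bz m i + bz n i := by
  simp only [bz, Nat.testBit_xor]
  cases m.testBit i <;> cases n.testBit i <;> decide

theorem vec_xor (m n : ℕ) : vec (m ^^^ n) = vec m + vec n := by
  simp only [vec, bz_xor, Prod.mk_add_mk]

/-- The form, computably. -/
def q8 (v : V8) : ZMod 2 := v.1.1 * v.1.2 + qU v.2

/-- The polar form, computably. -/
def B8 (v w : V8) : ZMod 2 := v.1.1 * w.1.2 + w.1.1 * v.1.2 + fU v.2 w.2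

theorem phi_q8 (v : V8) : phi v = q8 v := phi_apply v

theorem polar_B8 (v w : V8) : polar (⇑phi) v w = B8 v w := polar_phi v w

theorem O_ext {g k : O phi}
    (h : ∀ n, n < 256 → (g : V8 ≃ₗ[ZMod 2] V8) (vec n) = (k : V8 ≃ₗ[ZMod 2] V8) (vec n)) :
    g = k :=
  O.ext_app fun y => by
    obtain ⟨h1, h2⟩ := code_spec y
    rw [← h2]; exact h _ h1

/-- The formula of a Siegel transvection. -/
def sieFun (u w x : V8) : V8 := x + (B8 w x - q8 w * B8 u x) • u - B8 u x • w

theorem sie_eval {u w : V8} (hu : phi u = 0) (hw : polar (⇑phi) u w = 0) (x : V8) :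
    (sie u w hu hw : V8 ≃ₗ[ZMod 2] V8) x = sieFun u w x := by
  rw [sie_app, polar_B8, polar_B8, phi_q8]; rfl

theorem finrank_ge : 5 ≤ Module.finrank (ZMod 2) V8 := by rw [finrank_V8]; norm_num

/-- The six pairs of indices. -/
def P1 : Fin 6 → ℕ := ![0, 0, 0, 1, 1, 2]

/-- The six pairs of indices. -/
def P2 : Fin 6 → ℕ := ![1, 2, 3, 2, 3, 3]

/-- Row `m` of the alternating matrix with bits `S`. -/
def row (S m : ℕ) : ℕ :=
  match m with
  | 0 => (bif S.testBit 0 then 2 else 0) ^^^ (bif S.testBit 1 then 4 else 0) ^^^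
      (bif S.testBit 2 then 8 else 0)
  | 1 => (bif S.testBit 0 then 1 else 0) ^^^ (bif S.testBit 3 then 4 else 0) ^^^
      (bif S.testBit 4 then 8 else 0)
  | 2 => (bif S.testBit 1 then 1 else 0) ^^^ (bif S.testBit 3 then 2 else 0) ^^^
      (bif S.testBit 5 then 8 else 0)
  | _ => (bif S.testBit 2 then 1 else 0) ^^^ (bif S.testBit 4 then 2 else 0) ^^^
      (bif S.testBit 5 then 4 else 0)

/-- The image of a vector of four bits under the matrix. -/
def app (S v : ℕ) : ℕ :=
  (bif v.testBit 0 then row S 0 else 0) ^^^ (bif v.testBit 1 then row S 1 else 0) ^^^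
    (bif v.testBit 2 then row S 2 else 0) ^^^ (bif v.testBit 3 then row S 3 else 0)

/-- The bits of the matrix with given rows. -/
def unrow (r0 r1 r2 : ℕ) : ℕ :=
  (bif r0.testBit 1 then 1 else 0) ||| (bif r0.testBit 2 then 2 else 0) |||
    (bif r0.testBit 3 then 4 else 0) ||| (bif r1.testBit 2 then 8 else 0) |||
    (bif r1.testBit 3 then 16 else 0) ||| (bif r2.testBit 3 then 32 else 0)

/-- The model of the unipotent element with matrix `S`. -/
def Xmod (S n : ℕ) : ℕ := n ^^^ app S (n / 16)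

theorem X_hyp : ∀ k : Fin 6, q8 (vec (2 ^ P1 k)) = 0 ∧
    B8 (vec (2 ^ P1 k)) (vec (2 ^ P2 k)) = 0 := by decide +kernel

/-- The basic unipotent elements. -/
noncomputable def Xk (k : Fin 6) : O phi :=
  sie (vec (2 ^ P1 k)) (vec (2 ^ P2 k)) ((phi_q8 _).trans (X_hyp k).1)
    ((polar_B8 _ _).trans (X_hyp k).2)

theorem Xk_mem (k : Fin 6) : Xk k ∈ commutator (O phi) :=
  sie_mem_commutator phi_nondeg finrank_ge _ _

theorem Xk_app (k : Fin 6) {n : ℕ} (hn : n < 256) :
    (Xk k : V8 ≃ₗ[ZMod 2] V8) (vec n) = vec (Xmod (2 ^ k.val) n) := by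
  have h : ((List.finRange 6).all fun k => (List.range 256).all fun n =>
      decide (sieFun (vec (2 ^ P1 k)) (vec (2 ^ P2 k)) (vec n) = vec (Xmod (2 ^ k.val) n))) =
        true := by decide +kernel
  have h1 := List.all_eq_true.1 (List.all_eq_true.1 h k (List.mem_finRange k)) n
    (List.mem_range.2 hn)
  rw [Xk, sie_eval]
  exact of_decide_eq_true h1

/-- One factor. -/
noncomputable def Xbit (S : ℕ) (k : Fin 6) : O phi := bif S.testBit k.val then Xk k else 1

/-- The unipotent element with matrix `S`. -/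
noncomputable def Xp (S : ℕ) : O phi :=
  Xbit S 0 * (Xbit S 1 * (Xbit S 2 * (Xbit S 3 * (Xbit S 4 * Xbit S 5))))

/-- The model of one factor. -/
def Xbmod (S : ℕ) (k : Fin 6) (n : ℕ) : ℕ := bif S.testBit k.val then Xmod (2 ^ k.val) n else n

theorem row_lt (S m : ℕ) : row S m < 16 := by
  have h : ∀ a b : ℕ, a < 16 → b < 16 → a ^^^ b < 16 := fun a b ha hb =>
    Nat.xor_lt_two_pow (n := 4) ha hb
  have hb : ∀ (b : Bool) (c : ℕ), c < 16 → (bif b then c else 0) < 16 := fun b c hc => by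
    cases b
    · norm_num
    · exact hc
  unfold row
  split <;>
    exact h _ _ (h _ _ (hb _ _ (by decide)) (hb _ _ (by decide))) (hb _ _ (by decide))

theorem app_lt (S v : ℕ) : app S v < 16 := by
  have h : ∀ a b : ℕ, a < 16 → b < 16 → a ^^^ b < 16 := fun a b ha hb =>
    Nat.xor_lt_two_pow (n := 4) ha hb
  have hb : ∀ (b : Bool) m, (bif b then row S m else 0) < 16 := fun b m => by
    cases b
    · norm_num
    · exact row_lt S m
  exact h _ _ (h _ _ (h _ _ (hb _ _) (hb _ _)) (hb _ _)) (hb _ _)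

theorem app_unit (S : ℕ) (m : Fin 4) : app S (2 ^ m.val) = row S m.val := by
  have h : ∀ i j : Fin 4, (2 ^ i.val).testBit j.val = decide (i = j) := by decide +kernel
  have h0 := h m 0
  have h1 := h m 1
  have h2 := h m 2
  have h3 := h m 3
  unfold app
  simp only [Fin.val_zero, Fin.val_one, Fin.val_two] at h0 h1 h2
  rw [show ((3 : Fin 4) : ℕ) = 3 from rfl] at h3
  rw [h0, h1, h2, h3]
  fin_cases m <;> simp

theorem Xmod_unit (S : ℕ) (m : Fin 4) :
    Xmod S (2 ^ (4 + m.val)) = 2 ^ (4 + m.val) ^^^ row S m.val := by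
  rw [Xmod, pow_add, show (2 : ℕ) ^ 4 = 16 from rfl, Nat.mul_div_cancel_left _ (by norm_num),
    app_unit]

theorem Xmod_lt (S : ℕ) {n : ℕ} (hn : n < 256) : Xmod S n < 256 :=
  Nat.xor_lt_two_pow (n := 8) hn ((app_lt S _).trans (by norm_num))

theorem Xbit_app (S : ℕ) (k : Fin 6) {n : ℕ} (hn : n < 256) :
    (Xbit S k : V8 ≃ₗ[ZMod 2] V8) (vec n) = vec (Xbmod S k n) ∧ Xbmod S k n < 256 := by
  unfold Xbit Xbmod
  cases S.testBit k.val
  · exact ⟨rfl, hn⟩
  · exact ⟨Xk_app k hn, Xmod_lt _ hn⟩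

theorem Xp_app {S : ℕ} (hS : S < 64) {n : ℕ} (hn : n < 256) :
    (Xp S : V8 ≃ₗ[ZMod 2] V8) (vec n) = vec (Xmod S n) := by
  obtain ⟨e5, h5⟩ := Xbit_app S 5 hn
  obtain ⟨e4, h4⟩ := Xbit_app S 4 h5
  obtain ⟨e3, h3⟩ := Xbit_app S 3 h4
  obtain ⟨e2, h2⟩ := Xbit_app S 2 h3
  obtain ⟨e1', h1⟩ := Xbit_app S 1 h2
  obtain ⟨e0, -⟩ := Xbit_app S 0 h1
  simp only [Xp, Subgroup.coe_mul, mul_app, e5, e4, e3, e2, e1', e0]
  have h : ((List.range 64).all fun S => (List.range 256).all fun n =>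
      Xbmod S 0 (Xbmod S 1 (Xbmod S 2 (Xbmod S 3 (Xbmod S 4 (Xbmod S 5 n))))) == Xmod S n) =
        true := by decide +kernel
  rw [eq_of_beq (List.all_eq_true.1 (List.all_eq_true.1 h S (List.mem_range.2 hS)) n
    (List.mem_range.2 hn))]

theorem Xp_mem (S : ℕ) : Xp S ∈ commutator (O phi) := by
  have h : ∀ k, Xbit S k ∈ commutator (O phi) := fun k => by
    unfold Xbit; cases S.testBit k.val
    exacts [one_mem _, Xk_mem k]
  exact mul_mem (h 0) (mul_mem (h 1) (mul_mem (h 2) (mul_mem (h 3) (mul_mem (h 4) (h 5)))))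

theorem app_xor : ∀ S, S < 64 → ∀ T, T < 64 → ∀ v, v < 16 →
    app (S ^^^ T) v = app S v ^^^ app T v := by
  intro S hS T hT v hv
  have h : ((List.range 64).all fun S => (List.range 64).all fun T => (List.range 16).all fun v =>
      app (S ^^^ T) v == app S v ^^^ app T v) = true := by decide +kernel
  exact eq_of_beq (List.all_eq_true.1 (List.all_eq_true.1 (List.all_eq_true.1 h S
    (List.mem_range.2 hS)) T (List.mem_range.2 hT)) v (List.mem_range.2 hv))

theorem Xmod_high (S : ℕ) {n : ℕ} : Xmod S n / 16 = n / 16 := by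
  have h : Xmod S n >>> 4 = n >>> 4 := by
    rw [Xmod, Nat.shiftRight_xor_distrib, Nat.shiftRight_eq_div_pow (app S _),
      Nat.div_eq_of_lt (app_lt S _), Nat.xor_zero]
  simpa [Nat.shiftRight_eq_div_pow] using h

theorem Xp_mul {S T : ℕ} (hS : S < 64) (hT : T < 64) : Xp S * Xp T = Xp (S ^^^ T) :=
  O_ext fun n hn => by
    rw [Subgroup.coe_mul, mul_app, Xp_app hT hn, Xp_app hS (Xmod_lt T hn),
      Xp_app (Nat.xor_lt_two_pow (n := 6) hS hT) hn]
    congr 1
    conv_lhs => rw [Xmod, Xmod_high]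
    rw [Xmod, Xmod, app_xor S hS T hT _ (by omega), Nat.xor_assoc, Nat.xor_comm (app T _)]

theorem Xp_zero : Xp 0 = 1 := by simp [Xp, Xbit]

theorem Xp_inj {S T : ℕ} (hS : S < 64) (hT : T < 64) (e : Xp S = Xp T) : S = T := by
  have h : ∀ m : Fin 4, row S m.val = row T m.val := fun m => by
    have hm : 2 ^ (4 + m.val) < 256 := Nat.pow_lt_pow_right (a := 2) (n := 8) (by norm_num) (by omega)
    have e1 := Xp_app hS hm
    rw [e, Xp_app hT hm] at e1
    have e2 := vec_inj (Xmod_lt T hm) (Xmod_lt S hm) e1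
    rw [Xmod_unit, Xmod_unit] at e2
    exact (Nat.xor_right_injective e2).symm
  have h' : ∀ R, R < 64 → unrow (row R 0) (row R 1) (row R 2) = R := by
    intro R hR
    have : ((List.range 64).all fun R => unrow (row R 0) (row R 1) (row R 2) == R) = true := by
      decide +kernel
    exact eq_of_beq (List.all_eq_true.1 this R (List.mem_range.2 hR))
  rw [← h' S hS, ← h' T hT]
  rw [show row S 0 = row T 0 from h 0, show row S 1 = row T 1 from h 1,
    show row S 2 = row T 2 from h 2]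

/-- The singular subspace spanned by the first half. -/
def InU (y : V8) : Prop := y.1.2 = 0 ∧ y.2.1.2 = 0 ∧ y.2.2.1.2 = 0 ∧ y.2.2.2.2 = 0

theorem InU_iff : ∀ y : V8, InU y ↔ code y < 16 := by unfold InU; decide +kernel

theorem InU_vec {n : ℕ} (hn : n < 16) : InU (vec n) := by
  rw [InU_iff, code_vec n (by omega)]; exact hn

theorem InU_exists {y : V8} (h : InU y) : ∃ n, n < 16 ∧ y = vec n :=
  ⟨code y, (InU_iff y).1 h, (code_spec y).2.symm⟩

theorem InU_add {x y : V8} (hx : InU x) (hy : InU y) : InU (x + y) := by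
  obtain ⟨a, b, c, d⟩ := hx
  obtain ⟨a', b', c', d'⟩ := hy
  exact ⟨by simp [a, a'], by simp [b, b'], by simp [c, c'], by simp [d, d']⟩

theorem InU_zero : InU (0 : V8) := by rw [← vec_zero]; exact InU_vec (by norm_num)

theorem InU_form {x y : V8} (hx : InU x) (hy : InU y) :
    phi x = 0 ∧ polar (⇑phi) x y = 0 := by
  obtain ⟨a, b, c, d⟩ := hx
  obtain ⟨a', b', c', d'⟩ := hy
  rw [phi_q8, polar_B8]
  simp [q8, B8, qU, fU, a, b, c, d, a', b', c', d']

theorem InU_perp : ∀ y : V8, (∀ m : Fin 4, B8 (vec (2 ^ m.val)) y = 0) → InU y := by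
  unfold InU; decide +kernel

theorem high_of_pairing : ∀ y : V8, ∀ m : Fin 4,
    (∀ j : Fin 4, B8 (vec (2 ^ j.val)) y = if j = m then 1 else 0) →
      code y / 16 = 2 ^ m.val := by decide +kernel

theorem stab_sym : ∀ m n : Fin 4, ∀ r s : Fin 16,
    q8 (vec (2 ^ (4 + m.val) ^^^ r.val)) = 0 → q8 (vec (2 ^ (4 + n.val) ^^^ s.val)) = 0 →
    B8 (vec (2 ^ (4 + m.val) ^^^ r.val)) (vec (2 ^ (4 + n.val) ^^^ s.val)) = 0 →
      r.val.testBit n.val = s.val.testBit m.val ∧ r.val.testBit m.val = false := by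
  decide +kernel

/-- Symmetric rows with zero diagonal. -/
def symRows (a b c d : ℕ) : Bool :=
  !a.testBit 0 && !b.testBit 1 && !c.testBit 2 && !d.testBit 3 &&
  (a.testBit 1 == b.testBit 0) && (a.testBit 2 == c.testBit 0) && (a.testBit 3 == d.testBit 0) &&
  (b.testBit 2 == c.testBit 1) && (b.testBit 3 == d.testBit 1) && (c.testBit 3 == d.testBit 2)

theorem rows_check : ((List.range 16).all fun a => (List.range 16).all fun b =>
    (List.range 16).all fun c => (List.range 16).all fun d =>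
      !symRows a b c d || (unrow a b c < 64 && row (unrow a b c) 0 == a && row (unrow a b c) 1 == b &&
        row (unrow a b c) 2 == c && row (unrow a b c) 3 == d)) = true := by decide +kernel

theorem code_split : ∀ y : V8, y = vec (code y % 16) + vec ((code y / 16) * 16) := by
  decide +kernel

/-- An isometry fixing the subspace pointwise is one of the unipotent elements. -/
theorem exists_Xp {g : O phi}
    (hg : ∀ n, n < 16 → (g : V8 ≃ₗ[ZMod 2] V8) (vec n) = vec n) : ∃ S, S < 64 ∧ g = Xp S := by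
  let d : Fin 4 → ℕ := fun m => code ((g : V8 ≃ₗ[ZMod 2] V8) (vec (2 ^ (4 + m.val))))
  have hd : ∀ m, vec (d m) = (g : V8 ≃ₗ[ZMod 2] V8) (vec (2 ^ (4 + m.val))) := fun m =>
    (code_spec _).2
  have hlt : ∀ m, d m < 256 := fun m => (code_spec _).1
  have hhigh : ∀ m, d m / 16 = 2 ^ m.val := fun m => by
    refine high_of_pairing _ m fun j => ?_
    have hj : 2 ^ j.val < 16 := Nat.pow_lt_pow_right (a := 2) (n := 4) (by norm_num) j.isLt
    rw [← polar_B8, ← hg _ hj, O.polar_app, polar_B8]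
    have h : ∀ j m : Fin 4, B8 (vec (2 ^ j.val)) (vec (2 ^ (4 + m.val))) =
        if j = m then 1 else 0 := by decide +kernel
    exact h j m
  let r : Fin 4 → Fin 16 := fun m => ⟨d m % 16, Nat.mod_lt _ (by norm_num)⟩
  have hr : ∀ m, d m = 2 ^ (4 + m.val) ^^^ (r m).val := fun m => by
    have h : ∀ (m : Fin 4) (r : Fin 16), 2 ^ (4 + m.val) ^^^ r.val = 16 * 2 ^ m.val + r.val := by
      decide +kernel
    rw [h, ← hhigh m]
    show d m = 16 * (d m / 16) + d m % 16
    omega
  have hq : ∀ m, q8 (vec (2 ^ (4 + m.val) ^^^ (r m).val)) = 0 := fun m => by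
    rw [← hr, hd, ← phi_q8, O.map_app, phi_q8]
    revert m; decide +kernel
  have hB : ∀ m n, B8 (vec (2 ^ (4 + m.val) ^^^ (r m).val))
      (vec (2 ^ (4 + n.val) ^^^ (r n).val)) = 0 := fun m n => by
    rw [← hr, ← hr, hd, hd, ← polar_B8, O.polar_app, polar_B8]
    revert m n; decide +kernel
  have hs := fun m n => stab_sym m n (r m) (r n) (hq m) (hq n) (hB m n)
  have hsym : symRows (r 0).val (r 1).val (r 2).val (r 3).val = true := by
    simp only [symRows, Bool.and_eq_true, Bool.not_eq_true', beq_iff_eq]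
    exact ⟨⟨⟨⟨⟨⟨⟨⟨⟨(hs 0 0).2, (hs 1 1).2⟩, (hs 2 2).2⟩, (hs 3 3).2⟩, (hs 0 1).1⟩, (hs 0 2).1⟩,
      (hs 0 3).1⟩, (hs 1 2).1⟩, (hs 1 3).1⟩, (hs 2 3).1⟩
  have h := List.all_eq_true.1 (List.all_eq_true.1 (List.all_eq_true.1 (List.all_eq_true.1
    rows_check _ (List.mem_range.2 (r 0).isLt)) _ (List.mem_range.2 (r 1).isLt)) _
    (List.mem_range.2 (r 2).isLt)) _ (List.mem_range.2 (r 3).isLt)
  rw [hsym, Bool.not_true, Bool.false_or] at h
  simp only [Bool.and_eq_true, decide_eq_true_eq, beq_iff_eq] at h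
  obtain ⟨⟨⟨⟨hS, h0⟩, h1⟩, h2⟩, h3⟩ := h
  set S := unrow (r 0).val (r 1).val (r 2).val
  refine ⟨S, hS, ?_⟩
  have hbase : ∀ k : Fin 8,
      (g : V8 ≃ₗ[ZMod 2] V8) (vec (2 ^ k.val)) = (Xp S : V8 ≃ₗ[ZMod 2] V8) (vec (2 ^ k.val)) := by
    intro k
    have hk : 2 ^ k.val < 256 := Nat.pow_lt_pow_right (a := 2) (n := 8) (by norm_num) k.isLt
    rw [Xp_app hS hk]
    fin_cases k
    · exact (hg 1 (by norm_num)).trans (by simp [Xmod, app])
    · exact (hg 2 (by norm_num)).trans (by simp [Xmod, app])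
    · exact (hg 4 (by norm_num)).trans (by simp [Xmod, app])
    · exact (hg 8 (by norm_num)).trans (by simp [Xmod, app])
    · exact (hd 0).symm.trans (congrArg vec ((hr 0).trans
        ((congrArg _ h0.symm).trans (Xmod_unit S 0).symm)))
    · exact (hd 1).symm.trans (congrArg vec ((hr 1).trans
        ((congrArg _ h1.symm).trans (Xmod_unit S 1).symm)))
    · exact (hd 2).symm.trans (congrArg vec ((hr 2).trans
        ((congrArg _ h2.symm).trans (Xmod_unit S 2).symm)))
    · exact (hd 3).symm.trans (congrArg vec ((hr 3).trans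
        ((congrArg _ h3.symm).trans (Xmod_unit S 3).symm)))
  refine O.ext_app fun y => ?_
  obtain ⟨⟨c, d'⟩, ⟨a1, b1⟩, ⟨a2, b2⟩, a3, b3⟩ := y
  have hy : (((c, d'), (a1, b1), (a2, b2), a3, b3) : V8) = c • vec (2 ^ 0) + a1 • vec (2 ^ 1) +
      a2 • vec (2 ^ 2) + a3 • vec (2 ^ 3) + d' • vec (2 ^ 4) + b1 • vec (2 ^ 5) +
      b2 • vec (2 ^ 6) + b3 • vec (2 ^ 7) := by
    revert c d' a1 b1 a2 b2 a3 b3; decide +kernel
  rw [hy]
  simp only [map_add, map_smul]
  exact congrArg₂ _ (congrArg₂ _ (congrArg₂ _ (congrArg₂ _ (congrArg₂ _ (congrArg₂ _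
    (congrArg₂ _ (congrArg _ (hbase 0)) (congrArg _ (hbase 1))) (congrArg _ (hbase 2)))
    (congrArg _ (hbase 3))) (congrArg _ (hbase 4))) (congrArg _ (hbase 5)))
    (congrArg _ (hbase 6))) (congrArg _ (hbase 7))

theorem Xp_fix {S : ℕ} (hS : S < 64) {n : ℕ} (hn : n < 16) :
    (Xp S : V8 ≃ₗ[ZMod 2] V8) (vec n) = vec n := by
  rw [Xp_app hS (by omega), Xmod, Nat.div_eq_of_lt hn]
  simp [app]

end Cfsg.Agent.PGroups.ConwayA
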