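import Cfsg.Agent.PGroups.ConwayA.Basis
import Cfsg.Agent.Golay.OctadList

/-!
The model of the elementary abelian group of order `2 ^ 11` as numbers below 2048, the candidate
orbits of length 759 and the checks identifying the right one with the octads.
-/

set_option autoImplicit false
set_option maxRecDepth 100000
set_option Elab.async false

namespace Cfsg.Agent.PGroups.ConwayA.Model

open Cfsg.Agent.Golay

/-- Conjugation by the lift of a basis vector of the second half. -/
def conjC (k x : ℕ) : ℕ :=
  x ^^^ (bif (x / 2).testBit k then 1 else 0) ^^^ 2 * row (x / 32) k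

/-- Conjugation by the lift of a vector of the second half. -/
def conjV (v x : ℕ) : ℕ :=
  let x0 := bif v.testBit 0 then conjC 0 x else x
  let x1 := bif v.testBit 1 then conjC 1 x0 else x0
  let x2 := bif v.testBit 2 then conjC 2 x1 else x1
  bif v.testBit 3 then conjC 3 x2 else x2

/-- The matrix is singular. -/
def sing (S : ℕ) : Bool :=
  (List.range 16).any fun v => !(v == 0) && app S v == 0

/-- The element commutes with all lifts of fixed vectors of its action. -/
def SO (x : ℕ) : Bool :=
  (List.range 16).all fun v => !(app (x / 32) v == 0) || conjV v x == x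

/-- The cosets' parts, thirty-two bits each. -/
def tab : ℕ := 0xa9959556566a6aa9c00303c0c00303c0c0030c30c0030c30566a9aa6a9956559c00c0330c00c0330569a6aa6a9659559596a6aa6a69595593003033030030330c003300cc003300c566aa69aa9955965566aa96aa9955695c003c003c003c003c00c3003c00c3003569aa66aa9655995596aa66aa69559953003300330033003c030030cc030030c56a66a9aa9599565c0300c03c0300c0356a69a6aa959659556a96a6aa9569595c0c00303c0c0030359a66a6aa65995953030030330300303656a6a9a9a9595650c03030c0c03030c656a9a6a9a9565950c030c030c030c03659a6a6a9a6595950c0c03030c0c0303956a6a6a6a9595950303030303030303c300003cc300003cc30000c3c30000c35a6669aaa59996555a6696aaa59969555a6966aaa59699555a9666aaa5699955cc000033cc0000333300003333000033665a69aa99a59655665a96aa99a5695500c3003c00c3003c00c300c300c300c3695a66aa96a59955965a66aa69a5995500cc003300cc0033003300330033003366695aaa9996a55566965aaa9969a55569665aaa9699a55596665aaa6999a5550000c33c0000c33c0000c3c30000c3c30000cc330000cc330000333300003333f000000ff000000f0f00000f0f00000f00f0000f00f0000f000f000f000f000f0000f00f0000f00f00000f0f00000f0f000000ff000000fffffffffefffffffe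

/-- The part in the coset of `S` selected by `b`. -/
def msk (S : ℕ) (b : Bool) : ℕ := (tab >>> (32 * (2 * S + b.toNat))) % 2 ^ 32

/-- The candidate orbit for a choice function. -/
def mem (f : ℕ → Bool) (x : ℕ) : Bool := (msk (x / 32) (f (x / 32))).testBit (x % 32)

theorem msk_zero : ((List.range 32).all fun i =>
    ((msk 0 false).testBit i == !(i == 0)) && ((msk 0 true).testBit i == !(i == 0))) = true := by
  decide +kernel

theorem msk_sing : ((List.range 64).all fun S => S == 0 || !sing S || (List.range 32).all fun i =>
    ((msk S false).testBit i == SO (32 * S + i)) &&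
      ((msk S true).testBit i == SO (32 * S + i))) = true := by
  decide +kernel

/-- Every element of a nonsingular coset is in exactly one half, a half is an orbit of the
conjugations. -/
theorem msk_ns : ((List.range 64).all fun S => sing S || (List.range 32).all fun i =>
    ((msk S false).testBit i == !((msk S true).testBit i)) &&
      (List.range 16).any fun v => conjV v (32 * S + i) ==
        32 * S + ((msk S true).testBit i).toNat) = true := by
  decide +kernel

/-- Apply a function to a number, evaluating the number first. -/
def force {α : Type} (n : ℕ) (k : ℕ → α) : α :=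
  match n with
  | 0 => k 0
  | m + 1 => k (m + 1)

theorem force_eq {α : Type} (n : ℕ) (k : ℕ → α) : force n k = k n := by cases n <;> rfl

/-- Number of members of the parts in two cosets with given sum. -/
def cnt (x T : ℕ) (bT bU : Bool) : ℕ :=
  force (msk T bT) fun m => force (msk (T ^^^ x / 32) bU) fun m' => force (x % 32) fun l =>
    ((List.range 32).filter fun i => m.testBit i && m'.testBit (i ^^^ l)).length

/-- Number of members `y` with `x + y` a member. -/
def count (f : ℕ → Bool) (x : ℕ) : ℕ :=
  ((List.range 64).map fun T => cnt x T (f T) (f (T ^^^ x / 32))).sum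

/-- Number of members. -/
def size (f : ℕ → Bool) : ℕ :=
  ((List.range 64).map fun T => ((List.range 32).filter fun i => (msk T (f T)).testBit i).length).sum

theorem cosetCard_indep : ((List.range 64).all fun T =>
    ((List.range 32).filter fun i => (msk T false).testBit i).length ==
      ((List.range 32).filter fun i => (msk T true).testBit i).length) = true := by decide +kernel

theorem cnt_one_indep : ((List.range 64).all fun T =>
    cnt 1 T false false == cnt 1 T true true) = true := by decide +kernel

theorem size_false : size (fun _ => false) = 759 := by decide +kernel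

theorem count_one_false : count (fun _ => false) 1 = 310 := by decide +kernel

theorem map_range_congr {n : ℕ} {u v : ℕ → ℕ} (h : ∀ i, i < n → u i = v i) :
    ((List.range n).map u).sum = ((List.range n).map v).sum := by
  rw [List.map_congr_left fun i hi => h i (List.mem_range.1 hi)]

theorem size_eq (f : ℕ → Bool) : size f = 759 := by
  rw [← size_false]
  refine map_range_congr fun T hT => ?_
  have h := eq_of_beq (List.all_eq_true.1 cosetCard_indep T (List.mem_range.2 hT))
  cases f T
  exacts [rfl, h.symm]

theorem count_one (f : ℕ → Bool) : count f 1 = 310 := by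
  rw [← count_one_false]
  refine map_range_congr fun T hT => ?_
  have h := eq_of_beq (List.all_eq_true.1 cnt_one_indep T (List.mem_range.2 hT))
  rw [show 1 / 32 = 0 from rfl, Nat.xor_zero]
  cases f T
  exacts [rfl, h.symm]

/-- The bits allowed at a coset, given the bit `a` at the coset of `x`. -/
def cand (S T : ℕ) (a : Bool) : List Bool := bif T == S then [a] else [false, true]

/-- The largest possible contribution of a coset. -/
def best (x T : ℕ) (a : Bool) : ℕ :=
  ((cand (x / 32) T a).flatMap fun bT =>
    (cand (x / 32) (T ^^^ x / 32) a).map fun bU => cnt x T bT bU).foldl max 0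

/-- The derivation steps. -/
def steps : List (ℕ × ℕ × ℕ × Bool) := [(12, 22, 26, false), (13, 22, 27, false), (12, 27, 23, false), (13, 33, 44, false),
    (14, 18, 28, false), (22, 44, 58, false), (12, 58, 54, false), (18, 15, 29, false),
    (14, 29, 19, false), (33, 15, 46, false), (13, 46, 35, false), (18, 46, 60, false),
    (13, 60, 49, false), (14, 60, 50, false), (13, 50, 63, true), (22, 35, 53, false),
    (12, 53, 57, false), (18, 53, 39, false), (12, 39, 43, false), (14, 39, 41, false),
    (12, 41, 37, false)]

/-- The check of one derivation step. -/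
def stepCheck (S T U : ℕ) (c : Bool) : Bool :=
  (U == S ^^^ T) && decide (S < 64) && decide (T < 64) && !(T == S) && !(U == S) &&
  [false, true].all fun a =>
    ((List.range 64).map fun T' => best (32 * S + a.toNat) T' a).sum == 310 &&
    [false, true].all fun bT => [false, true].all fun bU =>
      !(cnt (32 * S + a.toNat) T bT bU == best (32 * S + a.toNat) T a) || (xor (xor bT bU) a == c)

theorem steps_ok : (steps.all fun p => stepCheck p.1 p.2.1 p.2.2.1 p.2.2.2) = true := by
  decide +kernel

theorem half_rep : ((List.range 64).all fun S => sing S || [false, true].all fun a =>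
    (msk S a).testBit a.toNat) = true := by decide +kernel

theorem le_foldl_max {l : List ℕ} : ∀ {m : ℕ}, m ≤ l.foldl max m ∧ ∀ a ∈ l, a ≤ l.foldl max m := by
  induction l with
  | nil => exact fun {m} => ⟨le_rfl, fun a ha => absurd ha List.not_mem_nil⟩
  | cons b l ih =>
    intro m
    obtain ⟨h1, h2⟩ := ih (m := max m b)
    refine ⟨(le_max_left m b).trans h1, fun a ha => ?_⟩
    rcases List.mem_cons.1 ha with rfl | ha
    exacts [(le_max_right m _).trans h1, h2 a ha]

theorem cnt_le_best (f : ℕ → Bool) {x : ℕ} {a : Bool} (ha : f (x / 32) = a) (T : ℕ) :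
    cnt x T (f T) (f (T ^^^ x / 32)) ≤ best x T a := by
  have hc : ∀ T, f T ∈ cand (x / 32) T a := fun T => by
    unfold cand
    by_cases e : T = x / 32
    · subst e; simp [ha]
    · rw [beq_false_of_ne e, cond_false]; cases f T <;> simp
  exact le_foldl_max.2 _ (List.mem_flatMap.2 ⟨f T, hc T, List.mem_map.2 ⟨_, hc _, rfl⟩⟩)

theorem sum_tight {n : ℕ} {u v : ℕ → ℕ} (hle : ∀ i, i < n → u i ≤ v i)
    (hsum : ((List.range n).map u).sum = ((List.range n).map v).sum) :
    ∀ i, i < n → u i = v i := by
  induction n with
  | zero => exact fun i hi => absurd hi (Nat.not_lt_zero i)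
  | succ n ih =>
    simp only [List.range_succ, List.map_append, List.map_cons, List.map_nil, List.sum_append,
      List.sum_cons, List.sum_nil, add_zero] at hsum
    have h1 : ((List.range n).map u).sum ≤ ((List.range n).map v).sum :=
      List.sum_le_sum fun i hi => hle i (by have := List.mem_range.1 hi; omega)
    have h2 := hle n (Nat.lt_succ_self n)
    intro i hi
    rcases Nat.lt_succ_iff_lt_or_eq.1 hi with h | rfl
    · exact ih (fun i hi => hle i (by omega)) (by omega) i h
    · omega

/-- The equations forced by the counts. -/
theorem step_eq (f : ℕ → Bool) (hcount : ∀ x, x < 2048 → mem f x = true → count f x = 310)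
    {S T U : ℕ} {c : Bool} (hp : (S, T, U, c) ∈ steps) (hns : sing S = false) :
    xor (xor (f T) (f U)) (f S) = c := by
  have h := List.all_eq_true.1 steps_ok _ hp
  simp only [stepCheck, Bool.and_eq_true, decide_eq_true_eq, beq_iff_eq] at h
  obtain ⟨⟨⟨⟨⟨hU, hS⟩, hT⟩, -⟩, -⟩, hall⟩ := h
  have ha := List.all_eq_true.1 hall (f S) (by cases f S <;> simp)
  rw [Bool.and_eq_true, beq_iff_eq] at ha
  obtain ⟨hsum, hpar⟩ := ha
  set x := 32 * S + (f S).toNat with hx
  have hb : (f S).toNat ≤ 1 := Bool.toNat_le _
  have hxd : x / 32 = S := by omega
  have hxm : x % 32 = (f S).toNat := by omega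
  have hmem : mem f x = true := by
    rw [mem, hxd, hxm]
    have h2 := List.all_eq_true.1 half_rep S (List.mem_range.2 hS)
    rw [hns, Bool.false_or, List.all_eq_true] at h2
    exact h2 (f S) (by cases f S <;> simp)
  have hc := hcount x (by omega) hmem
  have hle : ∀ T', T' < 64 → cnt x T' (f T') (f (T' ^^^ x / 32)) ≤ best x T' (f S) :=
    fun T' _ => cnt_le_best f (by rw [hxd]) T'
  have heq := sum_tight hle (hc.trans hsum.symm) T hT
  rw [hxd, Nat.xor_comm T S, ← hU] at heq
  have h3 := List.all_eq_true.1 (List.all_eq_true.1 hpar (f T) (by cases f T <;> simp)) (f U)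
    (by cases f U <;> simp)
  rw [heq, beq_self_eq_true, Bool.not_true, Bool.false_or, beq_iff_eq] at h3
  exact h3

/-- The linear functional with given coefficients. -/
def Lin (l S : ℕ) : Bool :=
  ((List.range 6).filter fun k => l.testBit k && S.testBit k).length % 2 == 1

/-- The gauge shift. -/
def dz (l x : ℕ) : ℕ := x ^^^ (Lin l (x / 32)).toNat

/-- The right choice. -/
def good (S : ℕ) : Bool := (1307814827750096896 : ℕ).testBit S

/-- The other choice satisfying the equations. -/
def bad (S : ℕ) : Bool := (9223372036854775808 : ℕ).testBit S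

/-- The cosets normalised to the value `false`. -/
def base : List ℕ := [12, 13, 14, 18, 22, 33]

theorem gauge_exists : (([false, true].all fun a => [false, true].all fun b =>
    [false, true].all fun c => [false, true].all fun d => [false, true].all fun e =>
      [false, true].all fun g => (List.range 64).any fun l =>
        (base.map fun S => Lin l S) == [a, b, c, d, e, g])) = true := by decide +kernel

theorem Lin_steps : ((List.range 64).all fun l => steps.all fun p =>
    xor (xor (Lin l p.2.1) (Lin l p.2.2.1)) (Lin l p.1) == false) = true := by decide +kernel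

/-- Replaying the derivation. -/
def replay : List ℕ → List (ℕ × ℕ × ℕ × Bool) → (ℕ → Bool) → Bool
  | K, [], _ => (List.range 64).all fun S => sing S || K.contains S
  | K, (S, T, U, c) :: r, h =>
    K.contains S && K.contains T && (xor (xor (h T) (h U)) (h S) == c) && replay (U :: K) r h

theorem replay_ok : (replay (15 :: base) steps good && replay (15 :: base) steps bad &&
    !(good 15 == bad 15) && base.all (fun S => !good S && !bad S)) = true := by
  decide +kernel

theorem steps_ns : (steps.all fun p => !sing p.1) = true := by decide +kernel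

theorem replay_sound {g h : ℕ → Bool} :
    ∀ {L : List (ℕ × ℕ × ℕ × Bool)} {K : List ℕ},
      (∀ p ∈ L, xor (xor (g p.2.1) (g p.2.2.1)) (g p.1) = p.2.2.2) → replay K L h = true →
      (∀ S ∈ K, g S = h S) → ∀ S, S < 64 → sing S = false → g S = h S
  | [], K, _, hr, hK, S, hS, hns => by
    have := List.all_eq_true.1 hr S (List.mem_range.2 hS)
    rw [hns, Bool.false_or, List.contains_iff_mem] at this
    exact hK S this
  | (A, B, C, c) :: r, K, hg, hr, hK, S, hS, hns => by
    simp only [replay, Bool.and_eq_true, List.contains_iff_mem, beq_iff_eq] at hr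
    obtain ⟨⟨⟨hA, hB⟩, hh⟩, hr⟩ := hr
    refine replay_sound (fun p hp => hg p (List.mem_cons_of_mem _ hp)) hr (fun X hX => ?_) S hS hns
    rcases List.mem_cons.1 hX with rfl | hX
    · have e := hg _ List.mem_cons_self
      simp only [hK A hA, hK B hB] at e
      rw [← hh] at e
      revert e
      cases h A <;> cases h B <;> cases h X <;> cases g X <;> simp
    · exact hK X hX

theorem dz_check : ((List.range 64).all fun S => [false, true].all fun b => [false, true].all fun l =>
    (S == 0 && l) || (List.range 32).all fun i =>
      (msk S b).testBit i == (msk S (xor b l)).testBit (i ^^^ l.toNat)) = true := by decide +kernel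

theorem msk_sing_indep : ((List.range 64).all fun S => !sing S ||
    msk S false == msk S true) = true := by decide +kernel

theorem Lin_zero (l : ℕ) : Lin l 0 = false := by simp [Lin]

theorem dz_mod (l x : ℕ) : dz l x / 32 = x / 32 ∧ dz l x % 32 = x % 32 ^^^ (Lin l (x / 32)).toNat := by
  set t := (Lin l (x / 32)).toNat with ht
  have hb : t ≤ 1 := ht ▸ Bool.toNat_le _
  refine ⟨?_, ?_⟩
  · show (x ^^^ t) / 32 = x / 32
    have e := Nat.shiftRight_xor_distrib (a := x) (b := t) (i := 5)
    simp only [Nat.shiftRight_eq_div_pow] at e
    norm_num at e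
    rw [e, Nat.div_eq_of_lt (by omega : t < 32), Nat.xor_zero]
  · show (x ^^^ t) % 32 = x % 32 ^^^ t
    rw [show (32 : ℕ) = 2 ^ 5 from rfl, Nat.xor_mod_two_pow,
      Nat.mod_eq_of_lt (by omega : t < 2 ^ 5)]

theorem dz_lt (l : ℕ) {x : ℕ} (hx : x < 2048) : dz l x < 2048 :=
  Nat.xor_lt_two_pow (n := 11) hx (by have := Bool.toNat_le (Lin l (x / 32)); omega)

theorem dz_dz (l x : ℕ) : dz l (dz l x) = x := by
  unfold dz
  have e := (dz_mod l x).1
  unfold dz at e
  rw [e, Nat.xor_assoc, Nat.xor_self, Nat.xor_zero]

theorem mem_dz {f h : ℕ → Bool} {l : ℕ}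
    (hf : ∀ S, S < 64 → sing S = false → xor (f S) (Lin l S) = h S) {x : ℕ} (hx : x < 2048) :
    mem f x = mem h (dz l x) := by
  obtain ⟨e1, e2⟩ := dz_mod l x
  set S := x / 32 with hSdef
  have hS : S < 64 := by omega
  have hm : ∀ b, msk S (h S) = msk S b ∨ (sing S = false) := fun b => by
    by_cases hs : sing S = true
    · left
      have := List.all_eq_true.1 msk_sing_indep S (List.mem_range.2 hS)
      rw [hs, Bool.not_true, Bool.false_or, beq_iff_eq] at this
      cases b <;> cases h S <;> simp [this]
    · exact Or.inr (by simpa using hs)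
  rw [mem, mem, ← hSdef, e1, e2]
  have h1 := List.all_eq_true.1 (List.all_eq_true.1 (List.all_eq_true.1 dz_check S
    (List.mem_range.2 hS)) (f S) (by cases f S <;> simp)) (Lin l S) (by cases Lin l S <;> simp)
  by_cases h0 : S = 0
  · rw [show Lin l S = false by rw [h0, Lin_zero]]
    rcases hm (f S) with hm' | hs
    · rw [hm']; simp
    · exact absurd (h0 ▸ hs : sing 0 = false) (by decide +kernel)
  · rw [beq_false_of_ne h0, Bool.false_and, Bool.false_or, List.all_eq_true] at h1
    rw [eq_of_beq (h1 (x % 32) (List.mem_range.2 (Nat.mod_lt _ (by norm_num))))]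
    rcases hm (xor (f S) (Lin l S)) with hm' | hs
    · rw [hm']
    · rw [hf S hS hs]

/-- The images of the basis in the code. -/
def rows : List ℕ := [5279, 1009728, 1256224, 2220640, 4645632, 208020, 90318, 418953, 75309, 140167, 63108]

/-- The map to the code. -/
def iota (x : ℕ) : ℕ :=
  ((List.range 11).filter fun k => x.testBit k).foldl (fun m k => m ^^^ rows.getD k 0) 0

theorem iota_octads : ((List.range 2048).all fun x =>
    mem good x == (popCnt (iota x) == 8 || popCnt (fullMask ^^^ iota x) == 8)) =
      true := by decide +kernel

theorem iota_kernel : ((List.range 2048).all fun x =>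
    (x == 0) || (!(iota x == 0) && !(iota x == fullMask) && decide (iota x < 2 ^ 24))) = true := by
  decide +kernel

theorem iota_span : (basisList.all fun b => (List.range 2048).any fun x =>
    iota x == b || fullMask ^^^ iota x == b) = true := by decide +kernel

theorem iota_code : ((List.range 11).all fun k => inCode (rows.getD k 0)) = true := by
  decide +kernel

theorem bad_count : count bad 32 = 358 ∧ mem bad 32 = true := by decide +kernel

end Cfsg.Agent.PGroups.ConwayA.Model
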