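import Cfsg.Agent.PGroups.ConwayA.Swap
import Cfsg.Agent.PGroups.ConwayA.Model

/-!
Conjugation by lifts of the complementary singular subspace, and the elements commuting with the
lifts of all vectors fixed by their action.
-/

set_option autoImplicit false
set_option maxRecDepth 100000
set_option linter.unusedSectionVars false
set_option linter.style.longLine false

namespace Cfsg.Agent.PGroups.ConwayA

open QuadraticMap Cfsg.Agent.Orthogonal Cfsg.Agent.H73.Conway Cfsg.Agent.H92.ExtraForm Model

variable {G : Type*} [Group G] [Finite G] {z : G} {Q : Subgroup G}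

/-- The element commutes with every element of `Q` whose image it fixes. -/
def SOp (h : Setup z Q) (a : G) : Prop :=
  ∀ q ∈ Q, (h.ρ a : V8 ≃ₗ[ZMod 2] V8) (h.π q) = h.π q → Commute a q

theorem SOp_conj (h : Setup z Q) {g a : G} (hg : g * z = z * g) (ha : a * z = z * a)
    (hSO : SOp h a) : SOp h (g * a * g⁻¹) := by
  intro q hq hfix
  have hgi := h.inv_comm hg
  have hq' : g⁻¹ * q * g ∈ Q := by simpa using h.norm g⁻¹ hgi q hq
  have hπ : h.π (g⁻¹ * q * g) = ((h.ρ g)⁻¹ : O phi).1 (h.π q) := by
    have := h.ρ_π g⁻¹ hgi q hq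
    rwa [inv_inv, h.ρ_inv hg] at this
  have hfix' : (h.ρ a : V8 ≃ₗ[ZMod 2] V8) (h.π (g⁻¹ * q * g)) = h.π (g⁻¹ * q * g) := by
    rw [hπ]
    apply (h.ρ g : V8 ≃ₗ[ZMod 2] V8).injective
    rw [h.ρ_conj hg ha, Subgroup.coe_mul, Subgroup.coe_mul, mul_app, mul_app] at hfix
    rw [hfix, ← mul_app, ← Subgroup.coe_mul, mul_inv_cancel]
    rfl
  have e := (hSO _ hq' hfix').eq
  show g * a * g⁻¹ * q = q * (g * a * g⁻¹)
  calc g * a * g⁻¹ * q = g * (a * (g⁻¹ * q * g)) * g⁻¹ := by group
    _ = q * (g * a * g⁻¹) := by rw [e]; group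

variable (h : Setup z Q) {s w : G} (P : Pair h s w) (hGd : Gd h s w)
include P hGd

/-- The rows accumulated along a word. -/
def rowsum (m : ℕ) : ℕ → ℕ → ℕ
  | 0, _ => 0
  | k + 1, S => rowsum m k S ^^^ (bif S.testBit k then row (2 ^ k) m else 0)

omit P hGd in
theorem rowsum_row {S m : ℕ} (hS : S < 64) (hm : m < 4) : rowsum m 6 S = row S m := by
  have h : ∀ S : Fin 64, ∀ m : Fin 4, rowsum m.val 6 S.val = row S.val m.val := by decide +kernel
  exact h ⟨S, hS⟩ ⟨m, hm⟩

theorem conj_word {m : ℕ} (hm : m < 4) (S : ℕ) : ∀ {k : ℕ}, k ≤ 6 →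
    gF h m * word (gA h) k S * (gF h m)⁻¹ = lE h (rowsum m k S) * word (gA h) k S
  | 0, _ => by simp [word, rowsum, lE_zero h]
  | k + 1, hk => by
    have hk' : k < 6 := by omega
    have hw : word (gA h) k S ∈ AU h := word_mem (fun i hi => (gA_spec h (by omega)).1) S
    simp only [word, rowsum]
    rw [← conj_mul, conj_word hm S (by omega : k ≤ 6), lE_xor]
    cases S.testBit k
    · simp [lE_zero h]
    · simp only [cond_true]
      rw [(gA_spec h hk').2.2 m hm]
      rw [mul_assoc, ← mul_assoc (word (gA h) k S),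
        ← (eU_central h (lE_mem h (row (2 ^ k) m)) hw).eq, mul_assoc, ← mul_assoc]

omit P hGd in
theorem el_parts {b n : ℕ} (hb : b < 2) (hn : n < 16) :
    el h (b + 2 * n) = zp z (bz b 0) * lE h n := by
  rw [el, show (b + 2 * n) / 2 % 16 = n by omega, show (b + 2 * n) / 32 = 0 by omega, word_zero,
    mul_one]
  congr 2
  interval_cases b <;> simp [bz, Nat.testBit_zero, Nat.add_mod, Nat.mul_mod]

omit P hGd in
theorem conjC_lt {k x : ℕ} (hx : x < 2048) : conjC k x < 2048 := by
  refine Nat.xor_lt_two_pow (n := 11) (Nat.xor_lt_two_pow (n := 11) hx ?_) ?_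
  · cases (x / 2).testBit k <;> norm_num
  · have := row_lt (x / 32) k
    omega

theorem el_conjC {k x : ℕ} (hk : k < 4) (hx : x < 2048) :
    gF h k * el h x * (gF h k)⁻¹ = el h (conjC k x) := by
  have hfQ := gF_mem h k
  set n := x / 2 % 16 with hn
  have hn16 : n < 16 := Nat.mod_lt _ (by norm_num)
  have hbit : ∀ n : Fin 16, ∀ k : Fin 4,
      B8 (vec n.val) (vec (2 ^ (4 + k.val))) = bz n.val k.val := by decide +kernel
  have e1 : gF h k * lE h n * (gF h k)⁻¹ = lE h n * zp z (bz n k) := by
    rw [conjQ h (lE_mem h n).1 hfQ, π_lE h hn16, gF, (lift_spec h _).2]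
    exact congrArg (fun i => _ * zp z i) (hbit ⟨n, hn16⟩ ⟨k, hk⟩)
  have hr := row_lt (x / 32) k
  have hb : bz n k = bz (x / 2) k := by
    unfold bz
    rw [hn, show (16 : ℕ) = 2 ^ 4 from rfl, Nat.testBit_mod_two_pow, decide_eq_true hk,
      Bool.true_and]
  set c := (bif (x / 2).testBit k then 1 else 0 : ℕ) with hc
  have hc2 : c < 2 := by rw [hc]; cases (x / 2).testBit k <;> norm_num
  have ec : el h c = zp z (bz n k) := by
    have := el_parts h hc2 (show 0 < 16 by norm_num)
    rw [mul_zero, add_zero, lE_zero, mul_one] at this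
    rw [this, hb, hc]
    unfold bz
    cases (x / 2).testBit k <;> rfl
  have er : el h (2 * row (x / 32) k) = lE h (row (x / 32) k) := by
    have := el_parts h (show 0 < 2 by norm_num) hr
    rw [zero_add] at this
    rw [this, show bz 0 0 = 0 from rfl, zp_zero, one_mul]
  rw [show conjC k x = x ^^^ c ^^^ 2 * row (x / 32) k from rfl, el_xor h P hGd, el_xor h P hGd,
    ec, er]
  show gF h k * (zp z (bz x 0) * lE h n * word (gA h) 6 (x / 32)) * (gF h k)⁻¹ =
    zp z (bz x 0) * lE h n * word (gA h) 6 (x / 32) * zp z (bz n k) * lE h (row (x / 32) k)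
  rw [← conj_mul, ← conj_mul, e1, conj_word h P hGd hk (x / 32) le_rfl,
    rowsum_row (by omega) hk, (zp_central (h.le _ hfQ) _).eq, mul_inv_cancel_right]
  have c1 := eU_central h (lE_mem h (row (x / 32) k)) (wordA_mem h (x / 32))
  have c2 := eU_central h (zp_mem_eU h (bz n k)) (wordA_mem h (x / 32))
  calc zp z (bz x 0) * (lE h n * zp z (bz n k)) *
        (lE h (row (x / 32) k) * word (gA h) 6 (x / 32))
      = zp z (bz x 0) * lE h n * (zp z (bz n k) * word (gA h) 6 (x / 32)) *
          lE h (row (x / 32) k) := by rw [c1.eq]; group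
    _ = _ := by rw [c2.eq]; group

theorem el_conjV {v x : ℕ} (hv : v < 16) (hx : x < 2048) :
    lF h v * el h x * (lF h v)⁻¹ = el h (conjV v x) ∧ conjV v x < 2048 := by
  have step : ∀ (b : Bool) {k y : ℕ}, k < 4 → y < 2048 →
      (bif b then gF h k else 1) * el h y * (bif b then gF h k else 1)⁻¹ =
        el h (bif b then conjC k y else y) ∧ (bif b then conjC k y else y) < 2048 := by
    intro b k y hk hy
    cases b
    · exact ⟨by simp, hy⟩
    · exact ⟨el_conjC h P hGd hk hy, conjC_lt hy⟩
  have hrev : lF h v = (bif v.testBit 3 then gF h 3 else 1) * ((bif v.testBit 2 then gF h 2 else 1) *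
      ((bif v.testBit 1 then gF h 1 else 1) * (bif v.testBit 0 then gF h 0 else 1))) := by
    have hc : ∀ i j, i < 4 → j < 4 → Commute (bif v.testBit i then gF h i else 1)
        (bif v.testBit j then gF h j else 1) := by
      intro i j hi hj
      cases v.testBit i
      · exact Commute.one_left _
      · cases v.testBit j
        · exact Commute.one_right _
        · exact (gF_facts h i j hi hj).1
    simp only [lF, word, one_mul]
    rw [(((hc 0 3 (by norm_num) (by norm_num)).mul_left
        (hc 1 3 (by norm_num) (by norm_num))).mul_left (hc 2 3 (by norm_num) (by norm_num))).eq,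
      ((hc 0 2 (by norm_num) (by norm_num)).mul_left (hc 1 2 (by norm_num) (by norm_num))).eq,
      (hc 0 1 (by norm_num) (by norm_num)).eq]
  obtain ⟨e0, l0⟩ := step (v.testBit 0) (show 0 < 4 by norm_num) hx
  obtain ⟨e1', l1⟩ := step (v.testBit 1) (show 1 < 4 by norm_num) l0
  obtain ⟨e2', l2⟩ := step (v.testBit 2) (show 2 < 4 by norm_num) l1
  obtain ⟨e3, l3⟩ := step (v.testBit 3) (show 3 < 4 by norm_num) l2
  refine ⟨?_, l3⟩
  rw [hrev]
  show _ = el h (bif v.testBit 3 then conjC 3 _ else _)
  rw [← e3, ← e2', ← e1', ← e0]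
  group

theorem SOp_iff {x : ℕ} (hx : x < 2048) : SOp h (el h x) ↔ SO x = true := by
  have hS : x / 32 < 64 := by omega
  simp only [SO, List.all_eq_true, List.mem_range, Bool.or_eq_true, Bool.not_eq_true', beq_iff_eq,
    beq_eq_false_iff_ne]
  constructor
  · intro hSO v hv
    by_cases hker : app (x / 32) v = 0
    · right
      have e := hSO (lF h v) (lF_mem h v) (by
        rw [el_rho h, π_lF h hv, Xp_app hS (by omega), Xmod, Nat.mul_div_cancel _ (by norm_num),
          hker, Nat.xor_zero])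
      obtain ⟨e1', l1⟩ := el_conjV h P hGd hv hx
      rw [← e.eq, mul_inv_cancel_right] at e1'
      exact el_inj h l1 hx e1'.symm
    · exact Or.inl hker
  · intro hall q hq hfix
    obtain ⟨hm, hmq⟩ := code_spec (h.π q)
    set m := code (h.π q)
    rw [← hmq, el_rho h, Xp_app hS hm] at hfix
    have hm' := vec_inj (Xmod_lt _ hm) hm hfix
    have hker : app (x / 32) (m / 16) = 0 := by
      rw [Xmod] at hm'
      exact Nat.xor_right_injective (a₁ := app (x / 32) (m / 16)) (a₂ := 0)
        (hm'.trans (Nat.xor_zero m).symm)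
    have hv : m / 16 < 16 := by omega
    obtain ⟨l, hl⟩ := Q_decomp h hq (mul_mem (lE_mem h (m % 16)).1 (lF_mem h (m / 16))) (by
      rw [h.π_mul _ (lE_mem h _).1 _ (lF_mem h _), π_lE h (Nat.mod_lt _ (by norm_num)),
        π_lF h hv, ← hmq, ← vec_xor]
      have key : ∀ k : Fin 256, k.val % 16 ^^^ k.val / 16 * 16 = k.val := by decide +kernel
      rw [key ⟨m, hm⟩])
    obtain ⟨e1', -⟩ := el_conjV h P hGd hv hx
    rw [(hall _ hv).resolve_left (fun hne => hne hker), mul_inv_eq_iff_eq_mul] at e1'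
    rw [hl]
    refine Commute.mul_right (zp_central (AU_comm_z h (el_mem h x)) l) ?_
    exact Commute.mul_right (eU_central h (lE_mem h _) (el_mem h x)).symm
      (show Commute (el h x) (lF h (m / 16)) from e1'.symm)

end Cfsg.Agent.PGroups.ConwayA
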