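import Cfsg.Agent.PGroups.ConwayA.Orbit

/-!
The orbit of `z` has length 759 and is, after a change of lifts, the set of octads of the model.
-/

set_option autoImplicit false
set_option maxRecDepth 100000
set_option linter.unusedSectionVars false
set_option linter.unusedVariables false
set_option linter.style.longLine false
set_option linter.style.haveILetI false

namespace Cfsg.Agent.PGroups.ConwayA

open QuadraticMap Cfsg.Agent.Orthogonal Cfsg.Agent.H73.Conway Cfsg.Agent.H92.ExtraForm Model

variable {G : Type*} [Group G] [Finite G] {z : G} {Q : Subgroup G}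

/-- Membership in the orbit, as a boolean of the code. -/
noncomputable def ob (h : Setup z Q) (x : ℕ) : Bool :=
  haveI := Classical.propDecidable (Orb h (el h x))
  decide (Orb h (el h x))

theorem ob_iff (h : Setup z Q) (x : ℕ) : ob h x = true ↔ Orb h (el h x) := by
  simp [ob]

theorem ob_congr (h : Setup z Q) {x y : ℕ} (e : Orb h (el h x) ↔ Orb h (el h y)) :
    ob h x = ob h y := Bool.eq_iff_iff.2 ((ob_iff h x).trans (e.trans (ob_iff h y).symm))

/-- Members of the orbit in a coset. -/
noncomputable def cS (h : Setup z Q) (S : ℕ) : ℕ :=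
  ((Finset.range 32).filter fun i => ob h (32 * S + i) = true).card

theorem filter_range_card (n : ℕ) (p : ℕ → Bool) :
    ((Finset.range n).filter fun i => p i = true).card = ((List.range n).filter p).length := by
  induction n with
  | zero => rfl
  | succ n ih =>
    rw [Finset.range_add_one, Finset.filter_insert, List.range_succ, List.filter_append,
      List.length_append, ← ih]
    by_cases hp : p n = true
    · rw [if_pos hp, Finset.card_insert_of_notMem (by simp)]
      simp [hp]
    · rw [if_neg hp]; simp [hp]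

theorem sum_blocks (n : ℕ) (p : ℕ → Bool) :
    ((Finset.range (32 * n)).filter fun x => p x = true).card =
      ((List.range n).map fun T => ((List.range 32).filter fun i => p (32 * T + i)).length).sum := by
  rw [filter_range_card]
  induction n with
  | zero => rfl
  | succ n ih =>
    rw [Nat.mul_succ, List.range_add, List.filter_append, List.length_append, ih, List.range_succ (n := n),
      List.map_append, List.sum_append, List.filter_map, List.length_map]
    simp [Function.comp_def]

theorem code_xor {x y : ℕ} : (x ^^^ y) / 32 = x / 32 ^^^ y / 32 ∧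
    (x ^^^ y) % 32 = x % 32 ^^^ y % 32 := by
  refine ⟨?_, ?_⟩
  · have e := Nat.shiftRight_xor_distrib (a := x) (b := y) (i := 5)
    simpa only [Nat.shiftRight_eq_div_pow] using e
  · rw [show (32 : ℕ) = 2 ^ 5 from rfl, Nat.xor_mod_two_pow]

theorem count_eq (f : ℕ → Bool) (x : ℕ) :
    count f x = ((Finset.range 2048).filter fun y => (mem f y && mem f (y ^^^ x)) = true).card := by
  rw [show (2048 : ℕ) = 32 * 64 from rfl, sum_blocks]
  refine map_range_congr fun T _ => ?_
  simp only [cnt, force_eq]
  refine congrArg List.length (List.filter_congr fun i hi => ?_)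
  rw [List.mem_range] at hi
  simp only [mem, code_xor.1, code_xor.2, show (32 * T + i) / 32 = T by omega,
    show (32 * T + i) % 32 = i by omega]

theorem size_eq_card (f : ℕ → Bool) :
    ((Finset.range 2048).filter fun y => mem f y = true).card = size f := by
  rw [show (2048 : ℕ) = 32 * 64 from rfl, sum_blocks]
  refine map_range_congr fun T _ => ?_
  refine congrArg List.length (List.filter_congr fun i hi => ?_)
  rw [List.mem_range] at hi
  simp only [mem, show (32 * T + i) / 32 = T by omega, show (32 * T + i) % 32 = i by omega]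

theorem half_count : ((List.range 64).all fun S => sing S || [false, true].all fun p0 =>
    [false, true].all fun p1 => ((List.range 32).filter fun i =>
      bif (msk S true).testBit i then p1 else p0).length == 16 * (p0.toNat + p1.toNat)) = true := by
  decide +kernel

theorem sing_total : ((List.range 64).map fun S => bif sing S || S == 0 then
    ((List.range 32).filter fun i => (msk S false).testBit i).length else 0).sum = 311 := by
  decide +kernel

theorem ns_total : ((List.range 64).filter fun S => !(sing S || S == 0)).length = 28 := by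
  decide +kernel

theorem zero_sing : sing 0 = true := by decide +kernel

theorem two_pow_mod : ∀ p ∈ [311, 71], ∀ k, k < 11 → 2 ^ k % p ≠ 2048 % p := by decide +kernel

theorem Lin_one : ((List.range 64).all fun l => (List.range 64).all fun S =>
    Lin l (S ^^^ 1) == xor (Lin l S) (Lin l 1)) = true := by decide +kernel

variable (h : Setup z Q) {s w : G} (P : Pair h s w) (hGd : Gd h s w)
include P hGd

omit P hGd in
theorem ob_E {i : ℕ} (hi : i < 32) (hne : el h i = 1) : ob h i = false := by
  rw [Bool.eq_false_iff, ne_eq, ob_iff, hne]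
  rintro ⟨n, -, hn⟩
  exact h.z_ne (conj_eq_one_iff.mp hn)

theorem ob_zero_coset {i : ℕ} (hi : i < 32) : ob h i = !(i == 0) := by
  have hE : el h i ∈ eU h := AU_inf_Q h (el_mem h i) ((h.ρ_ker _ (AU_comm_z h (el_mem h i))).1 (by
    rw [el_rho h, show i / 32 = 0 by omega, Xp_zero]))
  by_cases h0 : i = 0
  · subst h0
    exact ob_E h hi (el_zero h)
  · rw [beq_false_of_ne h0, Bool.not_false, ob_iff]
    exact Orb_eU h P hGd hE fun e => h0 (el_inj h (by omega) (by norm_num) (e.trans (el_zero h).symm))

theorem ob_sing {x : ℕ} (hx : x < 2048) (h0 : x / 32 ≠ 0) (hs : sing (x / 32) = true) :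
    ob h x = SO x := by
  rw [Bool.eq_iff_iff, ob_iff,
    Orb_iff_sing h P hGd (by omega) h0 hs (el_mem h x) (el_rho h x), SOp_iff h P hGd hx]

theorem ob_conjV {v x : ℕ} (hv : v < 16) (hx : x < 2048) : ob h (conjV v x) = ob h x := by
  refine ob_congr h ?_
  rw [← (el_conjV h P hGd hv hx).1]
  exact Orb_conj_iff h (Q_norm h (lF_mem h v))

theorem ob_ns {S i : ℕ} (hS : S < 64) (hs : sing S = false) (hi : i < 32) :
    ob h (32 * S + i) = bif (msk S true).testBit i then ob h (32 * S + 1) else ob h (32 * S) := by
  have hh := List.all_eq_true.1 msk_ns S (List.mem_range.2 hS)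
  rw [hs, Bool.false_or] at hh
  have h1 := List.all_eq_true.1 hh i (List.mem_range.2 hi)
  rw [Bool.and_eq_true, List.any_eq_true] at h1
  obtain ⟨-, v, hv, he⟩ := h1
  rw [← ob_conjV h P hGd (List.mem_range.1 hv) (by omega : 32 * S + i < 2048), eq_of_beq he]
  cases (msk S true).testBit i <;> rfl

theorem cS_ns {S : ℕ} (hS : S < 64) (hs : sing S = false) :
    cS h S = 16 * ((ob h (32 * S)).toNat + (ob h (32 * S + 1)).toNat) := by
  have hc := List.all_eq_true.1 half_count S (List.mem_range.2 hS)
  rw [hs, Bool.false_or] at hc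
  have := eq_of_beq (List.all_eq_true.1 (List.all_eq_true.1 hc (ob h (32 * S))
    (by cases ob h (32 * S) <;> simp)) (ob h (32 * S + 1)) (by cases ob h (32 * S + 1) <;> simp))
  rw [cS, filter_range_card, ← this]
  exact congrArg List.length (List.filter_congr fun i hi =>
    ob_ns h P hGd hS hs (List.mem_range.1 hi))

omit P hGd in
theorem cS_step (t : Fin 12) {S : ℕ} (hS : S < 64) : cS h S ≤ cS h (TS t.val S) := by
  obtain ⟨g, hg, hgρ⟩ := h.ρ_surj (Tk t) (Tk_mem t)
  have hgN := Stab_norm h (Stab_T h hg hgρ)
  have hex : ∀ i, ∃ x, x < 2048 ∧ g * el h (32 * S + i) * g⁻¹ = el h x := fun i =>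
    exists_el h (Stab_AU h (Stab_T h hg hgρ) (el_mem h _))
  choose f hf hfe using hex
  have hdiv : ∀ i, i < 32 → f i / 32 = TS t.val S := fun i hi => by
    refine Xp_inj (by have := hf i; omega) (TS_spec t hS).1 ?_
    rw [← el_rho h, ← hfe i, h.ρ_conj hg (AU_comm_z h (el_mem h _)), el_rho h,
      show (32 * S + i) / 32 = S by omega, hgρ, (TS_spec t hS).2, mul_inv_cancel_right]
  refine Finset.card_le_card_of_injOn (fun i => f i % 32) (fun i hi => ?_) (fun i hi j hj e => ?_)
  · simp only [Finset.coe_filter, Finset.mem_range, Set.mem_setOf_eq] at hi ⊢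
    refine ⟨Nat.mod_lt _ (by norm_num), ?_⟩
    rw [show 32 * TS t.val S + f i % 32 = f i by rw [← hdiv i hi.1]; omega, ob_iff, ← hfe i,
      Orb_conj_iff h hgN, ← ob_iff]
    exact hi.2
  · simp only [Finset.coe_filter, Finset.mem_range, Set.mem_setOf_eq] at hi hj
    have e' : f i = f j := by
      have e'' : f i % 32 = f j % 32 := e
      have := hdiv i hi.1
      have := hdiv j hj.1
      omega
    have := hfe i
    rw [e', ← hfe j] at this
    have := el_inj h (by omega) (by omega) (mul_left_cancel (mul_right_cancel this))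
    omega

theorem cS_const {S : ℕ} (hS : S < 64) (hs : sing S = false) : cS h S = cS h 12 := by
  obtain ⟨R, hall, hsound⟩ := runC_any (P := fun S => S < 64 ∧ cS h S = cS h 12) nsCert_ok
    (fun t S hS => by
      refine ⟨(TS_spec t hS.1).1, le_antisymm ?_ ?_⟩
      · have := cS_step h t (TS_spec t hS.1).1
        rw [TS_invol t ⟨S, hS.1⟩] at this
        exact this.trans hS.2.le
      · exact hS.2.symm.le.trans (cS_step h t hS.1))
    (fun S hS => by rw [List.mem_singleton] at hS; subst hS; exact ⟨by norm_num, rfl⟩)
  have h1 := List.all_eq_true.1 hall S (List.mem_range.2 hS)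
  rw [hs, Bool.false_or, List.contains_iff_mem] at h1
  exact (hsound S h1).2

/-- The length of the orbit. -/
theorem orbit_total : ((Finset.range 2048).filter fun x => ob h x = true).card = 311 + 28 * cS h 12 := by
  rw [show (2048 : ℕ) = 32 * 64 from rfl, sum_blocks]
  have key : ∀ S, S < 64 → ((List.range 32).filter fun i => ob h (32 * S + i)).length =
      (bif sing S || S == 0 then ((List.range 32).filter fun i => (msk S false).testBit i).length
        else 0) + (bif sing S || S == 0 then 0 else cS h 12) := by
    intro S hS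
    by_cases h0 : S = 0
    · subst h0
      rw [zero_sing]
      simp only [Bool.true_or, cond_true, add_zero, mul_zero, zero_add]
      refine congrArg List.length (List.filter_congr fun i hi => ?_)
      have hm := List.all_eq_true.1 msk_zero i hi
      rw [Bool.and_eq_true, beq_iff_eq] at hm
      rw [ob_zero_coset h P hGd (List.mem_range.1 hi), hm.1]
    · cases hs : sing S
      · rw [beq_false_of_ne h0, Bool.or_self, cond_false, cond_false, zero_add,
          ← cS_const h P hGd hS hs, cS, filter_range_card]
      · simp only [Bool.true_or, cond_true, add_zero]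
        refine congrArg List.length (List.filter_congr fun i hi => ?_)
        have hi' := List.mem_range.1 hi
        have hm := List.all_eq_true.1 msk_sing S (List.mem_range.2 hS)
        rw [beq_false_of_ne h0, hs, Bool.not_true, Bool.or_self, Bool.false_or] at hm
        have hm' := List.all_eq_true.1 hm i hi
        rw [Bool.and_eq_true, beq_iff_eq] at hm'
        rw [ob_sing h P hGd (by omega) (by omega) (by rw [show (32 * S + i) / 32 = S by omega, hs]),
          hm'.1]
  rw [map_range_congr key]
  have hsplit : ∀ (L : List ℕ) (u v : ℕ → ℕ),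
      (L.map fun T => u T + v T).sum = (L.map u).sum + (L.map v).sum := by
    intro L u v
    induction L with
    | nil => rfl
    | cons a L ih => simp only [List.map_cons, List.sum_cons, ih]; ring
  have hconst : ∀ (L : List ℕ) (p : ℕ → Bool) (c : ℕ),
      (L.map fun T => bif p T then 0 else c).sum = (L.filter fun T => !p T).length * c := by
    intro L p c
    induction L with
    | nil => simp
    | cons a L ih =>
      simp only [List.map_cons, List.sum_cons, ih, List.filter_cons]
      cases p a <;> simp <;> ring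
  rw [hsplit, hconst, sing_total, ns_total]

/-- The centraliser of `A` in the normaliser is `A`. -/
theorem centralizer_AU {g : G} (hg : ∀ a ∈ AU h, Commute g a) : g ∈ AU h :=
  (mem_AU h).2 fun e he => ((hg e (eU_le_AU h he)).eq).symm

theorem no_prime {p : ℕ} (hp : p ∈ [311, 71]) :
    ¬ p ∣ ((Finset.range 2048).filter fun x => ob h x = true).card := by
  classical
  intro hdvd
  have hpp : p.Prime := by
    simp only [List.mem_cons, List.not_mem_nil, or_false] at hp
    rcases hp with rfl | rfl <;> norm_num
  haveI : Fact p.Prime := ⟨hpp⟩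
  set N := Subgroup.normalizer (AU h : Set G) with hN
  -- the orbit length divides the order of the normaliser
  have hcard : Nat.card {a : G // Orb h a} =
      ((Finset.range 2048).filter fun x => ob h x = true).card := by
    rw [← Nat.card_eq_finsetCard]
    refine (Nat.card_congr (Equiv.ofBijective (fun x => ⟨el h x.1,
      (ob_iff h _).1 (Finset.mem_filter.1 x.2).2⟩) ⟨fun x y e => ?_, fun a => ?_⟩)).symm
    · exact Subtype.ext (el_inj h (Finset.mem_range.1 (Finset.mem_filter.1 x.2).1)
        (Finset.mem_range.1 (Finset.mem_filter.1 y.2).1) (congrArg Subtype.val e))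
    · obtain ⟨x, hx, e⟩ := exists_el h (Orb_AU h a.2)
      exact ⟨⟨x, Finset.mem_filter.2 ⟨Finset.mem_range.2 hx, (ob_iff h x).2 (e ▸ a.2)⟩⟩,
        Subtype.ext e.symm⟩
  set H := (Subgroup.centralizer ({z} : Set G)).subgroupOf N with hH
  have hmemH : ∀ n : N, n ∈ H ↔ (n : G) * z = z * n := fun n => by
    rw [hH, Subgroup.mem_subgroupOf, Subgroup.mem_centralizer_singleton_iff]
  let f : N ⧸ H → {a : G // Orb h a} := fun q =>
    Quotient.liftOn' q (fun n => ⟨(n : G) * z * (n : G)⁻¹, n, n.2, rfl⟩) fun a b hab => by
      rw [QuotientGroup.leftRel_apply, hmemH] at hab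
      push_cast at hab
      refine Subtype.ext ?_
      show (a : G) * z * (a : G)⁻¹ = (b : G) * z * (b : G)⁻¹
      calc (a : G) * z * (a : G)⁻¹ = a * (z * ((a : G)⁻¹ * b)) * (b : G)⁻¹ := by group
        _ = (b : G) * z * (b : G)⁻¹ := by rw [← hab]; group
  have hf : Function.Bijective f := by
    refine ⟨fun q r e => ?_, fun a => ?_⟩
    · induction q using QuotientGroup.induction_on with | H a => ?_
      induction r using QuotientGroup.induction_on with | H b => ?_
      refine QuotientGroup.eq.2 ((hmemH _).2 ?_)
      have e' : (a : G) * z * (a : G)⁻¹ = (b : G) * z * (b : G)⁻¹ := congrArg Subtype.val e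
      push_cast
      calc (a : G)⁻¹ * b * z = (a : G)⁻¹ * ((b : G) * z * (b : G)⁻¹) * b := by group
        _ = z * ((a : G)⁻¹ * b) := by rw [← e']; group
    · obtain ⟨n, hn, e⟩ := a.2
      exact ⟨((⟨n, hn⟩ : N) : N ⧸ H), Subtype.ext e⟩
  have hdN : p ∣ Nat.card N := by
    refine hdvd.trans ?_
    rw [← hcard, ← Nat.card_congr (Equiv.ofBijective f hf)]
    exact Subgroup.card_quotient_dvd_card H
  obtain ⟨n, hn⟩ := exists_prime_orderOf_dvd_card' p hdN
  have hnp : (n : G) ^ p = 1 := by
    rw [← Subgroup.coe_pow, ← hn, pow_orderOf_eq_one, Subgroup.coe_one]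
  have hnA : (n : G) ∉ AU h := by
    intro hm
    obtain ⟨x, -, e⟩ := exists_el h hm
    have h2 : (n : G) ^ 2 = 1 := by rw [pow_two, e, el_sq h P hGd]
    have : orderOf (n : G) ∣ 2 := orderOf_dvd_of_pow_eq_one h2
    rw [Subgroup.orderOf_coe, hn] at this
    have := Nat.le_of_dvd (by norm_num) this
    simp only [List.mem_cons, List.not_mem_nil, or_false] at hp
    omega
  haveI := Fintype.ofFinite (AU h)
  let σ : Equiv.Perm (AU h) :=
    { toFun := fun a => ⟨n * a * (n : G)⁻¹, (Subgroup.mem_normalizer_iff.1 n.2 _).1 a.2⟩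
      invFun := fun a => ⟨(n : G)⁻¹ * a * n, by
        have := (Subgroup.mem_normalizer_iff.1 (inv_mem n.2) (a : G)).1 a.2
        rwa [inv_inv] at this⟩
      left_inv := fun a => Subtype.ext (show (n : G)⁻¹ * (n * a * (n : G)⁻¹) * n = a by group)
      right_inv := fun a => Subtype.ext (show (n : G) * ((n : G)⁻¹ * a * n) * (n : G)⁻¹ = a by group) }
  have hpow : ∀ k : ℕ, ∀ a : AU h, ((σ ^ k) a : G) = (n : G) ^ k * a * ((n : G) ^ k)⁻¹ := by
    intro k
    induction k with
    | zero => intro a; simp
    | succ k ih =>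
      intro a
      rw [pow_succ', Equiv.Perm.mul_apply]
      show (n : G) * ((σ ^ k) a : G) * (n : G)⁻¹ = _
      rw [ih, pow_succ']; group
  have hσ : σ ^ p ^ 1 = 1 := Equiv.ext fun a => Subtype.ext (by rw [pow_one, hpow, hnp]; simp)
  have hmod := Equiv.Perm.card_compl_support_modEq hσ
  set F := AU h ⊓ Subgroup.centralizer ({(n : G)} : Set G) with hF
  have hfix : σ.supportᶜ.card = Nat.card F := by
    rw [← Nat.card_eq_finsetCard]
    refine Nat.card_congr ⟨fun a => ⟨a.1.1, a.1.2, ?_⟩, fun a => ⟨⟨a.1, a.2.1⟩, ?_⟩,
      fun a => rfl, fun a => rfl⟩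
    · have e := Equiv.Perm.notMem_support.1 (Finset.mem_compl.1 a.2)
      have e' : (n : G) * a.1.1 * (n : G)⁻¹ = a.1.1 := congrArg Subtype.val e
      exact Subgroup.mem_centralizer_singleton_iff.2 (mul_inv_eq_iff_eq_mul.1 e').symm
    · refine Finset.mem_compl.2 (Equiv.Perm.notMem_support.2 (Subtype.ext ?_))
      exact mul_inv_eq_iff_eq_mul.2 (Subgroup.mem_centralizer_singleton_iff.1 a.2.2).symm
  have hlt : Nat.card F ≠ 2048 := by
    intro e
    have hall : ∀ a ∈ AU h, Commute (n : G) a := by
      intro a ha
      have hle : F = AU h := Subgroup.eq_of_le_of_card_ge inf_le_left (by rw [e, card_AU])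
      exact (Subgroup.mem_centralizer_singleton_iff.1 ((hle ▸ ha : a ∈ F)).2).symm
    exact hnA (centralizer_AU h P hGd hall)
  have hdiv : Nat.card F ∣ 2 ^ 11 := by
    have := Subgroup.card_dvd_of_le (show F ≤ AU h from inf_le_left)
    rwa [card_AU] at this
  obtain ⟨k, hk, hFk⟩ := (Nat.dvd_prime_pow Nat.prime_two).1 hdiv
  have hk' : k < 11 := by
    rcases hk.lt_or_eq with hk' | rfl
    · exact hk'
    · exact absurd hFk hlt
  rw [hfix, hFk, ← Nat.card_eq_fintype_card, card_AU] at hmod
  exact two_pow_mod p hp k hk' hmod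

theorem cS_twelve : cS h 12 = 16 := by
  have e := cS_ns h P hGd (show 12 < 64 by norm_num) (by decide +kernel)
  have h1 := no_prime h P hGd (p := 311) (by simp)
  have h2 := no_prime h P hGd (p := 71) (by simp)
  rw [orbit_total h P hGd] at h1 h2
  cases hb : ob h (32 * 12) <;> cases hb' : ob h (32 * 12 + 1) <;>
    rw [hb, hb'] at e <;> simp only [Bool.toNat_false, Bool.toNat_true] at e <;>
    first
      | omega
      | (rw [e] at h1 h2; norm_num at h1 h2)

/-- The orbit in terms of a choice function. -/
theorem exists_choice : ∃ f : ℕ → Bool, ∀ x, x < 2048 → ob h x = mem f x := by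
  refine ⟨fun S => ob h (32 * S + 1), fun x hx => ?_⟩
  obtain ⟨S, i, hi, rfl⟩ : ∃ S i, i < 32 ∧ x = 32 * S + i :=
    ⟨x / 32, x % 32, Nat.mod_lt _ (by norm_num), by omega⟩
  have hS : S < 64 := by omega
  rw [mem, show (32 * S + i) / 32 = S by omega, show (32 * S + i) % 32 = i by omega]
  by_cases h0 : S = 0
  · subst h0
    have hm := List.all_eq_true.1 msk_zero i (List.mem_range.2 hi)
    rw [Bool.and_eq_true, beq_iff_eq, beq_iff_eq] at hm
    rw [mul_zero, zero_add, ob_zero_coset h P hGd hi]
    cases ob h 1
    exacts [hm.1.symm, hm.2.symm]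
  cases hs : sing S
  · have hh := List.all_eq_true.1 msk_ns S (List.mem_range.2 hS)
    rw [hs, Bool.false_or] at hh
    have h1 := List.all_eq_true.1 hh i (List.mem_range.2 hi)
    rw [Bool.and_eq_true, beq_iff_eq] at h1
    have e := cS_ns h P hGd hS hs
    rw [cS_const h P hGd hS hs, cS_twelve h P hGd] at e
    rw [ob_ns h P hGd hS hs hi]
    cases hb : ob h (32 * S) <;> cases hb' : ob h (32 * S + 1) <;>
      rw [hb, hb'] at e <;> simp only [Bool.toNat_false, Bool.toNat_true] at e <;>
      first
        | omega
        | (cases ht : (msk S true).testBit i <;> simp [h1.1, ht])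
  · have hm := List.all_eq_true.1 msk_sing S (List.mem_range.2 hS)
    rw [beq_false_of_ne h0, hs, Bool.not_true, Bool.or_self, Bool.false_or] at hm
    have hm' := List.all_eq_true.1 hm i (List.mem_range.2 hi)
    rw [Bool.and_eq_true, beq_iff_eq, beq_iff_eq] at hm'
    rw [ob_sing h P hGd hx (by omega) (by rw [show (32 * S + i) / 32 = S by omega, hs])]
    cases ob h (32 * S + 1)
    exacts [hm'.1.symm, hm'.2.symm]

/-- The pairs of the orbit with given product. -/
noncomputable def pairs (x : ℕ) : Finset ℕ :=
  (Finset.range 2048).filter fun y => (ob h y && ob h (y ^^^ x)) = true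

theorem pairs_le {n : G} (hn : n ∈ Subgroup.normalizer (AU h : Set G)) {a b : ℕ} (ha : a < 2048)
    (e : n * el h a * n⁻¹ = el h b) : (pairs h a).card ≤ (pairs h b).card := by
  have hex : ∀ y, ∃ x, x < 2048 ∧ n * el h y * n⁻¹ = el h x := fun y =>
    exists_el h ((Subgroup.mem_normalizer_iff.1 hn _).1 (el_mem h y))
  choose f hf hfe using hex
  refine Finset.card_le_card_of_injOn f (fun y hy => ?_) (fun i hi j hj e' => ?_)
  · simp only [pairs, Finset.coe_filter, Finset.mem_range, Set.mem_setOf_eq, Bool.and_eq_true,
      ob_iff] at hy ⊢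
    refine ⟨hf y, ?_, ?_⟩
    · rw [← hfe y]; exact (Orb_conj_iff h hn).2 hy.2.1
    · rw [el_xor h P hGd, ← hfe y, ← e, conj_mul, ← el_xor h P hGd]
      exact (Orb_conj_iff h hn).2 hy.2.2
  · simp only [pairs, Finset.coe_filter, Finset.mem_range, Set.mem_setOf_eq] at hi hj
    have := hfe i
    rw [e', ← hfe j] at this
    exact el_inj h hi.1 hj.1 (mul_left_cancel (mul_right_cancel this))

theorem count_const {f : ℕ → Bool} (hf : ∀ x, x < 2048 → ob h x = mem f x) {x : ℕ} (hx : x < 2048)
    (hmem : mem f x = true) : count f x = 310 := by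
  have hp : ∀ x, x < 2048 → count f x = (pairs h x).card := fun x hx => by
    rw [count_eq]
    refine congrArg Finset.card (Finset.filter_congr fun y hy => ?_)
    rw [hf y (Finset.mem_range.1 hy),
      hf _ (Nat.xor_lt_two_pow (n := 11) (Finset.mem_range.1 hy) hx)]
  rw [← count_one f, hp x hx, hp 1 (by norm_num)]
  obtain ⟨n, hn, he⟩ := (ob_iff h x).1 ((hf x hx).trans hmem)
  refine le_antisymm (pairs_le h P hGd (inv_mem hn) hx ?_)
    (pairs_le h P hGd hn (by norm_num) (by rw [el_one h]; exact he))
  rw [el_one h, ← he]; group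

/-- The orbit is the model orbit after a change of lifts. -/
theorem exists_gauge : ∃ l, l < 64 ∧ ∀ x, x < 2048 → ob h x = mem good (dz l x) := by
  obtain ⟨f, hf⟩ := exists_choice h P hGd
  have hb : ∀ b : Bool, b ∈ [false, true] := fun b => by cases b <;> simp
  have hg := List.all_eq_true.1 (List.all_eq_true.1 (List.all_eq_true.1 (List.all_eq_true.1
    (List.all_eq_true.1 (List.all_eq_true.1 gauge_exists _ (hb (f 12))) _ (hb (f 13))) _
    (hb (f 14))) _ (hb (f 18))) _ (hb (f 22))) _ (hb (f 33))
  obtain ⟨l, hl, hlv⟩ := List.any_eq_true.1 hg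
  rw [List.mem_range] at hl
  have hbase : ∀ S ∈ base, Lin l S = f S := by
    have e := eq_of_beq hlv
    simp only [base, List.map_cons, List.map_nil, List.cons.injEq, and_true] at e
    intro S hS
    simp only [base, List.mem_cons, List.not_mem_nil, or_false] at hS
    rcases hS with rfl | rfl | rfl | rfl | rfl | rfl
    exacts [e.1, e.2.1, e.2.2.1, e.2.2.2.1, e.2.2.2.2.1, e.2.2.2.2.2]
  set g : ℕ → Bool := fun S => xor (f S) (Lin l S) with hgdef
  have heq : ∀ p ∈ steps, xor (xor (g p.2.1) (g p.2.2.1)) (g p.1) = p.2.2.2 := by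
    rintro ⟨S, T, U, c⟩ hp
    have hns : sing S = false := by simpa using List.all_eq_true.1 steps_ns _ hp
    have e1' := step_eq f (fun x hx hm => count_const h P hGd hf hx hm) hp hns
    have e2' := eq_of_beq (List.all_eq_true.1 (List.all_eq_true.1 Lin_steps l (List.mem_range.2 hl))
      _ hp)
    simp only [hgdef] at e2' ⊢
    revert e1' e2'
    cases f S <;> cases f T <;> cases f U <;> cases Lin l S <;> cases Lin l T <;>
      cases Lin l U <;> cases c <;> decide
  obtain ⟨⟨⟨hr1, hr2⟩, hne⟩, hz⟩ : ((replay (15 :: base) steps good = true ∧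
      replay (15 :: base) steps bad = true) ∧ good 15 ≠ bad 15) ∧
      ∀ S ∈ base, good S = false ∧ bad S = false := by
    have := replay_ok
    simpa only [Bool.and_eq_true, List.all_eq_true, Bool.not_eq_true', beq_eq_false_iff_ne,
      ne_eq] using this
  have hK : ∀ h' : ℕ → Bool, g 15 = h' 15 → (∀ S ∈ base, h' S = false) →
      ∀ S ∈ 15 :: base, g S = h' S := by
    intro h' h15 hz' S hS
    rcases List.mem_cons.1 hS with rfl | hS
    · exact h15
    · rw [hz' S hS, hgdef]
      simp only
      rw [hbase S hS]; cases f S <;> rfl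
  by_cases hgood : g 15 = good 15
  · have hall := replay_sound heq hr1 (hK good hgood fun S hS => (hz S hS).1)
    exact ⟨l, hl, fun x hx => by rw [hf x hx, mem_dz (h := good) hall hx]⟩
  · exfalso
    have hgb : g 15 = bad 15 := by
      revert hgood hne
      cases g 15 <;> cases good 15 <;> cases bad 15 <;> simp
    have hall := replay_sound heq hr2 (hK bad hgb fun S hS => (hz S hS).2)
    obtain ⟨hbc, hbm⟩ := bad_count
    set x0 := dz l 32 with hx0
    have hx0lt : x0 < 2048 := dz_lt l (by norm_num)
    have hm0 : mem f x0 = true := by rw [mem_dz (h := bad) hall hx0lt, hx0, dz_dz, hbm]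
    have hc := count_const h P hGd hf hx0lt hm0
    have hLin : ∀ S, S < 64 → Lin l (S ^^^ 1) = xor (Lin l S) (Lin l 1) := fun S hS =>
      eq_of_beq (List.all_eq_true.1 (List.all_eq_true.1 Lin_one l (List.mem_range.2 hl)) S
        (List.mem_range.2 hS))
    have hadd : ∀ y, y < 2048 → dz l (y ^^^ x0) = dz l y ^^^ 32 := by
      intro y hy
      have e32 : x0 / 32 = 1 := by rw [hx0, (dz_mod l 32).1]
      rw [dz, dz, (code_xor (x := y) (y := x0)).1, e32, hLin _ (by omega), hx0, dz,
        show (32 : ℕ) / 32 = 1 from rfl]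
      cases Lin l (y / 32) <;> cases Lin l 1 <;>
        simp [Nat.xor_assoc, Nat.xor_comm 1 32, Nat.xor_left_comm 1 32]
    have hce : count bad 32 = count f x0 := by
      rw [count_eq, count_eq]
      refine Finset.card_bij (fun y _ => dz l y) (fun y hy => ?_) (fun a _ b _ e => ?_)
        (fun y hy => ?_)
      · simp only [Finset.mem_filter, Finset.mem_range, Bool.and_eq_true] at hy ⊢
        have hdy := dz_lt l hy.1
        refine ⟨hdy, ?_, ?_⟩
        · rw [mem_dz (h := bad) hall hdy, dz_dz]; exact hy.2.1
        · rw [mem_dz (h := bad) hall (Nat.xor_lt_two_pow (n := 11) hdy hx0lt), hadd _ hdy, dz_dz]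
          exact hy.2.2
      · simpa only [dz_dz] using congrArg (dz l) e
      · simp only [Finset.mem_filter, Finset.mem_range, Bool.and_eq_true] at hy
        refine ⟨dz l y, ?_, dz_dz l y⟩
        simp only [Finset.mem_filter, Finset.mem_range, Bool.and_eq_true]
        refine ⟨dz_lt l hy.1, ?_, ?_⟩
        · rw [← mem_dz (h := bad) hall hy.1]; exact hy.2.1
        · rw [← hadd _ hy.1, ← mem_dz (h := bad) hall (Nat.xor_lt_two_pow (n := 11) hy.1 hx0lt)]
          exact hy.2.2
    rw [hbc, hc] at hce
    exact absurd hce (by norm_num)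

end Cfsg.Agent.PGroups.ConwayA
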