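import Cfsg.Agent.PGroups.ConwayA.Basis

/-!
The elementary subgroup `E` over a maximal singular subspace, its centraliser `A`, and
coordinates for the elements of `A`.
-/

set_option autoImplicit false
set_option maxRecDepth 100000
set_option linter.unusedSectionVars false

namespace Cfsg.Agent.PGroups.ConwayA

open QuadraticMap Cfsg.Agent.Orthogonal Cfsg.Agent.H73.Conway Cfsg.Agent.H92.ExtraForm

variable {G : Type*} [Group G] [Finite G] {z : G} {Q : Subgroup G}

/-- The product of the selected entries. -/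
def word (g : ℕ → G) : ℕ → ℕ → G
  | 0, _ => 1
  | k + 1, n => word g k n * bif n.testBit k then g k else 1

theorem word_mem {H : Subgroup G} {g : ℕ → G} :
    ∀ {k : ℕ}, (∀ i, i < k → g i ∈ H) → ∀ n, word g k n ∈ H
  | 0, _, _ => one_mem H
  | k + 1, hg, n => mul_mem (word_mem (fun i hi => hg i (by omega)) n) (by
      cases n.testBit k
      exacts [one_mem H, hg k (by omega)])

theorem word_commute {g : ℕ → G} {x : G} :
    ∀ {k : ℕ}, (∀ i, i < k → Commute x (g i)) → ∀ n, Commute x (word g k n)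
  | 0, _, _ => Commute.one_right x
  | k + 1, hg, n => (word_commute (fun i hi => hg i (by omega)) n).mul_right (by
      cases n.testBit k
      exacts [Commute.one_right x, hg k (by omega)])

theorem word_xor {g : ℕ → G} : ∀ {k : ℕ}, (∀ i, i < k → ∀ j, j < k → Commute (g i) (g j)) →
    (∀ i, i < k → g i * g i = 1) → ∀ m n, word g k (m ^^^ n) = word g k m * word g k n
  | 0, _, _, _, _ => (one_mul 1).symm
  | k + 1, hc, hs, m, n => by
    have ih := word_xor (g := g) (k := k) (fun i hi j hj => hc i (by omega) j (by omega))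
      (fun i hi => hs i (by omega)) m n
    have hk : Commute (g k) (word g k n) :=
      word_commute (fun i hi => hc k (by omega) i (by omega)) n
    simp only [word, Nat.testBit_xor, ih]
    cases m.testBit k <;> cases n.testBit k <;> simp only [Bool.bne_false, Bool.false_bne,
      bne_self_eq_false, cond_false, cond_true, mul_one, mul_assoc]
    · rw [hk.eq]
    · rw [← mul_assoc (g k), hk.eq, mul_assoc, hs k (by omega), mul_one]

theorem word_zero (g : ℕ → G) : ∀ k, word g k 0 = 1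
  | 0 => rfl
  | k + 1 => by simp [word, word_zero g k]

theorem word_two_pow {g : ℕ → G} : ∀ {k i : ℕ}, i < k → word g k (2 ^ i) = g i
  | 0, _, hi => absurd hi (Nat.not_lt_zero _)
  | k + 1, i, hi => by
    simp only [word, Nat.testBit_two_pow]
    rcases Nat.lt_succ_iff_lt_or_eq.mp hi with h | rfl
    · rw [word_two_pow h, decide_eq_false h.ne, cond_false, mul_one]
    · rw [decide_eq_true rfl, cond_true]
      have : ∀ j, j ≤ i → word g j (2 ^ i) = 1 := by
        intro j hj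
        induction j with
        | zero => rfl
        | succ j ih =>
          simp only [word, ih (by omega), Nat.testBit_two_pow,
            decide_eq_false (show ¬ i = j by omega), cond_false, mul_one]
      rw [this i le_rfl, one_mul]

/-- The number with the given four bits. -/
def num4 (f : Fin 4 → ZMod 2) : ℕ := zb (f 0) 0 ||| zb (f 1) 1 ||| zb (f 2) 2 ||| zb (f 3) 3

theorem num4_spec : ∀ f : Fin 4 → ZMod 2, num4 f < 16 ∧
    (∀ m : Fin 4, B8 (vec (2 ^ m.val)) (vec (num4 f * 16)) = f m) ∧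
    ∀ m : Fin 4, B8 (vec (num4 f)) (vec (2 ^ (4 + m.val))) = f m := by decide +kernel

/-- The preimage of the singular subspace in `Q`. -/
def eU (h : Setup z Q) : Subgroup G where
  carrier := {q | q ∈ Q ∧ InU (h.π q)}
  mul_mem' := by
    rintro a b ⟨ha, ha'⟩ ⟨hb, hb'⟩
    exact ⟨mul_mem ha hb, by rw [h.π_mul a ha b hb]; exact InU_add ha' hb'⟩
  one_mem' := ⟨one_mem Q, by rw [h.π_one]; exact InU_zero⟩
  inv_mem' := by
    rintro a ⟨ha, ha'⟩
    exact ⟨inv_mem ha, by rw [h.π_inv ha]; exact ha'⟩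

theorem mem_eU {h : Setup z Q} {q : G} : q ∈ eU h ↔ q ∈ Q ∧ InU (h.π q) := Iff.rfl

/-- Its centraliser. -/
def AU (h : Setup z Q) : Subgroup G := Subgroup.centralizer (eU h : Set G)

/-- A chosen preimage of a vector. -/
noncomputable def lift (h : Setup z Q) (y : V8) : G := (h.π_surj y).choose

/-- Lifts of the basis of the singular subspace. -/
noncomputable def gE (h : Setup z Q) (k : ℕ) : G := lift h (vec (2 ^ k))

/-- Lifts of the basis of the complementary subspace. -/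
noncomputable def gF (h : Setup z Q) (k : ℕ) : G := lift h (vec (2 ^ (4 + k)))

/-- Lifts of the singular subspace. -/
noncomputable def lE (h : Setup z Q) (n : ℕ) : G := word (gE h) 4 n

/-- Lifts of the complementary subspace. -/
noncomputable def lF (h : Setup z Q) (n : ℕ) : G := word (gF h) 4 n

theorem lift_spec (h : Setup z Q) (y : V8) : lift h y ∈ Q ∧ h.π (lift h y) = y :=
  (h.π_surj y).choose_spec

variable (h : Setup z Q)

theorem conjQ {x q : G} (hx : x ∈ Q) (hq : q ∈ Q) :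
    q * x * q⁻¹ = x * zp z (B8 (h.π x) (h.π q)) := by
  have e := h.comm x hx q hq
  rw [polar_B8] at e
  have hc : Commute (zp z (B8 (h.π x) (h.π q))) q := by
    unfold zp; split_ifs
    exacts [Commute.one_left _, (h.le q hq).symm]
  calc q * x * q⁻¹ = x * (q * zp z (B8 (h.π x) (h.π q))) * q⁻¹ := by rw [e]; group
    _ = x * zp z (B8 (h.π x) (h.π q)) := by rw [← hc.eq]; group

theorem z_mem_eU : z ∈ eU h := ⟨h.hzQ, by rw [h.π_z]; exact InU_zero⟩

theorem zp_mem_eU (i : ZMod 2) : zp z i ∈ eU h := by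
  unfold zp; split_ifs
  exacts [one_mem _, z_mem_eU h]

theorem gE_mem {k : ℕ} (hk : k < 4) : gE h k ∈ eU h :=
  ⟨(lift_spec h _).1, by
    rw [gE, (lift_spec h _).2]
    exact InU_vec (Nat.pow_lt_pow_right (a := 2) (n := 4) (by norm_num) hk)⟩

theorem lE_mem (n : ℕ) : lE h n ∈ eU h := word_mem (fun _ hi => gE_mem h hi) n

theorem gF_mem (k : ℕ) : gF h k ∈ Q := (lift_spec h _).1

theorem lF_mem (n : ℕ) : lF h n ∈ Q := word_mem (fun i _ => gF_mem h i) n

theorem π_word {g : ℕ → G} {c : ℕ} (hg : ∀ k, k < 4 → g k ∈ Q)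
    (hπ : ∀ k, k < 4 → h.π (g k) = vec (2 ^ k * c)) (n : ℕ) :
    h.π (word g 4 n) = (bz n 0 • vec c + bz n 1 • vec (2 * c)) + bz n 2 • vec (4 * c) +
      bz n 3 • vec (8 * c) := by
  have hm : ∀ k, k < 4 → (bif n.testBit k then g k else 1) ∈ Q ∧
      h.π (bif n.testBit k then g k else 1) = bz n k • vec (2 ^ k * c) := by
    intro k hk
    unfold bz
    cases n.testBit k
    · exact ⟨one_mem Q, by rw [cond_false, cond_false, zero_smul, h.π_one]⟩
    · exact ⟨hg k hk, by rw [cond_true, cond_true, one_smul, hπ k hk]⟩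
  obtain ⟨a0, b0⟩ := hm 0 (by norm_num)
  obtain ⟨a1, b1⟩ := hm 1 (by norm_num)
  obtain ⟨a2, b2⟩ := hm 2 (by norm_num)
  obtain ⟨a3, b3⟩ := hm 3 (by norm_num)
  simp only [word, one_mul]
  rw [h.π_mul _ (mul_mem (mul_mem a0 a1) a2) _ a3, h.π_mul _ (mul_mem a0 a1) _ a2,
    h.π_mul _ a0 _ a1, b0, b1, b2, b3]
  norm_num

theorem π_lE {n : ℕ} (hn : n < 16) : h.π (lE h n) = vec n := by
  rw [lE, π_word h (c := 1) (fun k hk => (gE_mem h hk).1) (fun k _ => by
    rw [gE, (lift_spec h _).2, mul_one])]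
  revert n
  decide +kernel

theorem π_lF {n : ℕ} (hn : n < 16) : h.π (lF h n) = vec (n * 16) := by
  rw [lF, π_word h (c := 16) (fun k _ => gF_mem h k) (fun k _ => by
    rw [gF, (lift_spec h _).2, pow_add, mul_comm]; norm_num)]
  revert n
  decide +kernel

theorem Q_commute {a b : G} (ha : a ∈ Q) (hb : b ∈ Q) (hab : B8 (h.π a) (h.π b) = 0) :
    Commute a b := (h.commute_iff ha hb).2 (by rw [polar_B8]; exact hab)

theorem eU_facts {a b : G} (ha : a ∈ eU h) (hb : b ∈ eU h) : Commute a b ∧ a * a = 1 :=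
  ⟨(h.commute_iff ha.1 hb.1).2 (InU_form ha.2 hb.2).2,
    (h.sq_one_iff ha.1).2 (InU_form ha.2 ha.2).1⟩

theorem gF_facts : ∀ i j, i < 4 → j < 4 → Commute (gF h i) (gF h j) ∧ gF h i * gF h i = 1 := by
  intro i j hi hj
  have key : ∀ i : Fin 4, ∀ j : Fin 4, B8 (vec (2 ^ (4 + i.val))) (vec (2 ^ (4 + j.val))) = 0 ∧
      q8 (vec (2 ^ (4 + i.val))) = 0 := by decide +kernel
  obtain ⟨k1, k2⟩ := key ⟨i, hi⟩ ⟨j, hj⟩
  refine ⟨Q_commute h (gF_mem h i) (gF_mem h j) ?_, (h.sq_one_iff (gF_mem h i)).2 ?_⟩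
  · rw [gF, gF, (lift_spec h _).2, (lift_spec h _).2]; exact k1
  · rw [gF, (lift_spec h _).2, phi_q8]; exact k2

theorem lE_xor (m n : ℕ) : lE h (m ^^^ n) = lE h m * lE h n :=
  word_xor (fun _ hi _ hj => (eU_facts h (gE_mem h hi) (gE_mem h hj)).1)
    (fun _ hi => (eU_facts h (gE_mem h hi) (gE_mem h hi)).2) m n

theorem lF_xor (m n : ℕ) : lF h (m ^^^ n) = lF h m * lF h n :=
  word_xor (fun _ hi _ hj => (gF_facts h _ _ hi hj).1) (fun _ hi => (gF_facts h _ _ hi hi).2) m n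

theorem lE_zero : lE h 0 = 1 := word_zero _ 4

theorem lF_zero : lF h 0 = 1 := word_zero _ 4

theorem lF_two_pow {k : ℕ} (hk : k < 4) : lF h (2 ^ k) = gF h k := word_two_pow hk

theorem lE_two_pow {k : ℕ} (hk : k < 4) : lE h (2 ^ k) = gE h k := word_two_pow hk

theorem Q_decomp {q : G} (hq : q ∈ Q) {y : G} (hy : y ∈ Q) (e : h.π q = h.π y) :
    ∃ i : ZMod 2, q = zp z i * y := by
  rcases h.π_eq hy hq e.symm with e' | e'
  · exact ⟨0, by rw [zp_zero, one_mul, e']⟩
  · exact ⟨1, by rw [zp_one, e', h.le y hy]⟩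

theorem eU_exists {q : G} (hq : q ∈ eU h) : ∃ (i : ZMod 2) (n : ℕ), n < 16 ∧ q = zp z i * lE h n := by
  obtain ⟨n, hn, e⟩ := InU_exists hq.2
  obtain ⟨i, hi⟩ := Q_decomp h hq.1 (lE_mem h n).1 (by rw [π_lE h hn, e])
  exact ⟨i, n, hn, hi⟩

theorem mem_AU {a : G} : a ∈ AU h ↔ ∀ e ∈ eU h, e * a = a * e :=
  Subgroup.mem_centralizer_iff

theorem AU_of_gens {a : G} (hz : Commute a z) (hg : ∀ k, k < 4 → Commute a (gE h k)) :
    a ∈ AU h := by
  rw [mem_AU]
  intro e he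
  obtain ⟨i, n, -, rfl⟩ := eU_exists h he
  refine ((Commute.mul_right ?_ (word_commute hg n)).symm).eq
  unfold zp; split_ifs
  exacts [Commute.one_right a, hz]

theorem AU_comm_z {a : G} (ha : a ∈ AU h) : a * z = z * a := ((mem_AU h).1 ha z (z_mem_eU h)).symm

theorem eU_le_AU : eU h ≤ AU h := fun a ha => (mem_AU h).2 fun _ he => (eU_facts h he ha).1.eq

theorem zp_central {a : G} (ha : a * z = z * a) (i : ZMod 2) : Commute a (zp z i) := by
  unfold zp; split_ifs
  exacts [Commute.one_right a, ha]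

theorem AU_fix {a : G} (ha : a ∈ AU h) {n : ℕ} (hn : n < 16) :
    (h.ρ a : V8 ≃ₗ[ZMod 2] V8) (vec n) = vec n := by
  have e := (mem_AU h).1 ha _ (lE_mem h n)
  rw [← π_lE h hn, ← h.ρ_π a (AU_comm_z h ha) _ (lE_mem h n).1, ← e, mul_inv_cancel_right]

theorem AU_inf_Q {a : G} (ha : a ∈ AU h) (haQ : a ∈ Q) : a ∈ eU h := by
  refine ⟨haQ, InU_perp _ fun m => ?_⟩
  have hm : 2 ^ m.val < 16 := Nat.pow_lt_pow_right (a := 2) (n := 4) (by norm_num) m.isLt
  rw [← π_lE h hm, ← polar_B8]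
  exact (h.commute_iff (lE_mem h _).1 haQ).1 ((mem_AU h).1 ha _ (lE_mem h _))

theorem AU_rho {a : G} (ha : a ∈ AU h) : ∃ S, S < 64 ∧ h.ρ a = Xp S :=
  exists_Xp fun _ hn => AU_fix h ha hn

/-- Lifts to the centraliser. -/
theorem exists_AU {k : O phi} (hk : k ∈ commutator (O phi))
    (hfix : ∀ n, n < 16 → (k : V8 ≃ₗ[ZMod 2] V8) (vec n) = vec n) :
    ∃ a, a ∈ AU h ∧ h.ρ a = k := by
  obtain ⟨c, hc, rfl⟩ := h.ρ_surj k hk
  have hlam : ∀ m : Fin 4, ∃ l : ZMod 2, c * gE h m.val * c⁻¹ = gE h m.val * zp z l := by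
    intro m
    have hQ := (gE_mem h m.isLt).1
    obtain ⟨l, hl⟩ := Q_decomp h (h.norm c hc _ hQ) hQ (by
      rw [h.ρ_π c hc _ hQ, gE, (lift_spec h _).2,
        hfix _ (Nat.pow_lt_pow_right (a := 2) (n := 4) (by norm_num) m.isLt)])
    exact ⟨l, by rw [hl]; exact (zp_central (h.le _ hQ) l).eq.symm⟩
  choose l hl using hlam
  obtain ⟨hn, hB, -⟩ := num4_spec l
  set q := lift h (vec (num4 l * 16))
  obtain ⟨hqQ, hqπ⟩ := lift_spec h (vec (num4 l * 16))
  refine ⟨q * c, AU_of_gens h (h.mul_comm' (h.le q hqQ) hc) (fun k hk => ?_), ?_⟩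
  · have hQ := (gE_mem h hk).1
    have e1 : q * gE h k * q⁻¹ = gE h k * zp z (l ⟨k, hk⟩) := by
      rw [conjQ h hQ hqQ, hqπ, gE, (lift_spec h _).2]
      exact congrArg (fun i => _ * zp z i) (hB ⟨k, hk⟩)
    show q * c * gE h k = gE h k * (q * c)
    rw [← mul_inv_eq_iff_eq_mul]
    calc q * c * gE h k * (q * c)⁻¹ = q * (c * gE h k * c⁻¹) * q⁻¹ := by group
      _ = q * gE h k * q⁻¹ * (q * zp z (l ⟨k, hk⟩) * q⁻¹) := by
          rw [hl ⟨k, hk⟩]; group
      _ = gE h k := by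
          rw [e1, (zp_central (h.le q hqQ) _).eq, mul_inv_cancel_right, mul_assoc,
            ← zp_add h.zz, CharTwo.add_self_eq_zero, zp_zero, mul_one]
  · rw [h.ρ_mul _ _ (h.le q hqQ) hc, h.ρ_Q hqQ, one_mul]

/-- Normalised lifts of the basic unipotent elements. -/
theorem exists_gen (k : Fin 6) : ∃ a, a ∈ AU h ∧ h.ρ a = Xk k ∧
    ∀ m, m < 4 → gF h m * a * (gF h m)⁻¹ = lE h (row (2 ^ k.val) m) * a := by
  have hXk : ∀ n, n < 16 → (Xk k : V8 ≃ₗ[ZMod 2] V8) (vec n) = vec n := fun n hn => by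
    rw [Xk_app k (by omega), Xmod, Nat.div_eq_of_lt hn]; simp [app]
  obtain ⟨a, ha, hρ⟩ := exists_AU h (Xk_mem k) hXk
  have haz := AU_comm_z h ha
  have hlam : ∀ m : Fin 4, ∃ l : ZMod 2,
      gF h m.val * a * (gF h m.val)⁻¹ = zp z l * lE h (row (2 ^ k.val) m.val) * a := by
    intro m
    have hf := gF_mem h m.val
    have hr := row_lt (2 ^ k.val) m.val
    have hx : a * (gF h m.val)⁻¹ * a⁻¹ ∈ Q := h.norm a haz _ (inv_mem hf)
    have hm : 2 ^ (4 + m.val) < 256 :=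
      Nat.pow_lt_pow_right (a := 2) (n := 8) (by norm_num) (by omega)
    obtain ⟨l, hl⟩ := Q_decomp h (mul_mem hf hx) (lE_mem h (row (2 ^ k.val) m.val)).1 (by
      rw [h.π_mul _ hf _ hx, h.ρ_π a haz _ (inv_mem hf), h.π_inv hf, gF, (lift_spec h _).2, hρ,
        Xk_app k hm, Xmod_unit, vec_xor, π_lE h hr, ← add_assoc, add_self', zero_add])
    exact ⟨l, by rw [← hl]; group⟩
  choose l hl using hlam
  obtain ⟨ht, -, hB⟩ := num4_spec l
  set t := num4 l
  refine ⟨lE h t * a, mul_mem (eU_le_AU h (lE_mem h t)) ha, ?_, fun m hm => ?_⟩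
  · rw [h.ρ_mul _ _ (h.le _ (lE_mem h t).1) haz, h.ρ_Q (lE_mem h t).1, one_mul, hρ]
  · have hc := (eU_facts h (lE_mem h t) (lE_mem h (row (2 ^ k.val) m))).1
    have e1 : gF h m * lE h t * (gF h m)⁻¹ = lE h t * zp z (l ⟨m, hm⟩) := by
      rw [conjQ h (lE_mem h t).1 (gF_mem h m), π_lE h ht, gF, (lift_spec h _).2]
      exact congrArg (fun i => _ * zp z i) (hB ⟨m, hm⟩)
    calc gF h m * (lE h t * a) * (gF h m)⁻¹
        = (gF h m * lE h t * (gF h m)⁻¹) * (gF h m * a * (gF h m)⁻¹) := by group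
      _ = lE h t * (zp z (l ⟨m, hm⟩) * zp z (l ⟨m, hm⟩)) * lE h (row (2 ^ k.val) m) * a := by
          rw [e1, hl ⟨m, hm⟩]; group
      _ = lE h (row (2 ^ k.val) m) * (lE h t * a) := by
          rw [← zp_add h.zz, CharTwo.add_self_eq_zero, zp_zero, mul_one, hc.eq, mul_assoc]

/-- The chosen generators. -/
noncomputable def gA (k : ℕ) : G := if hk : k < 6 then (exists_gen h ⟨k, hk⟩).choose else 1

theorem gA_spec {k : ℕ} (hk : k < 6) : gA h k ∈ AU h ∧ h.ρ (gA h k) = Xk ⟨k, hk⟩ ∧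
    ∀ m, m < 4 → gF h m * gA h k * (gF h m)⁻¹ = lE h (row (2 ^ k) m) * gA h k := by
  rw [gA, dif_pos hk]; exact (exists_gen h ⟨k, hk⟩).choose_spec

/-- The element of `A` with given code: bit `0` for `z`, bits `1..4` on `E`, bits `5..10` for the
generators. -/
noncomputable def el (x : ℕ) : G := zp z (bz x 0) * lE h (x / 2 % 16) * word (gA h) 6 (x / 32)

theorem wordA_mem (S : ℕ) : word (gA h) 6 S ∈ AU h := word_mem (fun _ hk => (gA_spec h hk).1) S

theorem el_mem (x : ℕ) : el h x ∈ AU h :=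
  mul_mem (mul_mem (eU_le_AU h (zp_mem_eU h _)) (eU_le_AU h (lE_mem h _))) (wordA_mem h _)

theorem ρ_wordA (S : ℕ) : h.ρ (word (gA h) 6 S) = Xp S := by
  have hb : ∀ k : Fin 6, (bif S.testBit k.val then gA h k.val else 1) ∈ AU h ∧
      h.ρ (bif S.testBit k.val then gA h k.val else 1) = Xbit S k := fun k => by
    unfold Xbit
    cases S.testBit k.val
    · exact ⟨one_mem _, h.ρ_one⟩
    · exact ⟨(gA_spec h k.isLt).1, (gA_spec h k.isLt).2.1⟩
  have a0 : (bif S.testBit 0 then gA h 0 else 1) ∈ AU h := (hb 0).1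
  have b0 : h.ρ (bif S.testBit 0 then gA h 0 else 1) = Xbit S 0 := (hb 0).2
  have a1 : (bif S.testBit 1 then gA h 1 else 1) ∈ AU h := (hb 1).1
  have b1 : h.ρ (bif S.testBit 1 then gA h 1 else 1) = Xbit S 1 := (hb 1).2
  have a2 : (bif S.testBit 2 then gA h 2 else 1) ∈ AU h := (hb 2).1
  have b2 : h.ρ (bif S.testBit 2 then gA h 2 else 1) = Xbit S 2 := (hb 2).2
  have a3 : (bif S.testBit 3 then gA h 3 else 1) ∈ AU h := (hb 3).1
  have b3 : h.ρ (bif S.testBit 3 then gA h 3 else 1) = Xbit S 3 := (hb 3).2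
  have a4 : (bif S.testBit 4 then gA h 4 else 1) ∈ AU h := (hb 4).1
  have b4 : h.ρ (bif S.testBit 4 then gA h 4 else 1) = Xbit S 4 := (hb 4).2
  have a5 : (bif S.testBit 5 then gA h 5 else 1) ∈ AU h := (hb 5).1
  have b5 : h.ρ (bif S.testBit 5 then gA h 5 else 1) = Xbit S 5 := (hb 5).2
  have hz := fun {a : G} (ha : a ∈ AU h) => AU_comm_z h ha
  simp only [word, one_mul]
  rw [h.ρ_mul _ _ (hz (mul_mem (mul_mem (mul_mem (mul_mem a0 a1) a2) a3) a4)) (hz a5),
    h.ρ_mul _ _ (hz (mul_mem (mul_mem (mul_mem a0 a1) a2) a3)) (hz a4),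
    h.ρ_mul _ _ (hz (mul_mem (mul_mem a0 a1) a2)) (hz a3),
    h.ρ_mul _ _ (hz (mul_mem a0 a1)) (hz a2), h.ρ_mul _ _ (hz a0) (hz a1)]
  erw [b0, b1, b2, b3, b4, b5]
  simp only [Xp, mul_assoc]

theorem el_rho (x : ℕ) : h.ρ (el h x) = Xp (x / 32) := by
  have he := mul_mem (zp_mem_eU h (bz x 0)) (lE_mem h (x / 2 % 16))
  rw [el, h.ρ_mul _ _ (h.le _ he.1) (AU_comm_z h (wordA_mem h _)), h.ρ_Q he.1, one_mul, ρ_wordA]

theorem exists_el {a : G} (ha : a ∈ AU h) : ∃ x, x < 2048 ∧ a = el h x := by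
  obtain ⟨S, hS, hρ⟩ := AU_rho h ha
  have hm := mul_mem ha (inv_mem (wordA_mem h S))
  have hQ : a * (word (gA h) 6 S)⁻¹ ∈ Q := (h.ρ_ker _ (AU_comm_z h hm)).1 (by
    rw [h.ρ_mul _ _ (AU_comm_z h ha) (h.inv_comm (AU_comm_z h (wordA_mem h S))),
      h.ρ_inv (AU_comm_z h (wordA_mem h S)), hρ, ρ_wordA, mul_inv_cancel])
  obtain ⟨i, n, hn, hi⟩ := eU_exists h (AU_inf_Q h hm hQ)
  refine ⟨(if i = 0 then 0 else 1) + 2 * n + 32 * S, by split_ifs <;> omega, ?_⟩
  have h1 : bz ((if i = 0 then 0 else 1) + 2 * n + 32 * S) 0 = i := by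
    unfold bz
    rw [Nat.testBit_zero]
    rcases two_cases' i with rfl | rfl
    · simp [Nat.add_mod, Nat.mul_mod]
    · simp [Nat.add_mod, Nat.mul_mod]
  rw [el, h1, show ((if i = 0 then 0 else 1) + 2 * n + 32 * S) / 2 % 16 = n by split_ifs <;> omega,
    show ((if i = 0 then 0 else 1) + 2 * n + 32 * S) / 32 = S by split_ifs <;> omega, ← hi]
  group

theorem el_inj {x y : ℕ} (hx : x < 2048) (hy : y < 2048) (e : el h x = el h y) : x = y := by
  have hS : x / 32 = y / 32 :=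
    Xp_inj (by omega) (by omega) (by rw [← el_rho h x, e, el_rho])
  rw [el, el, hS] at e
  have e1 := mul_right_cancel e
  have hπ : ∀ (i : ZMod 2) (n : ℕ), n < 16 → h.π (zp z i * lE h n) = vec n := fun i n hn => by
    rw [h.π_mul _ (zp_mem_eU h i).1 _ (lE_mem h n).1, π_lE h hn]
    unfold zp; split_ifs <;> simp [h.π_one, h.π_z]
  have hn := congrArg h.π e1
  rw [hπ _ _ (by omega), hπ _ _ (by omega)] at hn
  have hn' := vec_inj (by omega) (by omega) hn
  rw [hn'] at e1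
  have hb := zp_inj h.z_ne (mul_right_cancel e1)
  have : x % 2 = y % 2 := by
    unfold bz at hb
    rw [Nat.testBit_zero, Nat.testBit_zero] at hb
    rcases Nat.mod_two_eq_zero_or_one x with ex | ex <;>
      rcases Nat.mod_two_eq_zero_or_one y with ey | ey <;> simp [ex, ey] at hb ⊢
  omega

theorem card_AU : Nat.card (AU h) = 2048 := by
  let f : Fin 2048 → AU h := fun x => ⟨el h x.val, el_mem h x.val⟩
  have hf : Function.Bijective f :=
    ⟨fun x y e => Fin.ext (el_inj h x.isLt y.isLt (congrArg Subtype.val e)), fun ⟨a, ha⟩ => by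
      obtain ⟨x, hx, rfl⟩ := exists_el h ha
      exact ⟨⟨x, hx⟩, rfl⟩⟩
  rw [← Nat.card_congr (Equiv.ofBijective f hf), Nat.card_fin]

end Cfsg.Agent.PGroups.ConwayA
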