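import Cfsg.Agent.PGroups.ConwayA.Sign

/-!
Lifts of transvections, and the commutativity of the centraliser `A`.
-/

set_option autoImplicit false
set_option maxRecDepth 100000
set_option linter.unusedSectionVars false
set_option linter.style.longLine false

namespace Cfsg.Agent.PGroups.ConwayA

open QuadraticMap Cfsg.Agent.Orthogonal Cfsg.Agent.H73.Conway Cfsg.Agent.H92.ExtraForm

variable {G : Type*} [Group G] [Finite G] {z : G} {Q : Subgroup G}

/-- The source index of a transvection. -/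
def TI (t : ℕ) : ℕ := t / 3

/-- The target index of a transvection. -/
def TJ (t : ℕ) : ℕ := if t % 3 < t / 3 then t % 3 else t % 3 + 1

/-- The model of a transvection. -/
def Tmod (t n : ℕ) : ℕ :=
  n ^^^ (bif n.testBit (TI t) then 2 ^ TJ t else 0) ^^^
    (bif n.testBit (4 + TJ t) then 2 ^ (4 + TI t) else 0)

/-- The action of a transvection on matrices. -/
def TS (t S : ℕ) : ℕ :=
  unrow (Tmod t (Xmod S (Tmod t (2 ^ 4))) % 16) (Tmod t (Xmod S (Tmod t (2 ^ 5))) % 16)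
    (Tmod t (Xmod S (Tmod t (2 ^ 6))) % 16)

theorem T_hyp : ∀ t : Fin 12, q8 (vec (2 ^ TJ t.val)) = 0 ∧
    B8 (vec (2 ^ TJ t.val)) (vec (2 ^ (4 + TI t.val))) = 0 := by decide +kernel

/-- The transvections stabilising both singular subspaces. -/
noncomputable def Tk (t : Fin 12) : O phi :=
  sie (vec (2 ^ TJ t.val)) (vec (2 ^ (4 + TI t.val))) ((phi_q8 _).trans (T_hyp t).1)
    ((polar_B8 _ _).trans (T_hyp t).2)

theorem Tk_mem (t : Fin 12) : Tk t ∈ commutator (O phi) :=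
  sie_mem_commutator phi_nondeg finrank_ge _ _

theorem Tk_app (t : Fin 12) {n : ℕ} (hn : n < 256) :
    (Tk t : V8 ≃ₗ[ZMod 2] V8) (vec n) = vec (Tmod t.val n) := by
  have h : ((List.finRange 12).all fun t => (List.range 256).all fun n =>
      decide (sieFun (vec (2 ^ TJ t.val)) (vec (2 ^ (4 + TI t.val))) (vec n) =
        vec (Tmod t.val n))) = true := by decide +kernel
  rw [Tk, sie_eval]
  exact of_decide_eq_true (List.all_eq_true.1 (List.all_eq_true.1 h t (List.mem_finRange t)) n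
    (List.mem_range.2 hn))

theorem Tmod_lt (t : Fin 12) {n : ℕ} (hn : n < 256) : Tmod t.val n < 256 := by
  have h : ((List.finRange 12).all fun t => (List.range 256).all fun n =>
      decide (Tmod t.val n < 256 ∧ Tmod t.val (Tmod t.val n) = n ∧
        (n < 16 → Tmod t.val n < 16))) = true := by decide +kernel
  exact (of_decide_eq_true (List.all_eq_true.1 (List.all_eq_true.1 h t (List.mem_finRange t)) n
    (List.mem_range.2 hn))).1

theorem Tk_U (t : Fin 12) {n : ℕ} (hn : n < 16) : Tmod t.val n < 16 ∧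
    Tmod t.val (Tmod t.val n) = n := by
  have h : ∀ t : Fin 12, ∀ n : Fin 16, Tmod t.val n.val < 16 ∧
      Tmod t.val (Tmod t.val n.val) = n.val := by decide +kernel
  exact h t ⟨n, hn⟩

theorem vec_units : ∀ y : V8, y = y.1.1 • vec (2 ^ 0) + y.2.1.1 • vec (2 ^ 1) +
    y.2.2.1.1 • vec (2 ^ 2) + y.2.2.2.1 • vec (2 ^ 3) + y.1.2 • vec (2 ^ 4) +
    y.2.1.2 • vec (2 ^ 5) + y.2.2.1.2 • vec (2 ^ 6) + y.2.2.2.2 • vec (2 ^ 7) := by decide +kernel

/-- Isometries agreeing on the eight basis vectors are equal. -/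
theorem O_ext_units {g k : O phi} (hgk : ∀ i : Fin 8,
    (g : V8 ≃ₗ[ZMod 2] V8) (vec (2 ^ i.val)) = (k : V8 ≃ₗ[ZMod 2] V8) (vec (2 ^ i.val))) :
    g = k := by
  refine O.ext_app fun y => ?_
  rw [vec_units y]
  simp only [map_add, map_smul]
  exact congrArg₂ _ (congrArg₂ _ (congrArg₂ _ (congrArg₂ _ (congrArg₂ _ (congrArg₂ _
    (congrArg₂ _ (congrArg _ (hgk 0)) (congrArg _ (hgk 1))) (congrArg _ (hgk 2)))
    (congrArg _ (hgk 3))) (congrArg _ (hgk 4))) (congrArg _ (hgk 5)))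
    (congrArg _ (hgk 6))) (congrArg _ (hgk 7))

/-- The check behind `TS_spec`. -/
def TSok : Bool :=
  (List.finRange 12).all fun t => (List.range 64).all fun S =>
    decide (TS t.val S < 64) && (List.finRange 8).all fun i =>
      Tmod t.val (Xmod S (2 ^ i.val)) == Xmod (TS t.val S) (Tmod t.val (2 ^ i.val))

theorem TSok_true : TSok = true := by decide +kernel

theorem TS_spec (t : Fin 12) {S : ℕ} (hS : S < 64) :
    TS t.val S < 64 ∧ Tk t * Xp S = Xp (TS t.val S) * Tk t := by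
  have h1 := List.all_eq_true.1 (List.all_eq_true.1 TSok_true t (List.mem_finRange t)) S
    (List.mem_range.2 hS)
  rw [Bool.and_eq_true, decide_eq_true_eq] at h1
  refine ⟨h1.1, O_ext_units fun i => ?_⟩
  have hn : 2 ^ i.val < 256 := Nat.pow_lt_pow_right (a := 2) (n := 8) (by norm_num) i.isLt
  have h2 : Tmod t.val (Xmod S (2 ^ i.val)) = Xmod (TS t.val S) (Tmod t.val (2 ^ i.val)) :=
    eq_of_beq (List.all_eq_true.1 h1.2 i (List.mem_finRange i))
  rw [Subgroup.coe_mul, Subgroup.coe_mul, mul_app, mul_app, Xp_app hS hn,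
    Tk_app t (Xmod_lt S hn), Tk_app t hn, Xp_app h1.1 (Tmod_lt t hn), h2]

variable (h : Setup z Q)

/-- Elements of the centraliser stabilising the singular subspace. -/
def Stab (g : G) : Prop :=
  g * z = z * g ∧ ∀ n, n < 16 → InU ((h.ρ g : V8 ≃ₗ[ZMod 2] V8) (vec n))

theorem Stab_Q {q : G} (hq : q ∈ Q) : Stab h q :=
  ⟨h.le q hq, fun n hn => by rw [h.ρ_Q hq]; exact InU_vec hn⟩

theorem Stab_T {g : G} (hg : g * z = z * g) {t : Fin 12} (hρ : h.ρ g = Tk t) : Stab h g :=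
  ⟨hg, fun n hn => by rw [hρ, Tk_app t (by omega)]; exact InU_vec (Tk_U t hn).1⟩

theorem Stab_eU {g : G} (hg : Stab h g) {e : G} (he : e ∈ eU h) : g * e * g⁻¹ ∈ eU h := by
  obtain ⟨n, hn, e'⟩ := InU_exists he.2
  exact ⟨h.norm g hg.1 e he.1, by rw [h.ρ_π g hg.1 e he.1, e']; exact hg.2 n hn⟩

theorem conj_closed_inv {H : Subgroup G} {g : G} (hg : ∀ e ∈ H, g * e * g⁻¹ ∈ H) :
    ∀ e ∈ H, g⁻¹ * e * g ∈ H := by
  let f : H → H := fun e => ⟨g * e.1 * g⁻¹, hg _ e.2⟩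
  have hinj : Function.Injective f := fun a b e => Subtype.ext
    (mul_left_cancel (mul_right_cancel (congrArg Subtype.val e : g * a.1 * g⁻¹ = g * b.1 * g⁻¹)))
  intro e he
  obtain ⟨⟨a, ha⟩, e'⟩ := (Finite.injective_iff_surjective.1 hinj) ⟨e, he⟩
  have : g * a * g⁻¹ = e := congrArg Subtype.val e'
  rw [← this, show g⁻¹ * (g * a * g⁻¹) * g = a by group]
  exact ha

theorem Stab_AU {g : G} (hg : Stab h g) {a : G} (ha : a ∈ AU h) : g * a * g⁻¹ ∈ AU h := by
  rw [mem_AU]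
  intro e he
  have e1 := (mem_AU h).1 ha _ (conj_closed_inv (fun e he => Stab_eU h hg he) e he)
  calc e * (g * a * g⁻¹) = g * (g⁻¹ * e * g * a) * g⁻¹ := by group
    _ = g * a * g⁻¹ * e := by rw [e1]; group

theorem Stab_norm {g : G} (hg : Stab h g) : g ∈ Subgroup.normalizer (AU h : Set G) := by
  rw [Subgroup.mem_normalizer_iff]
  refine fun a => ⟨fun ha => Stab_AU h hg ha, fun ha => ?_⟩
  have := conj_closed_inv (fun e he => Stab_AU h hg he) _ ha
  rwa [show g⁻¹ * (g * a * g⁻¹) * g = a by group] at this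

/-- All lifts of two isometries commute. -/
def CommP (p : ℕ × ℕ) : Prop :=
  ∀ a a', a ∈ AU h → a' ∈ AU h → h.ρ a = Xp p.1 → h.ρ a' = Xp p.2 → Commute a a'

/-- All lifts are involutions. -/
def SqP (S : ℕ) : Prop := ∀ a, a ∈ AU h → h.ρ a = Xp S → a * a = 1

theorem lift_diff {a b : G} (ha : a ∈ AU h) (hb : b ∈ AU h) (e : h.ρ a = h.ρ b) :
    ∃ c, c ∈ eU h ∧ a = c * b := by
  refine ⟨a * b⁻¹, AU_inf_Q h (mul_mem ha (inv_mem hb)) ((h.ρ_ker _ (AU_comm_z h
    (mul_mem ha (inv_mem hb)))).1 ?_), by group⟩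
  rw [h.ρ_mul _ _ (AU_comm_z h ha) (h.inv_comm (AU_comm_z h hb)), h.ρ_inv (AU_comm_z h hb), e,
    mul_inv_cancel]

theorem eU_central {e a : G} (he : e ∈ eU h) (ha : a ∈ AU h) : Commute e a := (mem_AU h).1 ha e he

theorem CommP_of_one {p : ℕ × ℕ} {a a' : G} (ha : a ∈ AU h) (ha' : a' ∈ AU h)
    (hρ : h.ρ a = Xp p.1) (hρ' : h.ρ a' = Xp p.2) (hc : Commute a a') : CommP h p := by
  intro b b' hb hb' e e'
  obtain ⟨c, hc1, rfl⟩ := lift_diff h hb ha (e.trans hρ.symm)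
  obtain ⟨c', hc2, rfl⟩ := lift_diff h hb' ha' (e'.trans hρ'.symm)
  exact (Commute.mul_left (eU_central h hc1 hb')
    ((Commute.mul_right (eU_central h hc2 ha).symm hc)))

theorem SqP_of_one {S : ℕ} {a : G} (ha : a ∈ AU h) (hρ : h.ρ a = Xp S) (h2 : a * a = 1) :
    SqP h S := by
  intro b hb e
  obtain ⟨c, hc, rfl⟩ := lift_diff h hb ha (e.trans hρ.symm)
  rw [show c * a * (c * a) = c * (a * c) * a by group, ← (eU_central h hc ha).eq,
    show c * (c * a) * a = c * c * (a * a) by group, (eU_facts h hc hc).2, h2, mul_one]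

theorem T_move (t : Fin 12) {S : ℕ} (hS : S < 64) {a : G} (ha : a ∈ AU h) (hρ : h.ρ a = Xp S)
    {g : G} (hg : g * z = z * g) (hgρ : h.ρ g = Tk t) :
    g * a * g⁻¹ ∈ AU h ∧ h.ρ (g * a * g⁻¹) = Xp (TS t.val S) :=
  ⟨Stab_AU h (Stab_T h hg hgρ) ha, by
    rw [h.ρ_conj hg (AU_comm_z h ha), hgρ, hρ, (TS_spec t hS).2, mul_inv_cancel_right]⟩

theorem exists_lift_S {S : ℕ} (hS : S < 64) : ∃ a, a ∈ AU h ∧ h.ρ a = Xp S :=
  exists_AU h (Xp_mem S) fun _ hn => Xp_fix hS hn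

theorem CommP_step (t : Fin 12) {p : ℕ × ℕ} (h1 : p.1 < 64) (h2 : p.2 < 64) (hp : CommP h p) :
    CommP h (TS t.val p.1, TS t.val p.2) := by
  obtain ⟨g, hg, hgρ⟩ := h.ρ_surj (Tk t) (Tk_mem t)
  obtain ⟨a, ha, hρ⟩ := exists_lift_S h h1
  obtain ⟨a', ha', hρ'⟩ := exists_lift_S h h2
  obtain ⟨m1, r1⟩ := T_move h t h1 ha hρ hg hgρ
  obtain ⟨m2, r2⟩ := T_move h t h2 ha' hρ' hg hgρ
  refine CommP_of_one h m1 m2 r1 r2 ?_
  show g * a * g⁻¹ * (g * a' * g⁻¹) = g * a' * g⁻¹ * (g * a * g⁻¹)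
  rw [conj_mul, conj_mul, (hp a a' ha ha' hρ hρ').eq]

theorem SqP_step (t : Fin 12) {S : ℕ} (h1 : S < 64) (hp : SqP h S) : SqP h (TS t.val S) := by
  obtain ⟨g, hg, hgρ⟩ := h.ρ_surj (Tk t) (Tk_mem t)
  obtain ⟨a, ha, hρ⟩ := exists_lift_S h h1
  obtain ⟨m1, r1⟩ := T_move h t h1 ha hρ hg hgρ
  exact SqP_of_one h m1 r1 (by rw [conj_mul, hp a ha hρ, mul_one, mul_inv_cancel])

/-- Closing a list under the steps of a certificate. -/
def runC {α : Type} [BEq α] (f : ℕ → α → α) : List α → List (α × Fin 12 × α) → Option (List α)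
  | K, [] => some K
  | K, (p, t, c) :: rest => if K.contains p && f t.val p == c then runC f (c :: K) rest else none

theorem runC_sound {α : Type} [BEq α] [LawfulBEq α] {f : ℕ → α → α} {P : α → Prop}
    (hf : ∀ (t : Fin 12) p, P p → P (f t.val p)) :
    ∀ {L : List (α × Fin 12 × α)} {K R : List α}, runC f K L = some R → (∀ p ∈ K, P p) →
      ∀ p ∈ R, P p
  | [], _, _, e, hK => by cases e; exact hK
  | (p, t, c) :: rest, K, R, e, hK => by
    simp only [runC] at e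
    split_ifs at e with hc
    rw [Bool.and_eq_true, beq_iff_eq, List.contains_iff_mem] at hc
    refine runC_sound hf e fun q hq => ?_
    rcases List.mem_cons.1 hq with rfl | hq
    exacts [hc.2 ▸ hf t p (hK p hc.1), hK q hq]

theorem runC_any {α : Type} [BEq α] [LawfulBEq α] {f : ℕ → α → α} {P : α → Prop}
    {K : List α} {L : List (α × Fin 12 × α)} {chk : List α → Bool}
    (e : (runC f K L).any chk = true) (hf : ∀ (t : Fin 12) p, P p → P (f t.val p))
    (hK : ∀ p ∈ K, P p) : ∃ R, chk R = true ∧ ∀ p ∈ R, P p := by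
  cases hr : runC f K L with
  | none => rw [hr] at e; simp at e
  | some R =>
    rw [hr] at e
    exact ⟨R, e, runC_sound hf hr hK⟩

/-- The certificate for commuting pairs. -/
def pairCert : List ((ℕ × ℕ) × Fin 12 × (ℕ × ℕ)) :=
  [((1, 2), 0, (1, 10)), ((1, 2), 1, (9, 2)), ((1, 2), 2, (17, 34)), ((1, 2), 5, (5, 2)),
    ((1, 2), 8, (1, 6)), ((1, 32), 1, (9, 32)), ((1, 32), 2, (17, 32)), ((1, 32), 4, (3, 32)),
    ((1, 32), 5, (5, 32)), ((2, 1), 0, (10, 1)), ((2, 1), 1, (2, 9)), ((2, 1), 2, (34, 17)),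
    ((2, 1), 5, (2, 5)), ((2, 1), 8, (6, 1)), ((1, 10), 2, (17, 42)), ((1, 10), 3, (1, 8)),
    ((9, 2), 2, (25, 34)), ((9, 2), 5, (45, 2)), ((9, 2), 6, (8, 2)), ((17, 34), 9, (16, 32)),
    ((5, 2), 10, (4, 2)), ((1, 6), 11, (1, 4)), ((9, 32), 6, (8, 36)), ((17, 32), 9, (16, 34)),
    ((3, 32), 7, (2, 48)), ((5, 32), 10, (4, 40)), ((10, 1), 2, (42, 17)), ((10, 1), 3, (8, 1)),
    ((2, 9), 2, (34, 25)), ((2, 9), 5, (2, 45)), ((2, 9), 6, (2, 8)), ((34, 17), 9, (32, 16)),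
    ((2, 5), 10, (2, 4)), ((6, 1), 11, (4, 1)), ((17, 42), 9, (16, 40)), ((1, 8), 5, (5, 40)),
    ((1, 8), 8, (1, 24)), ((25, 34), 9, (24, 32)), ((45, 2), 6, (40, 2)), ((8, 2), 8, (24, 6)),
    ((8, 36), 1, (8, 4)), ((16, 34), 2, (16, 2)), ((2, 48), 4, (2, 16)), ((4, 40), 5, (4, 8)),
    ((42, 17), 9, (40, 16)), ((8, 1), 5, (40, 5)), ((8, 1), 8, (24, 1)), ((34, 25), 9, (32, 24)),
    ((2, 45), 6, (2, 40)), ((2, 8), 8, (6, 24)), ((16, 40), 5, (16, 8)), ((5, 40), 10, (4, 32)),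
    ((1, 24), 11, (1, 16)), ((24, 32), 8, (8, 32)), ((40, 2), 10, (32, 2)), ((24, 6), 11, (16, 4)),
    ((40, 16), 5, (8, 16)), ((40, 5), 10, (32, 4)), ((24, 1), 11, (16, 1)), ((32, 24), 8, (32, 8)),
    ((2, 40), 10, (2, 32)), ((6, 24), 11, (4, 16))]

/-- The certificate for involutions. -/
def sqCert : List (ℕ × Fin 12 × ℕ) :=
  [(1, 1, 9), (1, 2, 17), (1, 4, 3), (1, 5, 5),
    (9, 5, 45), (9, 6, 8), (17, 9, 16), (3, 7, 2),
    (5, 10, 4), (45, 6, 40), (40, 10, 32)]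

theorem pairCert_ok : ((runC (fun t p => (TS t p.1, TS t p.2)) [(1, 2), (1, 32), (2, 1), (32, 1)]
    pairCert).any fun R => (List.range 6).all fun k => (List.range 6).all fun l =>
      k == l || R.contains (2 ^ k, 2 ^ l)) = true := by decide +kernel

theorem sqCert_ok : ((runC TS [1] sqCert).any fun R =>
    (List.range 6).all fun k => R.contains (2 ^ k)) = true := by decide +kernel

attribute [local irreducible] runC TS pairCert sqCert

variable {s w : G} (P : Pair h s w)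
include P

theorem s_mem_eU : s ∈ eU h :=
  ⟨P.hs, by rw [P.hπ, show v0 = vec 1 by decide]; exact InU_vec (by norm_num)⟩

theorem AU_comm_s {a : G} (ha : a ∈ AU h) : a * s = s * a :=
  ((mem_AU h).1 ha s (s_mem_eU h P)).symm

theorem gE_InA {k : ℕ} (hk : k < 4) : InA Q s (gE h k) :=
  ⟨(gE_mem h hk).1, (eU_facts h (gE_mem h hk) (s_mem_eU h P)).1.eq⟩

theorem B_mem_AU {b : G} (hb : InB z Q w b)
    (hu : ∀ k : Fin 4, fU (vec (2 ^ k.val)).2 (theta h b) = 0) : b ∈ AU h := by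
  refine AU_of_gens h hb.2 fun k hk => ?_
  have e := P.comm_AB (gE_InA h P hk) hb
  rw [alpha, gE, (lift_spec h _).2, hu ⟨k, hk⟩] at e
  have e' : gE h k * b * (gE h k)⁻¹ * b⁻¹ = 1 := by rw [gE, e]; simp [tt, zp]
  rw [mul_inv_eq_one, mul_inv_eq_iff_eq_mul] at e'
  exact (show Commute (gE h k) b from e').symm

theorem B_rho {b : G} (hb : InB z Q w b) {u : U6} (hθ : theta h b = u) {S : ℕ} (hS : S < 64)
    (hdec : ∀ n, n < 256 → ((((vec n).1.1 + fU u (vec n).2 + qU u * (vec n).1.2, (vec n).1.2),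
      (vec n).2 + (vec n).1.2 • u) : V8) = vec (Xmod S n)) : h.ρ b = Xp S :=
  O_ext fun n hn => by rw [P.rho_B hb, hθ, E_app, Xp_app hS hn, hdec n hn]

variable (hGd : Gd h s w)
include hGd

/-- The key commutation. -/
theorem CommP_skew : CommP h (1, 32) := by
  obtain ⟨b, hb, hbθ⟩ := P.exists_B e1
  have hbA : b ∈ AU h := B_mem_AU h P hb (by rw [hbθ]; decide +kernel)
  have hbρ : h.ρ b = Xp 1 := B_rho h P hb hbθ (by norm_num) (by decide +kernel)
  obtain ⟨a, ha, haρ⟩ := exists_lift_S h (S := 32) (by norm_num)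
  have haz := AU_comm_z h ha
  have has := AU_comm_s h P ha
  obtain ⟨i, j, hij, hd⟩ := hGd a b haz has haρ hb hbθ
  obtain ⟨r, hr, hπr, hrs⟩ := h.exists_flip P.hs P.hπ
  obtain ⟨hqA, hqα⟩ := P.flip_B hr hπr hb
  set q' := r * b * r⁻¹ * b⁻¹ with hq'
  have hqE : q' ∈ eU h := by
    refine ⟨hqA.1, ?_⟩
    have h0 : (h.π q').1.2 = 0 := (P.commA hqA.1).1 hqA.2
    have h1 : (h.π q').2 = e1 := hqα.trans hbθ
    exact ⟨h0, by rw [h1]; rfl, by rw [h1]; rfl, by rw [h1]; rfl⟩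
  obtain ⟨l, hl⟩ := Q_decomp h (h.norm a haz r hr) hr (by
    rw [h.ρ_π a haz r hr, hπr, haρ, show f0 = vec 16 by decide,
      Xp_app (by norm_num) (by norm_num)]
    decide +kernel)
  have hcr : Commute (zp z l) r := (zp_central (h.le r hr) l).symm
  have e2 : a * (r * b * r⁻¹) * a⁻¹ = q' * (b * tt z s (i + j) j) := by
    calc a * (r * b * r⁻¹) * a⁻¹ = (a * r * a⁻¹) * (a * b * a⁻¹) * (a * r * a⁻¹)⁻¹ := by group
      _ = zp z l * (r * b * r⁻¹ * (r * tt z s i j * r⁻¹)) * (zp z l)⁻¹ := by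
          rw [hl, hij]; group
      _ = q' * (b * tt z s (i + j) j) := by
          rw [P.flip_tt hr hrs]
          have hcc : Commute (zp z l) (r * b * r⁻¹ * tt z s (i + j) j) :=
            ((hcr.mul_right (zp_central hb.2 l).symm).mul_right hcr.inv_right).mul_right
              (zp_central (h.le _ (P.tt_Q _ _)) l).symm
          rw [hcc.eq, mul_inv_cancel_right, hq']
          group
  have e3 : a * (r * b * r⁻¹) * a⁻¹ = q' * (b * tt z s i j) := by
    calc a * (r * b * r⁻¹) * a⁻¹ = (a * q' * a⁻¹) * (a * b * a⁻¹) := by rw [hq']; group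
      _ = q' * (b * tt z s i j) := by
          rw [← (eU_central h hqE ha).eq, mul_inv_cancel_right, hij]
  obtain ⟨e4, -⟩ := P.tt_inj (mul_left_cancel (mul_left_cancel (e2.symm.trans e3)))
  have hj : j = 0 := add_eq_left.1 e4
  have hi : i = 0 := by rwa [hj, add_zero] at hd
  refine CommP_of_one h hbA ha hbρ haρ (Commute.symm ?_)
  show a * b = b * a
  rw [← mul_inv_eq_iff_eq_mul, hij, hi, hj]
  simp [tt, zp]

theorem CommP_all (k l : Fin 6) (hkl : k ≠ l) : CommP h (2 ^ k.val, 2 ^ l.val) := by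
  obtain ⟨b1, hb1, h1θ⟩ := P.exists_B e1
  obtain ⟨b2, hb2, h2θ⟩ := P.exists_B e2
  have hb1A : b1 ∈ AU h := B_mem_AU h P hb1 (by rw [h1θ]; decide +kernel)
  have hb2A : b2 ∈ AU h := B_mem_AU h P hb2 (by rw [h2θ]; decide +kernel)
  have h12 : CommP h (1, 2) := by
    refine CommP_of_one h hb1A hb2A (B_rho h P hb1 h1θ (by norm_num) (by decide +kernel))
      (B_rho h P hb2 h2θ (by norm_num) (by decide +kernel)) ?_
    show b1 * b2 = b2 * b1
    rw [P.comm_BB hb1 hb2, h1θ, h2θ, show fU e1 e2 = 0 by decide]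
    simp [tt, zp]
  have hsymm : ∀ p : ℕ × ℕ, CommP h p → CommP h (p.2, p.1) :=
    fun p hp a a' ha ha' e e' => (hp a' a ha' ha e' e).symm
  obtain ⟨R, hall, hsound⟩ := runC_any (f := fun t p => (TS t p.1, TS t p.2))
    (P := fun p : ℕ × ℕ => p.1 < 64 ∧ p.2 < 64 ∧ CommP h p) pairCert_ok
    (fun t p ⟨x1, x2, hp⟩ => ⟨(TS_spec t x1).1, (TS_spec t x2).1, CommP_step h t x1 x2 hp⟩)
    (fun p hp => by
      simp only [List.mem_cons, List.not_mem_nil, or_false] at hp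
      rcases hp with rfl | rfl | rfl | rfl
      · exact ⟨by norm_num, by norm_num, h12⟩
      · exact ⟨by norm_num, by norm_num, CommP_skew h P hGd⟩
      · exact ⟨by norm_num, by norm_num, hsymm (1, 2) h12⟩
      · exact ⟨by norm_num, by norm_num, hsymm (1, 32) (CommP_skew h P hGd)⟩)
  have h1 := List.all_eq_true.1 (List.all_eq_true.1 hall k.val (List.mem_range.2 k.isLt)) l.val
    (List.mem_range.2 l.isLt)
  rw [Bool.or_eq_true, beq_iff_eq, List.contains_iff_mem] at h1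
  rcases h1 with h1 | h1
  · exact absurd (Fin.ext h1) hkl
  · exact (hsound _ h1).2.2

theorem SqP_all (k : Fin 6) : SqP h (2 ^ k.val) := by
  obtain ⟨b1, hb1, h1θ⟩ := P.exists_B e1
  have h1 : SqP h 1 := by
    refine SqP_of_one h (B_mem_AU h P hb1 (by rw [h1θ]; decide +kernel))
      (B_rho h P hb1 h1θ (by norm_num) (by decide +kernel)) ?_
    rw [P.sq_B hb1, h1θ, show qU e1 = 0 by decide]
    simp [tt, zp]
  obtain ⟨R, hall, hsound⟩ := runC_any (P := fun S => S < 64 ∧ SqP h S) sqCert_ok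
    (fun t S ⟨x1, hp⟩ => ⟨(TS_spec t x1).1, SqP_step h t x1 hp⟩)
    (fun S hS => by rw [List.mem_singleton] at hS; subst hS; exact ⟨by norm_num, h1⟩)
  exact (hsound _ (List.contains_iff_mem.1
    (List.all_eq_true.1 hall k.val (List.mem_range.2 k.isLt)))).2

omit P hGd in
theorem Xk_eq_Xp (k : Fin 6) : Xk k = Xp (2 ^ k.val) :=
  O_ext fun n hn => by
    rw [Xk_app k hn, Xp_app (Nat.pow_lt_pow_right (a := 2) (n := 6) (by norm_num) k.isLt) hn]

theorem gA_facts {i j : ℕ} (hi : i < 6) (hj : j < 6) :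
    Commute (gA h i) (gA h j) ∧ gA h i * gA h i = 1 := by
  obtain ⟨mi, ri, -⟩ := gA_spec h hi
  obtain ⟨mj, rj, -⟩ := gA_spec h hj
  rw [Xk_eq_Xp] at ri rj
  refine ⟨?_, SqP_all h P hGd ⟨i, hi⟩ _ mi ri⟩
  by_cases e : i = j
  · subst e; exact Commute.refl _
  · exact CommP_all h P hGd ⟨i, hi⟩ ⟨j, hj⟩ (fun e' => e (Fin.ext_iff.1 e')) _ _ mi mj ri rj

/-- The subgroup `A` is commutative. -/
theorem AU_commute {a b : G} (ha : a ∈ AU h) (hb : b ∈ AU h) : Commute a b := by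
  obtain ⟨x, -, rfl⟩ := exists_el h ha
  obtain ⟨y, -, rfl⟩ := exists_el h hb
  have he := mul_mem (zp_mem_eU h (bz x 0)) (lE_mem h (x / 2 % 16))
  have he' := mul_mem (zp_mem_eU h (bz y 0)) (lE_mem h (y / 2 % 16))
  refine Commute.mul_left (eU_central h he (el_mem h y)) ?_
  refine Commute.mul_right (eU_central h he' (wordA_mem h _)).symm ?_
  exact word_commute (fun i hi => (word_commute (fun j hj =>
    (gA_facts h P hGd hi hj).1) _).symm) _

theorem el_xor (x y : ℕ) : el h (x ^^^ y) = el h x * el h y := by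
  have h1 : bz (x ^^^ y) 0 = bz x 0 + bz y 0 := bz_xor x y 0
  have h2 : (x ^^^ y) / 2 % 16 = (x / 2 % 16) ^^^ (y / 2 % 16) := by
    have e := Nat.shiftRight_xor_distrib (a := x) (b := y) (i := 1)
    simp only [Nat.shiftRight_eq_div_pow, pow_one] at e
    rw [e, show (16 : ℕ) = 2 ^ 4 from rfl, Nat.xor_mod_two_pow]
  have h3 : (x ^^^ y) / 32 = (x / 32) ^^^ (y / 32) := by
    have e := Nat.shiftRight_xor_distrib (a := x) (b := y) (i := 5)
    simpa only [Nat.shiftRight_eq_div_pow] using e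
  have hw := word_xor (g := gA h) (k := 6) (fun i hi j hj => (gA_facts h P hGd hi hj).1)
    (fun i hi => (gA_facts h P hGd hi hi).2) (x / 32) (y / 32)
  rw [el, el, el, h1, h2, h3, zp_add h.zz, lE_xor, hw]
  have c1 : Commute (lE h (x / 2 % 16)) (zp z (bz y 0)) :=
    (eU_facts h (lE_mem h _) (zp_mem_eU h _)).1
  have c2 : Commute (word (gA h) 6 (x / 32)) (zp z (bz y 0) * lE h (y / 2 % 16)) :=
    (eU_central h (mul_mem (zp_mem_eU h _) (lE_mem h _)) (wordA_mem h _)).symm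
  calc zp z (bz x 0) * zp z (bz y 0) * (lE h (x / 2 % 16) * lE h (y / 2 % 16)) *
        (word (gA h) 6 (x / 32) * word (gA h) 6 (y / 32))
      = zp z (bz x 0) * (zp z (bz y 0) * lE h (x / 2 % 16)) *
          (lE h (y / 2 % 16) * word (gA h) 6 (x / 32)) * word (gA h) 6 (y / 32) := by group
    _ = zp z (bz x 0) * lE h (x / 2 % 16) * ((zp z (bz y 0) * lE h (y / 2 % 16)) *
          word (gA h) 6 (x / 32)) * word (gA h) 6 (y / 32) := by rw [← c1.eq]; group
    _ = _ := by rw [← c2.eq]; group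

omit P hGd in
theorem el_zero : el h 0 = 1 := by
  simp [el, bz, zp, lE_zero h, word_zero]

theorem el_sq (x : ℕ) : el h x * el h x = 1 := by
  rw [← el_xor h P hGd, Nat.xor_self, el_zero h]

omit P hGd in
theorem el_one : el h 1 = z := by
  simp [el, bz, zp, lE_zero h, word_zero]

theorem AU_elementary : Cfsg.IsElementaryAbelian 2 (AU h) :=
  ⟨⟨⟨fun a b => Subtype.ext (AU_commute h P hGd a.2 b.2).eq⟩⟩, fun a ha => by
    obtain ⟨x, -, rfl⟩ := exists_el h ha
    rw [pow_two, el_sq h P hGd]⟩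

end Cfsg.Agent.PGroups.ConwayA
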