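import Cfsg.Agent.PGroups.ConwayA.Good

/-!
The elements of `C(z)` normalising both lifted maximal singular subspaces, and the squares and
commutations of the lifts of transvections among them.
-/

set_option autoImplicit false
set_option maxRecDepth 100000
set_option linter.unusedSectionVars false
set_option linter.unusedVariables false
set_option linter.style.longLine false
set_option synthInstance.maxSize 4000
set_option synthInstance.maxHeartbeats 400000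

namespace Cfsg.Agent.PGroups.ConwayA

open QuadraticMap Cfsg.Agent.Orthogonal Cfsg.Agent.H73.Conway Cfsg.Agent.H92.ExtraForm

variable {G : Type*} [Group G] [Finite G] {z : G} {Q : Subgroup G}

/-- The subgroup of lifts of the first half. -/
def Ehat (h : Setup z Q) : Subgroup G where
  carrier := {q | ∃ n, n < 16 ∧ q = lE h n}
  mul_mem' := by
    rintro a b ⟨m, hm, rfl⟩ ⟨n, hn, rfl⟩
    exact ⟨m ^^^ n, Nat.xor_lt_two_pow (n := 4) hm hn, (lE_xor h m n).symm⟩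
  one_mem' := ⟨0, by norm_num, (lE_zero h).symm⟩
  inv_mem' := by
    rintro a ⟨m, hm, rfl⟩
    exact ⟨m, hm, inv_eq_of_mul_eq_one_left (eU_facts h (lE_mem h m) (lE_mem h m)).2⟩

/-- The subgroup of lifts of the second half. -/
def Fhat (h : Setup z Q) : Subgroup G where
  carrier := {q | ∃ n, n < 16 ∧ q = lF h n}
  mul_mem' := by
    rintro a b ⟨m, hm, rfl⟩ ⟨n, hn, rfl⟩
    exact ⟨m ^^^ n, Nat.xor_lt_two_pow (n := 4) hm hn, (lF_xor h m n).symm⟩
  one_mem' := ⟨0, by norm_num, (lF_zero h).symm⟩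
  inv_mem' := by
    rintro a ⟨m, hm, rfl⟩
    exact ⟨m, hm, inv_eq_of_mul_eq_one_left (by rw [← lF_xor, Nat.xor_self, lF_zero])⟩

/-- The common normaliser in the centraliser of `z`. -/
def Lg (h : Setup z Q) : Subgroup G :=
  Subgroup.centralizer ({z} : Set G) ⊓
    (Subgroup.normalizer (Ehat h : Set G) ⊓ Subgroup.normalizer (Fhat h : Set G))

variable (h : Setup z Q)

theorem Lg_z {g : G} (hg : g ∈ Lg h) : g * z = z * g :=
  Subgroup.mem_centralizer_singleton_iff.1 hg.1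

theorem mem_normalizer_of_word {H : Subgroup G} {u : ℕ → G}
    (hH : ∀ q ∈ H, ∃ n, q = word u 4 n) {g : G} (hg : ∀ m, m < 4 → g * u m * g⁻¹ ∈ H) :
    g ∈ Subgroup.normalizer (H : Set G) := by
  have hall : ∀ q ∈ H, g * q * g⁻¹ ∈ H := by
    intro q hq
    obtain ⟨n, rfl⟩ := hH q hq
    exact (word_mem (H := H.comap (MulAut.conj g).toMonoidHom) hg n :)
  rw [Subgroup.mem_normalizer_iff]
  refine fun a => ⟨fun ha => hall a ha, fun ha => ?_⟩
  have := conj_closed_inv hall _ ha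
  rwa [show g⁻¹ * (g * a * g⁻¹) * g = a by group] at this

theorem Lg_lE {g : G} (hg : g ∈ Lg h) {n m : ℕ} (hn : n < 16) (hm : m < 16)
    (e : (h.ρ g : V8 ≃ₗ[ZMod 2] V8) (vec n) = vec m) : g * lE h n * g⁻¹ = lE h m := by
  obtain ⟨k, hk, hke⟩ := (Subgroup.mem_normalizer_iff.1 hg.2.1 (lE h n)).1 ⟨n, hn, rfl⟩
  have := congrArg h.π hke
  rw [h.ρ_π g (Lg_z h hg) _ (lE_mem h n).1, π_lE h hn, π_lE h hk, e] at this
  rw [hke, vec_inj (by omega) (by omega) this]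

theorem Lg_lF {g : G} (hg : g ∈ Lg h) {n m : ℕ} (hn : n < 16) (hm : m < 16)
    (e : (h.ρ g : V8 ≃ₗ[ZMod 2] V8) (vec (n * 16)) = vec (m * 16)) :
    g * lF h n * g⁻¹ = lF h m := by
  obtain ⟨k, hk, hke⟩ := (Subgroup.mem_normalizer_iff.1 hg.2.2 (lF h n)).1 ⟨n, hn, rfl⟩
  have := congrArg h.π hke
  rw [h.ρ_π g (Lg_z h hg) _ (lF_mem h n), π_lF h hn, π_lF h hk, e] at this
  have := vec_inj (by omega) (by omega) this
  rw [hke, show k = m by omega]

/-- An element of `Q` is fixed when both of its parts are. -/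
theorem Lg_fix {g : G} (hg : g ∈ Lg h) {q : G} (hq : q ∈ Q) {m : ℕ} (hm : m < 256)
    (e : h.π q = vec m) (e1 : (h.ρ g : V8 ≃ₗ[ZMod 2] V8) (vec (m % 16)) = vec (m % 16))
    (e2 : (h.ρ g : V8 ≃ₗ[ZMod 2] V8) (vec (m / 16 * 16)) = vec (m / 16 * 16)) :
    g * q * g⁻¹ = q := by
  obtain ⟨i, hi⟩ := Q_decomp h hq (mul_mem (lE_mem h (m % 16)).1 (lF_mem h (m / 16))) (by
    rw [h.π_mul _ (lE_mem h _).1 _ (lF_mem h _), π_lE h (Nat.mod_lt _ (by norm_num)),
      π_lF h (by omega), e]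
    conv_lhs => rw [code_split (vec m), code_vec m hm])
  rw [hi, ← conj_mul, ← conj_mul, Lg_lE h hg (Nat.mod_lt _ (by norm_num))
    (Nat.mod_lt _ (by norm_num)) e1, Lg_lF h hg (by omega) (by omega) e2,
    (zp_central (Lg_z h hg) i).eq, mul_inv_cancel_right]

theorem B8_detect : ∀ y : V8, (∀ m : Fin 4, B8 (vec (2 ^ m.val)) y = 0 ∧
    B8 (vec (2 ^ (4 + m.val))) y = 0) → y = 0 := by decide +kernel

theorem Lg_Q {q : G} (hq : q ∈ Q) (hL : q ∈ Lg h) : q = 1 ∨ q = z := by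
  refine (h.π_zero q hq).1 (B8_detect _ fun m => ?_)
  have hm : 2 ^ m.val < 16 := Nat.pow_lt_pow_right (a := 2) (n := 4) (by norm_num) m.isLt
  have hρ : ∀ y, (h.ρ q : V8 ≃ₗ[ZMod 2] V8) y = y := fun y => by rw [h.ρ_Q hq]; rfl
  constructor
  · have e := Lg_lE h hL hm hm (hρ _)
    rw [conjQ h (lE_mem h _).1 hq, π_lE h hm] at e
    exact zp_inj h.z_ne ((mul_eq_left.1 e).trans (zp_zero z).symm)
  · have e := Lg_lF h hL hm hm (hρ _)
    rw [conjQ h (lF_mem h _) hq, π_lF h hm,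
      show 2 ^ m.val * 16 = 2 ^ (4 + m.val) by rw [pow_add]; ring] at e
    exact zp_inj h.z_ne ((mul_eq_left.1 e).trans (zp_zero z).symm)

theorem Lg_unique {g g' : G} (hg : g ∈ Lg h) (hg' : g' ∈ Lg h) (e : h.ρ g = h.ρ g') :
    ∃ i : ZMod 2, g = zp z i * g' := by
  have hz := Lg_z h hg'
  have hQ : g * g'⁻¹ ∈ Q := (h.ρ_ker _ (h.mul_comm' (Lg_z h hg) (h.inv_comm hz))).1 (by
    rw [h.ρ_mul _ _ (Lg_z h hg) (h.inv_comm hz), h.ρ_inv hz, e, mul_inv_cancel])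
  rcases Lg_Q h hQ (mul_mem hg (inv_mem hg')) with e' | e'
  · exact ⟨0, by rw [zp_zero, one_mul]; exact mul_inv_eq_one.1 e'⟩
  · exact ⟨1, by rw [zp_one]; exact mul_inv_eq_iff_eq_mul.1 e'⟩

theorem T_blocks : ∀ t : Fin 12, ∀ m : Fin 4, Tmod t.val (2 ^ m.val) < 16 ∧
    Tmod t.val (2 ^ (4 + m.val)) = Tmod t.val (2 ^ (4 + m.val)) / 16 * 16 := by decide +kernel

/-- Normalised lifts of the transvections. -/
theorem exists_Tl (t : Fin 12) : ∃ g, g ∈ Lg h ∧ h.ρ g = Tk t := by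
  obtain ⟨c, hc, hρ⟩ := h.ρ_surj (Tk t) (Tk_mem t)
  have hp : ∀ m : Fin 4, 2 ^ m.val < 16 ∧ 2 ^ (4 + m.val) < 256 := by decide
  have hT : ∀ m : Fin 4, Tmod t.val (2 ^ (4 + m.val)) / 16 < 16 := fun m => by
    have := Tmod_lt t (hp m).2; omega
  have hE : ∀ m : Fin 4, ∃ l : ZMod 2,
      c * gE h m.val * c⁻¹ = lE h (Tmod t.val (2 ^ m.val)) * zp z l := by
    intro m
    obtain ⟨l, hl⟩ := Q_decomp h (h.norm c hc _ (gE_mem h m.isLt).1)
      (lE_mem h (Tmod t.val (2 ^ m.val))).1 (by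
        rw [h.ρ_π c hc _ (gE_mem h m.isLt).1, gE, (lift_spec h _).2, hρ,
          Tk_app t (by have := hp m; omega), π_lE h (T_blocks t m).1])
    exact ⟨l, by rw [hl]; exact (zp_central (h.le _ (lE_mem h _).1) l).eq.symm⟩
  have hF : ∀ m : Fin 4, ∃ l : ZMod 2,
      c * gF h m.val * c⁻¹ = lF h (Tmod t.val (2 ^ (4 + m.val)) / 16) * zp z l := by
    intro m
    obtain ⟨l, hl⟩ := Q_decomp h (h.norm c hc _ (gF_mem h m.val))
      (lF_mem h (Tmod t.val (2 ^ (4 + m.val)) / 16)) (by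
        rw [h.ρ_π c hc _ (gF_mem h _), gF, (lift_spec h _).2, hρ, Tk_app t (hp m).2,
          π_lF h (hT m), ← (T_blocks t m).2])
    exact ⟨l, by rw [hl]; exact (zp_central (h.le _ (lF_mem h _)) l).eq.symm⟩
  choose a ha using hE
  choose b hb using hF
  obtain ⟨ha', haB, -⟩ := num4_spec a
  obtain ⟨hb', -, hbB⟩ := num4_spec b
  set q := lE h (num4 b) * lF h (num4 a) with hq
  have hqQ : q ∈ Q := mul_mem (lE_mem h _).1 (lF_mem h _)
  have hqz := h.le q hqQ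
  have hπq : h.π q = vec (num4 b) + vec (num4 a * 16) := by
    rw [h.π_mul _ (lE_mem h _).1 _ (lF_mem h _), π_lE h hb', π_lF h ha']
  have hform : ∀ m : Fin 4, B8 (vec (2 ^ m.val)) (vec (num4 b) + vec (num4 a * 16)) = a m ∧
      B8 (vec (2 ^ (4 + m.val))) (vec (num4 b) + vec (num4 a * 16)) = b m := by
    intro m
    have key : ∀ m : Fin 4, ∀ p r : Fin 16,
        B8 (vec (2 ^ m.val)) (vec p.val + vec (r.val * 16)) = B8 (vec (2 ^ m.val)) (vec (r.val * 16)) ∧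
        B8 (vec (2 ^ (4 + m.val))) (vec p.val + vec (r.val * 16)) =
          B8 (vec p.val) (vec (2 ^ (4 + m.val))) := by decide +kernel
    obtain ⟨k1, k2⟩ := key m ⟨_, hb'⟩ ⟨_, ha'⟩
    exact ⟨k1.trans (haB m), k2.trans (hbB m)⟩
  have hconj : ∀ (x y : G) (l : ZMod 2), x ∈ Q → q * x * q⁻¹ = x * zp z l → c * x * c⁻¹ = y * zp z l →
      c * q * x * (c * q)⁻¹ = y := by
    intro x y l hx h1 h2
    calc c * q * x * (c * q)⁻¹ = c * (q * x * q⁻¹) * c⁻¹ := by group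
      _ = c * x * c⁻¹ * (c * zp z l * c⁻¹) := by rw [h1]; group
      _ = y := by
        rw [h2, (zp_central hc l).eq, mul_inv_cancel_right, mul_assoc, ← zp_add h.zz,
          CharTwo.add_self_eq_zero, zp_zero, mul_one]
  refine ⟨c * q, ⟨Subgroup.mem_centralizer_singleton_iff.2 (h.mul_comm' hc hqz),
    mem_normalizer_of_word (H := Ehat h) (u := gE h) (fun x ⟨n, _, e⟩ => ⟨n, e⟩) fun m hm => ⟨_, (T_blocks t ⟨m, hm⟩).1, ?_⟩,
    mem_normalizer_of_word (H := Fhat h) (u := gF h) (fun x ⟨n, _, e⟩ => ⟨n, e⟩) fun m hm => ⟨_, hT ⟨m, hm⟩, ?_⟩⟩, ?_⟩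
  · refine hconj _ _ (a ⟨m, hm⟩) (gE_mem h hm).1 ?_ (ha ⟨m, hm⟩)
    rw [conjQ h (gE_mem h hm).1 hqQ, hπq, gE, (lift_spec h _).2]
    exact congrArg (fun i => _ * zp z i) (hform ⟨m, hm⟩).1
  · refine hconj _ _ (b ⟨m, hm⟩) (gF_mem h m) ?_ (hb ⟨m, hm⟩)
    rw [conjQ h (gF_mem h m) hqQ, hπq, gF, (lift_spec h _).2]
    exact congrArg (fun i => _ * zp z i) (hform ⟨m, hm⟩).2
  · rw [h.ρ_mul _ _ hc hqz, h.ρ_Q hqQ, mul_one, hρ]

/-- The chosen normalised lift. -/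
noncomputable def Tl (t : Fin 12) : G := (exists_Tl h t).choose

theorem Tl_spec (t : Fin 12) : Tl h t ∈ Lg h ∧ h.ρ (Tl h t) = Tk t := (exists_Tl h t).choose_spec

/-- The product of the lifts in a list. -/
noncomputable def pr : List (Fin 12) → G
  | [] => 1
  | t :: w => Tl h t * pr w

/-- The action of a list. -/
def Wmod : List (Fin 12) → ℕ → ℕ
  | [], n => n
  | t :: w, n => Tmod t.val (Wmod w n)

/-- Two lists act in the same way. -/
def sameW (w w' : List (Fin 12)) : Bool := (List.range 256).all fun n => Wmod w n == Wmod w' n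

theorem pr_mem : ∀ w, pr h w ∈ Lg h
  | [] => one_mem _
  | t :: w => mul_mem (Tl_spec h t).1 (pr_mem w)

theorem pr_append : ∀ w w', pr h (w ++ w') = pr h w * pr h w'
  | [], _ => (one_mul _).symm
  | t :: w, w' => by rw [List.cons_append, pr, pr, pr_append w w', mul_assoc]

theorem pr_single (t : Fin 12) : pr h [t] = Tl h t := mul_one _

theorem pr_app : ∀ w {n : ℕ}, n < 256 →
    (h.ρ (pr h w) : V8 ≃ₗ[ZMod 2] V8) (vec n) = vec (Wmod w n) ∧ Wmod w n < 256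
  | [], n, hn => ⟨by rw [pr, h.ρ_one]; rfl, hn⟩
  | t :: w, n, hn => by
    obtain ⟨e, hlt⟩ := pr_app w hn
    refine ⟨?_, Tmod_lt t hlt⟩
    rw [pr, h.ρ_mul _ _ (Lg_z h (Tl_spec h t).1) (Lg_z h (pr_mem h w)), Subgroup.coe_mul, mul_app,
      e, (Tl_spec h t).2, Tk_app t hlt]
    rfl

theorem pr_ext {w w' : List (Fin 12)} (e : sameW w w' = true) :
    ∃ i : ZMod 2, pr h w = zp z i * pr h w' :=
  Lg_unique h (pr_mem h w) (pr_mem h w') (O_ext fun n hn => by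
    rw [(pr_app h w hn).1, (pr_app h w' hn).1,
      eq_of_beq (List.all_eq_true.1 e n (List.mem_range.2 hn))])

include h in
theorem zp_sq (i : ZMod 2) : zp z i * zp z i = 1 := by
  rw [← zp_add h.zz, CharTwo.add_self_eq_zero, zp_zero]

/-- A list conjugating a transvection to another. -/
theorem pr_conj {c : List (Fin 12)} {a b : Fin 12} (e : sameW (b :: c) (c ++ [a]) = true) :
    ∃ i : ZMod 2, Tl h b = zp z i * (pr h c * Tl h a * (pr h c)⁻¹) := by
  obtain ⟨i, hi⟩ := pr_ext h e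
  rw [pr, pr_append, pr_single] at hi
  exact ⟨i, by rw [eq_mul_inv_of_mul_eq hi]; group⟩

variable {s w : G} (P : Pair h s w)
include P

omit P in
include h in
theorem zp_twist {g : G} (hg : g * z = z * g) (hg2 : g * g = 1) (i : ZMod 2) :
    zp z i * g * (zp z i * g) = 1 := by
  rw [show zp z i * g * (zp z i * g) = zp z i * (g * zp z i) * g by group,
    (zp_central hg i).eq, show zp z i * (zp z i * g) * g = zp z i * zp z i * (g * g) by group,
    zp_sq h, hg2, mul_one]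

theorem Lg_s {g : G} (hg : g ∈ Lg h) (e : (h.ρ g : V8 ≃ₗ[ZMod 2] V8) (vec 1) = vec 1) :
    g * s = s * g := by
  have := Lg_fix h hg P.hs (m := 1) (by norm_num) (by rw [P.hπ]; decide) e
    (by show (h.ρ g : V8 ≃ₗ[ZMod 2] V8) (vec 0) = vec 0; rw [vec_zero, map_zero])
  exact mul_inv_eq_iff_eq_mul.1 this

omit P in
theorem code_low : ∀ y : V8, y.1.2 = 0 →
    (∀ k ∈ [4, 8, 32, 64, 128], fU (vec k).2 y.2 = 0) →
      code y ∈ [0, 1, 32, 33] ∧ qU y.2 = 0 ∧ fU y.2 f1' = 0 := by decide +kernel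

omit P in
theorem E_f1 : ∀ n, n < 256 → ((((vec n).1.1 + fU f1' (vec n).2 + qU f1' * (vec n).1.2, (vec n).1.2),
    (vec n).2 + (vec n).1.2 • f1') : V8) = vec (Tmod 3 n) := by decide +kernel

/-- The lift of the first transvection is the product of elements of `A` and `B`. -/
theorem base_split : ∃ q b m, InA Q s q ∧ InB z Q w b ∧ theta h b = f1' ∧ h.π q = vec m ∧
    m ∈ [0, 1, 32, 33] ∧ Tl h 3 = q * b ∧ q * b * (q * b) = 1 := by
  obtain ⟨hg, hρ⟩ := Tl_spec h 3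
  set g := Tl h 3
  have hgz := Lg_z h hg
  have happ : ∀ n, n < 256 → (h.ρ g : V8 ≃ₗ[ZMod 2] V8) (vec n) = vec (Tmod 3 n) := fun n hn => by
    rw [hρ, Tk_app 3 hn]; rfl
  have hgs : g * s = s * g := Lg_s h P hg (happ 1 (by norm_num))
  obtain ⟨b, hb, hbθ⟩ := P.exists_B f1'
  have hbρ : h.ρ b = h.ρ g := O_ext fun n hn => by
    rw [P.rho_B hb, hbθ, E_app, happ n hn, E_f1 n hn]
  have hq : InA Q s (g * b⁻¹) := InA_of_rho P hgz hgs hb.2 (P.sB hb) hbρ.symm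
  set q := g * b⁻¹ with hqdef
  have hperp : ∀ k ∈ [4, 8, 32, 64, 128], fU (vec k).2 (h.π q).2 = 0 := by
    intro k hk
    have hk' : k < 256 ∧ Tmod 3 (k % 16) = k % 16 ∧ Tmod 3 (k / 16 * 16) = k / 16 * 16 ∧
        (vec k).1 = 0 ∧ fU (vec k).2 f1' = 0 := by
      revert k; decide +kernel
    obtain ⟨x, hx, hxπ⟩ := h.π_surj (vec k)
    have hxA : InA Q s x := ⟨hx, (P.commA hx).2 (by rw [hxπ, hk'.2.2.2.1]; rfl)⟩
    have hxg := Lg_fix h hg hx hk'.1 hxπ (by rw [happ _ (by omega), hk'.2.1])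
      (by rw [happ _ (by omega), hk'.2.2.1])
    have hbx : b * x * b⁻¹ = x := by
      have e := P.comm_AB hxA hb
      rw [alpha, hxπ, hbθ, hk'.2.2.2.2] at e
      have e' : x * b * x⁻¹ * b⁻¹ = 1 := by rw [e]; simp [tt, zp]
      rw [mul_inv_eq_one, mul_inv_eq_iff_eq_mul] at e'
      rw [← e', mul_inv_cancel_right]
    have hqx : q * x * q⁻¹ = x := by
      calc q * x * q⁻¹ = q * (b * x * b⁻¹) * q⁻¹ := by rw [hbx]
        _ = g * x * g⁻¹ := by rw [hqdef]; group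
        _ = x := hxg
    rw [conjQ h hx hq.1] at hqx
    have h0 := zp_inj h.z_ne ((mul_eq_left.1 hqx).trans (zp_zero z).symm)
    rw [hxπ, B8, hk'.2.2.2.1] at h0
    simpa using h0
  obtain ⟨hm, hqU, hfU⟩ := code_low (h.π q) ((P.commA hq.1).1 hq.2) hperp
  refine ⟨q, b, code (h.π q), hq, hb, hbθ, ((code_spec _).2).symm, hm, by rw [hqdef]; group, ?_⟩
  rw [P.sq_AB hq hb, alpha, hbθ, hqU, hfU, show qU f1' = 0 by decide]
  simp [tt, zp]

/-- Conjugators from the first transvection. -/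
theorem Tl_sq_of {c : List (Fin 12)} {t : Fin 12} (e : sameW (t :: c) (c ++ [3]) = true) :
    Tl h t * Tl h t = 1 := by
  obtain ⟨q, b, m, -, -, -, -, -, e3, h2⟩ := base_split h P
  obtain ⟨i, hi⟩ := pr_conj h e
  have hcz := Lg_z h (mul_mem (mul_mem (pr_mem h c) (Tl_spec h 3).1) (inv_mem (pr_mem h c)))
  rw [hi]
  refine zp_twist h hcz ?_ i
  rw [conj_mul, e3, h2, mul_one, mul_inv_cancel]

/-- The transvections of the list are lifted by involutions. -/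
theorem Tl_sq {t : Fin 12} (ht : t ∈ ([3, 6, 7, 9, 10, 11] : List (Fin 12))) :
    Tl h t * Tl h t = 1 := by
  simp only [List.mem_cons, List.not_mem_nil, or_false] at ht
  rcases ht with rfl | rfl | rfl | rfl | rfl | rfl
  · exact Tl_sq_of h P (c := []) (by decide +kernel)
  · exact Tl_sq_of h P (c := [4, 7]) (by decide +kernel)
  · exact Tl_sq_of h P (c := [1, 6, 3, 0]) (by decide +kernel)
  · exact Tl_sq_of h P (c := [5, 10]) (by decide +kernel)
  · exact Tl_sq_of h P (c := [2, 9, 3, 0]) (by decide +kernel)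
  · exact Tl_sq_of h P (c := [5, 10, 6, 1]) (by decide +kernel)

omit P in
theorem conj_sign : ∀ n, n < 256 →
    (((vec (Xmod 32 n)).1, tU ((1, 1), (0, 0), 0, 0) (tU ((0, 0), (0, 0), 1, 1) (vec (Xmod 32 n)).2)) : V8) =
      vec (Tmod 11 (code ((vec n).1,
        tU ((1, 1), (0, 0), 0, 0) (tU ((0, 0), (0, 0), 1, 1) (vec n).2)))) := by
  decide +kernel

variable (hGd : Gd h s w)
include hGd

/-- The lifts of two disjoint transvections commute. -/
theorem base_comm : Commute (Tl h 3) (Tl h 11) := by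
  obtain ⟨q, b, m, hq, hb, hbθ, hπq, hm, e3, -⟩ := base_split h P
  obtain ⟨hτ, hτρ⟩ := Tl_spec h 11
  set τ := Tl h 11
  have hτz := Lg_z h hτ
  have happ : ∀ n, n < 256 → (h.ρ τ : V8 ≃ₗ[ZMod 2] V8) (vec n) = vec (Tmod 11 n) := fun n hn => by
    rw [hτρ, Tk_app 11 hn]; rfl
  have hτs : τ * s = s * τ := Lg_s h P hτ (happ 1 (by norm_num))
  have hfix : ∀ x ∈ Q, ∀ k, k ∈ [0, 1, 16, 32, 33] → h.π x = vec k → τ * x * τ⁻¹ = x := by
    intro x hx k hk e
    have hk' : k < 256 ∧ Tmod 11 (k % 16) = k % 16 ∧ Tmod 11 (k / 16 * 16) = k / 16 * 16 := by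
      clear e; revert k; decide +kernel
    exact Lg_fix h hτ hx hk'.1 e (by rw [happ _ (by omega), hk'.2.1])
      (by rw [happ _ (by omega), hk'.2.2])
  have hres : res (h.ρ τ) f1' = f1' := by
    rw [res, show emb f1' = vec 32 by decide, happ 32 (by norm_num)]
    decide
  obtain ⟨i, j, hij⟩ := P.eq_mul_tt_B hb (P.InB_conj hτz hτs hb)
    (by rw [P.theta_conj hτz hτs hb, hbθ, hres])
  -- the partner of `s`
  have hr : lF h 1 ∈ Q := lF_mem h 1
  have hπr : h.π (lF h 1) = f0 := by rw [π_lF h (by norm_num)]; decide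
  set r := lF h 1
  have hrs : r * s * r⁻¹ = s * z := by
    rw [conjQ h P.hs hr, P.hπ, hπr, show B8 v0 f0 = 1 by decide, zp_one]
  have hτr : τ * r * τ⁻¹ = r := hfix r hr 16 (by simp) (by rw [hπr]; decide)
  obtain ⟨hqA, hqα⟩ := P.flip_B hr hπr hb
  set q' := r * b * r⁻¹ * b⁻¹ with hq'
  have hτq' : τ * q' * τ⁻¹ = q' := by
    have key : ∀ y : V8, y.1.2 = 0 → y.2 = f1' → code y = 32 ∨ code y = 33 := by decide +kernel
    refine hfix q' hqA.1 (code (h.π q')) ?_ (code_spec _).2.symm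
    rcases key _ ((P.commA hqA.1).1 hqA.2) (hqα.trans hbθ) with e | e <;> simp [e]
  have e1' : τ * (r * b * r⁻¹) * τ⁻¹ = q' * (b * tt z s (i + j) j) := by
    calc τ * (r * b * r⁻¹) * τ⁻¹ = (τ * r * τ⁻¹) * (τ * b * τ⁻¹) * (τ * r * τ⁻¹)⁻¹ := by group
      _ = r * b * r⁻¹ * (r * tt z s i j * r⁻¹) := by rw [hτr, hij]; group
      _ = _ := by rw [P.flip_tt hr hrs, hq']; group
  have e2' : τ * (r * b * r⁻¹) * τ⁻¹ = q' * (b * tt z s i j) := by
    calc τ * (r * b * r⁻¹) * τ⁻¹ = (τ * q' * τ⁻¹) * (τ * b * τ⁻¹) := by rw [hq']; group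
      _ = _ := by rw [hτq', hij]
  obtain ⟨e4, -⟩ := P.tt_inj (mul_left_cancel (mul_left_cancel (e1'.symm.trans e2')))
  have hj : j = 0 := add_eq_left.1 e4
  -- the parity
  set r1 : U6 := ((1, 1), (0, 0), 0, 0) with hr1
  set t1 : U6 := ((0, 0), (0, 0), 1, 1) with ht1
  have hr1q : qU r1 = 1 := by decide
  have ht1q : qU t1 = 1 := by decide
  obtain ⟨γ, hγ, hγs, hγρ⟩ := h.exists_lift P.hs P.hπ (pairO_mem hr1q ht1q) (pairO_v0 hr1q ht1q)
  obtain ⟨c, hc, hcs, hcρ⟩ := h.exists_lift P.hs P.hπ (Xp_mem 32) (by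
    rw [show v0 = vec 1 by decide, Xp_fix (by norm_num) (by norm_num)])
  obtain ⟨b1, hb1, hb1θ⟩ := P.exists_B e1
  obtain ⟨k, l, hkl, hd⟩ := hGd c b1 hc hcs hcρ hb1 hb1θ
  have hγc : γ * c * γ⁻¹ * z = z * (γ * c * γ⁻¹) := h.conj_comm hγ hc
  have hγcs : γ * c * γ⁻¹ * s = s * (γ * c * γ⁻¹) :=
    (((show Commute γ s from hγs).mul_left (show Commute c s from hcs)).mul_left
      (show Commute γ s from hγs).inv_left).eq
  have hD : Dh z s (γ * c * γ⁻¹) (γ * b1 * γ⁻¹) 0 := by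
    refine ⟨k, l, ?_, hd⟩
    calc γ * c * γ⁻¹ * (γ * b1 * γ⁻¹) * (γ * c * γ⁻¹)⁻¹ = γ * (c * b1 * c⁻¹) * γ⁻¹ := by group
      _ = _ := by rw [hkl, ← conj_mul, P.tt_fix hγ hγs]
  have hρeq : h.ρ τ = h.ρ (γ * c * γ⁻¹) := by
    rw [h.ρ_conj hγ hc, hγρ, hcρ, eq_mul_inv_iff_mul_eq]
    refine O_ext fun n hn => ?_
    obtain ⟨c1, c2⟩ := code_spec ((vec n).1, tU r1 (tU t1 (vec n).2))
    rw [Subgroup.coe_mul, Subgroup.coe_mul, mul_app, mul_app, pairO_app hr1q ht1q,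
      Xp_app (by norm_num) hn, pairO_app hr1q ht1q, ← c2, happ _ c1]
    exact (conj_sign n hn).symm
  have hθeq : theta h (γ * b1 * γ⁻¹) = theta h b := by
    rw [P.theta_conj hγ hγs hb1, hb1θ, hbθ, hγρ, res, pairO_app hr1q ht1q]
    decide
  have hd' : Dh z s τ b (i + j) := ⟨i, j, hij, rfl⟩
  have := Dh_unique P hd' (Dh_indep P hγc hγcs hτz hτs (P.InB_conj hγ hγs hb1) hb hρeq hθeq hD)
  rw [hj, add_zero] at this
  subst this hj
  have hτb : τ * b * τ⁻¹ = b := by rw [hij]; simp [tt, zp]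
  have hτq : τ * q * τ⁻¹ = q := by
    refine hfix q hq.1 m ?_ hπq
    simp only [List.mem_cons, List.not_mem_nil, or_false] at hm ⊢
    omega
  refine Commute.symm ?_
  show τ * Tl h 3 = Tl h 3 * τ
  rw [← mul_inv_eq_iff_eq_mul, e3, ← conj_mul, hτq, hτb]

/-- The lifts of the second pair commute. -/
theorem comm_seven_nine : Commute (Tl h 7) (Tl h 9) := by
  obtain ⟨i, hi⟩ := pr_conj h (c := [1, 6, 3, 0]) (a := 3) (b := 7) (by decide +kernel)
  obtain ⟨j, hj⟩ := pr_conj h (c := [1, 6, 3, 0]) (a := 11) (b := 9) (by decide +kernel)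
  set C := pr h [1, 6, 3, 0]
  have hzc : ∀ {t : Fin 12} (k : ZMod 2), Commute (zp z k) (C * Tl h t * C⁻¹) := fun {t} k =>
    (zp_central (Lg_z h (mul_mem (mul_mem (pr_mem h _) (Tl_spec h t).1)
      (inv_mem (pr_mem h _)))) k).symm
  have hcc : Commute (C * Tl h 3 * C⁻¹) (C * Tl h 11 * C⁻¹) := by
    show _ = _
    rw [conj_mul, conj_mul, (base_comm h P hGd).eq]
  rw [hi, hj]
  exact Commute.mul_left
    (Commute.mul_right (zp_central (h.le _ (zp_mem_eU h i).1) j) (hzc i))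
    (Commute.mul_right (hzc j).symm hcc)

end Cfsg.Agent.PGroups.ConwayA
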