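import Cfsg.Agent.PGroups.ConwayA.Count
import Cfsg.Agent.H94.M24.OrbitRigid
import Cfsg.Agent.Golay.M24

/-!
The normaliser of `A` induces the group of the code on `A`, read as the code modulo the all-ones
word.
-/

set_option autoImplicit false
set_option maxRecDepth 100000
set_option linter.unusedSectionVars false
set_option linter.unusedVariables false
set_option linter.style.longLine false
set_option linter.style.haveILetI false

namespace Cfsg.Agent.PGroups.ConwayA

open Cfsg QuadraticMap Cfsg.Agent.Orthogonal Cfsg.Agent.H73.Conway Cfsg.Agent.H92.ExtraForm Model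
  Cfsg.Agent.Golay Cfsg.Agent.H94.M24.OrbitRigid Cfsg.Agent.H94.M24.PermModule
open scoped Pointwise

/-! ### The map to the code -/

/-- The map to the code, recursively. -/
def iotaR : ℕ → ℕ → ℕ
  | 0, _ => 0
  | k + 1, x => (bif x.testBit k then rows.getD k 0 else 0) ^^^ iotaR k x

theorem iotaR_check : ((List.range 2048).all fun x => iotaR 11 x == iota x) = true := by
  decide +kernel

theorem iotaR_eq {x : ℕ} (hx : x < 2048) : iotaR 11 x = iota x :=
  eq_of_beq (List.all_eq_true.1 iotaR_check x (List.mem_range.2 hx))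

theorem iotaR_xor : ∀ k x y, iotaR k (x ^^^ y) = iotaR k x ^^^ iotaR k y
  | 0, _, _ => by simp [iotaR]
  | k + 1, x, y => by
    simp only [iotaR, Nat.testBit_xor, iotaR_xor k x y]
    cases x.testBit k <;> cases y.testBit k <;>
      simp [Nat.xor_assoc, Nat.xor_left_comm, Nat.xor_comm]

theorem iotaR_zero : ∀ k, iotaR k 0 = 0
  | 0 => rfl
  | k + 1 => by simp [iotaR, iotaR_zero k]

theorem iotaR_code : ∀ k, k ≤ 11 → ∀ x, iotaR k x ∈ codeList
  | 0, _, _ => zero_mem_spanList _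
  | k + 1, hk, x => by
    refine xor_mem_spanList _ ?_ (iotaR_code k (by omega) x)
    cases x.testBit k
    · exact zero_mem_spanList _
    · exact inCode_iff.1 (List.all_eq_true.1 iota_code k (List.mem_range.2 (by omega)))

/-- The functional, recursively. -/
def LinR (l : ℕ) : ℕ → ℕ → Bool
  | 0, _ => false
  | k + 1, S => xor (l.testBit k && S.testBit k) (LinR l k S)

theorem Lin_check : ((List.range 64).all fun l => (List.range 64).all fun S =>
    Lin l S == LinR l 6 S) = true := by decide +kernel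

theorem LinR_xor (l : ℕ) : ∀ k S T, LinR l k (S ^^^ T) = xor (LinR l k S) (LinR l k T)
  | 0, _, _ => rfl
  | k + 1, S, T => by
    simp only [LinR, Nat.testBit_xor, LinR_xor l k S T]
    cases l.testBit k <;> cases S.testBit k <;> cases T.testBit k <;> simp [Bool.not_bne]

theorem Lin_xor {l S T : ℕ} (hl : l < 64) (hS : S < 64) (hT : T < 64) :
    Lin l (S ^^^ T) = xor (Lin l S) (Lin l T) := by
  have e : ∀ U, U < 64 → Lin l U = LinR l 6 U := fun U hU => eq_of_beq
    (List.all_eq_true.1 (List.all_eq_true.1 Lin_check l (List.mem_range.2 hl)) U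
      (List.mem_range.2 hU))
  rw [e _ hS, e _ hT, e _ (Nat.xor_lt_two_pow (n := 6) hS hT), LinR_xor]

theorem dz_xor {l x y : ℕ} (hl : l < 64) (hx : x < 2048) (hy : y < 2048) :
    dz l (x ^^^ y) = dz l x ^^^ dz l y := by
  rw [dz, dz, dz, (code_xor (x := x) (y := y)).1, Lin_xor hl (by omega) (by omega)]
  cases Lin l (x / 32) <;> cases Lin l (y / 32) <;>
    simp [Nat.xor_assoc, Nat.xor_left_comm, Nat.xor_comm]

theorem dz_zero (l : ℕ) : dz l 0 = 0 := by simp [dz, Lin_zero]

/-- The word of an element, up to complement. -/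
def cl (l x : ℕ) : Finset GolayPt := ptSet (iotaR 11 (dz l x))

theorem cl_mem (l x : ℕ) : cl l x ∈ supports (golayCode : Set (GolayPt → ZMod 2)) :=
  (ptSet_mem_supports_iff (codeList_lt (iotaR_code 11 le_rfl _))).2 (iotaR_code 11 le_rfl _)

theorem cl_xor {l x y : ℕ} (hl : l < 64) (hx : x < 2048) (hy : y < 2048) :
    cl l (x ^^^ y) = symmDiff (cl l x) (cl l y) := by
  rw [cl, cl, cl, dz_xor hl hx hy, iotaR_xor, ptSet_xor]

theorem cl_zero (l : ℕ) : cl l 0 = ∅ := by rw [cl, dz_zero, iotaR_zero, ptSet_zero]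

theorem cl_trivial {l u : ℕ} (hu : u < 2048) (e : cl l u = ∅ ∨ cl l u = Finset.univ) : u = 0 := by
  have hd := dz_lt l hu
  have hk := List.all_eq_true.1 iota_kernel _ (List.mem_range.2 hd)
  rw [cl, iotaR_eq hd, ← ptSet_zero, ← ptSet_fullMask] at e
  simp only [Bool.or_eq_true, beq_iff_eq, Bool.and_eq_true, Bool.not_eq_true', beq_eq_false_iff_ne,
    ne_eq, decide_eq_true_eq] at hk
  rcases hk with hk | ⟨⟨h0, hf⟩, hlt⟩
  · rw [← dz_dz l u, hk, dz_zero]
  · rcases e with e | e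
    · exact absurd (ptSet_injOn hlt (by norm_num) e) h0
    · exact absurd (ptSet_injOn hlt (by norm_num [fullMask]) e) hf

theorem cl_inj {l x y : ℕ} (hl : l < 64) (hx : x < 2048) (hy : y < 2048)
    (e : Eqv (cl l x) (cl l y)) : x = y := by
  have hu := Nat.xor_lt_two_pow (n := 11) hx hy
  have e0 : x ^^^ y = 0 := by
    refine cl_trivial (l := l) hu ?_
    rw [cl_xor hl hx hy]
    rcases e with e | e
    · exact Or.inl (by rw [e, symmDiff_self, Finset.bot_eq_empty])
    · exact Or.inr (by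
        rw [e]; ext p; simp only [Finset.mem_symmDiff, Finset.mem_compl, Finset.mem_univ, iff_true]
        tauto)
  calc x = x ^^^ (x ^^^ y) := by rw [e0, Nat.xor_zero]
    _ = y := by rw [← Nat.xor_assoc, Nat.xor_self, Nat.zero_xor]

theorem cl_surj {l : ℕ} (hl : l < 64) {c : Finset GolayPt}
    (hc : c ∈ supports (golayCode : Set (GolayPt → ZMod 2))) :
    ∃ x, x < 2048 ∧ Eqv (cl l x) c := by
  have key : ∀ m ∈ codeList, ∃ x, x < 2048 ∧ Eqv (cl l x) (ptSet m) := by
    refine spanList_induction (P := fun m => ∃ x, x < 2048 ∧ Eqv (cl l x) (ptSet m)) _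
      ⟨0, by norm_num, by rw [cl_zero, ptSet_zero]; exact Eqv.refl _⟩ (fun b hb => ?_) ?_
    · obtain ⟨x, hx, e⟩ := List.any_eq_true.1
        (List.all_eq_true.1 iota_span b (List.mem_reverse.1 hb))
      rw [List.mem_range] at hx
      refine ⟨dz l x, dz_lt l hx, ?_⟩
      rw [cl, dz_dz, iotaR_eq hx]
      rcases Bool.or_eq_true_iff.1 e with e | e <;> rw [← eq_of_beq e]
      · exact Eqv.refl _
      · rw [ptSet_compl]; exact .inr (compl_compl _).symm
    · rintro a b ⟨x, hx, ex⟩ ⟨y, hy, ey⟩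
      exact ⟨x ^^^ y, Nat.xor_lt_two_pow (n := 11) hx hy,
        by rw [cl_xor hl hx hy, ptSet_xor]; exact ex.symmDiff ey⟩
  obtain ⟨x, hx, e⟩ := key _ (mem_supports_iff.1 hc)
  exact ⟨x, hx, by rwa [ptSet_maskOf] at e⟩

theorem cl_good {l x : ℕ} (hx : x < 2048) :
    mem good (dz l x) = true ↔ ((cl l x).card = 8 ∨ (cl l x).card = 16) := by
  have hd := dz_lt l hx
  have hc : popCnt (fullMask ^^^ iota (dz l x)) = 24 - (cl l x).card := by
    rw [← card_ptSet, ptSet_compl, Finset.card_compl, cl, iotaR_eq hd]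
    rfl
  rw [eq_of_beq (List.all_eq_true.1 iota_octads _ (List.mem_range.2 hd)), Bool.or_eq_true,
    beq_iff_eq, beq_iff_eq, hc, ← card_ptSet, cl, iotaR_eq hd]
  have : (ptSet (iota (dz l x))).card ≤ 24 := Finset.card_le_univ _
  omega

theorem octad_of_card {a : Finset GolayPt} (ha : a ∈ supports (golayCode : Set (GolayPt → ZMod 2)))
    (hc : a.card = 8 ∨ a.card = 16) : ∃ o ∈ octads, Eqv a o := by
  rcases hc with hc | hc
  · exact ⟨a, ⟨ha, hc⟩, Eqv.refl a⟩
  · refine ⟨aᶜ, ⟨compl_mem_supports ha, ?_⟩, .inr (compl_compl a).symm⟩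
    rw [Finset.card_compl, hc]; rfl

/-- Elements with the same invariants correspond under the group of the code. -/
theorem same_orbit {l x y : ℕ} (hx : x < 2048) (hy : y < 2048) (h0 : x = 0 ↔ y = 0)
    (hm : mem good (dz l x) = mem good (dz l y)) :
    ∃ σ ∈ M24, Eqv (cl l y) ((σ : Equiv.Perm GolayPt) • cl l x) := by
  by_cases hx0 : x = 0
  · subst hx0
    rw [h0.1 rfl]
    exact ⟨1, one_mem _, by rw [one_smul]; exact Eqv.refl _⟩
  have hy0 : y ≠ 0 := fun e => hx0 (h0.2 e)
  by_cases hg : mem good (dz l x) = true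
  · obtain ⟨o, ho, eo⟩ := octad_of_card (cl_mem l x) ((cl_good hx).1 hg)
    obtain ⟨o', ho', eo'⟩ := octad_of_card (cl_mem l y) ((cl_good hy).1 (hm ▸ hg))
    obtain ⟨σ, hσ⟩ := exists_M24_map_octad ho ho'
    refine ⟨σ, σ.2, eo'.trans ?_⟩
    rw [← hσ]
    exact (eo.smul (σ : Equiv.Perm GolayPt)).symm
  · have h12 : ∀ u, u < 2048 → u ≠ 0 → ¬ (mem good (dz l u) = true) → cl l u ∈ dodecads := by
      intro u hu hu0 hgu
      refine ⟨cl_mem l u, ?_⟩
      rw [cl_good hu] at hgu
      rcases card_mem_supports (cl_mem l u) with e | e | e | e | e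
      · exact absurd (cl_trivial hu (Or.inl (Finset.card_eq_zero.1 e))) hu0
      · exact absurd (Or.inl e) hgu
      · exact e
      · exact absurd (Or.inr e) hgu
      · refine absurd (cl_trivial (l := l) hu (Or.inr (Finset.eq_univ_of_card _ ?_))) hu0
        rw [e]; rfl
    obtain ⟨σ, hσ⟩ := exists_M24_map_dodecad (h12 x hx hx0 hg) (h12 y hy hy0 (hm ▸ hg))
    exact ⟨σ, σ.2, .inl hσ.symm⟩

theorem separate : ((List.range 24).all fun i => (List.range 24).all fun j =>
    i == j || octadList.any fun m => xor (m.testBit i) (m.testBit j)) = true := by decide +kernel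

theorem fix_octads {ρ : Equiv.Perm GolayPt} (hρ : ∀ o ∈ octads, ρ • o = o) : ρ = 1 := by
  refine Equiv.ext fun p => ?_
  rw [Equiv.Perm.one_apply]
  by_contra hne
  have hs := List.all_eq_true.1 (List.all_eq_true.1 separate (idx p) (List.mem_range.2 (idx_lt p)))
    (idx (ρ p)) (List.mem_range.2 (idx_lt _))
  rw [Bool.or_eq_true, beq_iff_eq, List.any_eq_true] at hs
  rcases hs with hs | ⟨m, hm, hx⟩
  · exact hne (idx_injective hs).symm
  · have e : ρ p ∈ ptSet m ↔ p ∈ ptSet m := by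
      conv_lhs => rw [← hρ _ (ptSet_mem_octads hm)]
      rw [← Equiv.Perm.smul_def, Finset.smul_mem_smul_finset_iff]
    rw [mem_ptSet, mem_ptSet] at e
    cases h1 : m.testBit (idx p) <;> cases h2 : m.testBit (idx (ρ p)) <;> simp_all

/-! ### The homomorphism -/

variable {G : Type*} [Group G] [Finite G] {z : G} {Q : Subgroup G}

/-- A permutation describes the action of an element. -/
def Rel (h : Setup z Q) (l : ℕ) (n : G) (σ : M24) : Prop :=
  ∀ x y, x < 2048 → y < 2048 → n * el h x * n⁻¹ = el h y →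
    Eqv (cl l y) ((σ : Equiv.Perm GolayPt) • cl l x)

variable (h : Setup z Q) {s w : G} (P : Pair h s w) (hGd : Gd h s w)
include P hGd

omit P hGd in
theorem exists_image {n : G} (hn : n ∈ Subgroup.normalizer (AU h : Set G)) (x : ℕ) :
    ∃ y, y < 2048 ∧ n * el h x * n⁻¹ = el h y :=
  exists_el h ((Subgroup.mem_normalizer_iff.1 hn _).1 (el_mem h x))

variable {l : ℕ} (hl : l < 64) (hob : ∀ x, x < 2048 → ob h x = mem good (dz l x))
include hl hob

theorem Rel_exists {n : G} (hn : n ∈ Subgroup.normalizer (AU h : Set G)) : ∃ σ, Rel h l n σ := by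
  classical
  choose f hf hfe using fun x => exists_image h hn x
  have huniq : ∀ {x y}, y < 2048 → n * el h x * n⁻¹ = el h y → y = f x := fun hy e =>
    el_inj h hy (hf _) (e.symm.trans (hfe _))
  have hzero : ∀ {x}, x < 2048 → (x = 0 ↔ f x = 0) := fun {x} hx => by
    constructor
    · rintro rfl; exact (huniq (by norm_num) (by rw [el_zero h]; simp [el_zero h])).symm
    · intro e
      have e' := hfe x
      rw [e, el_zero h, conj_eq_one_iff] at e'
      exact el_inj h hx (by norm_num) (e'.trans (el_zero h).symm)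
  have hadd : ∀ x y, f (x ^^^ y) = f x ^^^ f y := fun x y => by
    refine (huniq (Nat.xor_lt_two_pow (n := 11) (hf x) (hf y)) ?_).symm
    rw [el_xor h P hGd, el_xor h P hGd, ← hfe, ← hfe, conj_mul]
  have hmem : ∀ x, x < 2048 → mem good (dz l x) = mem good (dz l (f x)) := fun x hx => by
    rw [← hob x hx, ← hob _ (hf x)]
    exact ob_congr h (by rw [← hfe x, Orb_conj_iff h hn])
  let pre : Finset GolayPt → ℕ := fun c =>
    if hc : c ∈ supports (golayCode : Set (GolayPt → ZMod 2)) then (cl_surj hl hc).choose else 0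
  have hpre : ∀ c, c ∈ supports (golayCode : Set (GolayPt → ZMod 2)) →
      pre c < 2048 ∧ Eqv (cl l (pre c)) c := fun c hc => by
    simp only [pre, dif_pos hc]; exact (cl_surj hl hc).choose_spec
  have hgood : Good fun c => cl l (f (pre c)) := by
    constructor
    · intro c d hc hd
      obtain ⟨hc1, hc2⟩ := hpre c hc
      obtain ⟨hd1, hd2⟩ := hpre d hd
      obtain ⟨he1, he2⟩ := hpre _ (symmDiff_mem_supports hc hd)
      have e : pre (symmDiff c d) = pre c ^^^ pre d :=
        cl_inj hl he1 (Nat.xor_lt_two_pow (n := 11) hc1 hd1) (by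
          rw [cl_xor hl hc1 hd1]; exact he2.trans (hc2.symmDiff hd2).symm)
      simp only [e, hadd, cl_xor hl (hf _) (hf _)]
      exact Eqv.refl _
    · intro c hc
      obtain ⟨hc1, hc2⟩ := hpre c hc
      obtain ⟨σ, hσ, e⟩ := same_orbit hc1 (hf _) (hzero hc1) (hmem _ hc1)
      exact ⟨σ, hσ, e.trans (hc2.smul σ)⟩
  obtain ⟨σ, hσ, hall⟩ := hgood.exists_eqv
  refine ⟨⟨σ, hσ⟩, fun x y hx hy e => ?_⟩
  have := hall _ (cl_mem l x)
  obtain ⟨hp1, hp2⟩ := hpre _ (cl_mem l x)
  simp only [cl_inj hl hp1 hx hp2, ← huniq hy e] at this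
  exact this

omit P hGd hob in
theorem Rel_unique {n : G} (hn : n ∈ Subgroup.normalizer (AU h : Set G)) {σ τ : M24}
    (hσ : Rel h l n σ) (hτ : Rel h l n τ) : σ = τ := by
  have hfix : (τ : Equiv.Perm GolayPt)⁻¹ * (σ : Equiv.Perm GolayPt) = 1 := by
    refine fix_octads fun o ho => ?_
    obtain ⟨x, hx, ex⟩ := cl_surj hl ho.1
    obtain ⟨y, hy, ey⟩ := exists_image h hn x
    rw [mul_smul, inv_smul_eq_iff]
    refine eq_of_eqv_octads (smul_mem_octads σ.2 ho).2 (smul_mem_octads τ.2 ho).2 ?_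
    exact ((ex.smul (σ : Equiv.Perm GolayPt)).symm.trans
      ((hσ x y hx hy ey).symm.trans (hτ x y hx hy ey))).trans (ex.smul (τ : Equiv.Perm GolayPt))
  exact Subtype.ext (inv_mul_eq_one.1 hfix).symm

omit P hGd hl hob in
theorem Rel_mul {m n : G} (hn : n ∈ Subgroup.normalizer (AU h : Set G)) {σ τ : M24}
    (hσ : Rel h l m σ) (hτ : Rel h l n τ) : Rel h l (m * n) (σ * τ) := by
  intro x y hx hy e
  obtain ⟨u, hu, eu⟩ := exists_image h hn x
  have e' : m * el h u * m⁻¹ = el h y := by rw [← eu, ← e]; group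
  rw [Subgroup.coe_mul, mul_smul]
  exact (hσ u y hu hy e').trans ((hτ x u hx hu eu).smul _)

theorem exists_hom : ∃ Ψ : Subgroup.normalizer (AU h : Set G) →* M24,
    (∀ n, Rel h l n.1 (Ψ n)) ∧
    Ψ.ker = (AU h).subgroupOf (Subgroup.normalizer (AU h : Set G)) := by
  choose g hg using fun n : Subgroup.normalizer (AU h : Set G) =>
    Rel_exists h P hGd hl hob n.2
  refine ⟨MonoidHom.mk' g fun m n => Rel_unique h hl (m * n).2 (hg _)
    (Rel_mul h n.2 (hg m) (hg n)), hg, ?_⟩
  ext n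
  rw [MonoidHom.mem_ker, Subgroup.mem_subgroupOf, MonoidHom.mk'_apply]
  constructor
  · intro e
    refine centralizer_AU h P hGd fun a ha => ?_
    obtain ⟨x, hx, rfl⟩ := exists_el h ha
    obtain ⟨y, hy, ey⟩ := exists_image h n.2 x
    have he := hg n x y hx hy ey
    rw [e, OneMemClass.coe_one, one_smul] at he
    rw [cl_inj hl hy hx he] at ey
    exact mul_inv_eq_iff_eq_mul.1 ey
  · intro hA
    refine Rel_unique h hl n.2 (hg n) fun x y hx hy e => ?_
    rw [(AU_commute h P hGd hA (el_mem h x)).eq, mul_inv_cancel_right] at e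
    rw [OneMemClass.coe_one, one_smul, el_inj h hx hy e]
    exact Eqv.refl _

/-! ### The lower bound -/

omit P hGd hl hob in
theorem rho_fix_mul {g k : G} (hg : g * z = z * g) (hk : k * z = z * k) {y : V8}
    (e : (h.ρ k : V8 ≃ₗ[ZMod 2] V8) y = y) :
    (h.ρ (g * k) : V8 ≃ₗ[ZMod 2] V8) y = (h.ρ g : V8 ≃ₗ[ZMod 2] V8) y := by
  rw [h.ρ_mul g k hg hk, Subgroup.coe_mul, mul_app, e]

/-- The elements of the normaliser fixing `z` and the first `k` basis vectors. -/
def Hk (k : ℕ) : Set G :=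
  {g | g ∈ Subgroup.normalizer (AU h : Set G) ∧ g * z = z * g ∧
    ∀ j, j < k → (h.ρ g : V8 ≃ₗ[ZMod 2] V8) (vec (2 ^ j)) = vec (2 ^ j)}

omit P hGd hl hob in
theorem Hk_mul {k : ℕ} {g g' : G} (hg : g ∈ Hk h k) (hg' : g' ∈ Hk h k) : g * g' ∈ Hk h k :=
  ⟨mul_mem hg.1 hg'.1, by rw [mul_assoc, hg'.2.1, ← mul_assoc, hg.2.1, mul_assoc],
    fun j hj => by rw [rho_fix_mul h hg.2.1 hg'.2.1 (hg'.2.2 j hj), hg.2.2 j hj]⟩

/-- The reachability certificates. -/
def reachCert : List (List (ℕ × Fin 12 × ℕ)) :=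
  [[(1, 0, 3), (1, 1, 5), (1, 2, 9), (3, 1, 7), (3, 2, 11), (3, 3, 2), (5, 2, 13), (5, 6, 4),
    (9, 9, 8), (7, 2, 15), (7, 3, 6), (11, 3, 10), (13, 6, 12), (15, 3, 14)],
   [(2, 3, 3), (2, 4, 6), (2, 5, 10), (3, 4, 7), (3, 5, 11), (6, 5, 14), (6, 7, 4), (10, 10, 8),
    (7, 5, 15), (7, 7, 5), (11, 10, 9), (14, 7, 12), (15, 7, 13)],
   [(4, 6, 5), (4, 7, 6), (4, 8, 12), (5, 7, 7), (5, 8, 13), (6, 8, 14), (12, 11, 8), (7, 8, 15),
    (13, 11, 9), (14, 11, 10), (15, 11, 11)],
   [(8, 9, 9), (8, 10, 10), (8, 11, 12), (9, 10, 11), (9, 11, 13), (10, 11, 14), (11, 11, 15)]]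

omit P hGd hl hob in
theorem reachCert_ok : ((List.range 4).all fun k =>
    ((runC Tmod [2 ^ k] (reachCert.getD k [])).any fun R =>
      (List.range 16).all fun n => decide (n < 2 ^ k) || R.contains n) &&
    (reachCert.getD k []).all fun p => decide (k ≤ TI p.2.1.val)) = true := by decide +kernel

omit P hGd hl hob in
theorem T_fix : ∀ k : Fin 4, ∀ t : Fin 12, k.val ≤ TI t.val → ∀ j : Fin 4, j.val < k.val →
    Tmod t.val (2 ^ j.val) = 2 ^ j.val := by decide +kernel

omit P hGd hl hob in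
theorem reach {k : ℕ} (hk : k < 4) {n : ℕ} (hn : n < 16) (hkn : 2 ^ k ≤ n) :
    ∃ g, g ∈ Hk h k ∧ (h.ρ g : V8 ≃ₗ[ZMod 2] V8) (vec (2 ^ k)) = vec n := by
  have hc := List.all_eq_true.1 reachCert_ok k (List.mem_range.2 hk)
  rw [Bool.and_eq_true] at hc
  obtain ⟨hrun, hall⟩ := hc
  -- the soundness of the certificate, restricted to the transvections fixing the first vectors
  have sound : ∀ (L : List (ℕ × Fin 12 × ℕ)) (K R : List ℕ), runC Tmod K L = some R →
      (∀ p ∈ L, k ≤ TI p.2.1.val) →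
      (∀ m ∈ K, m < 16 ∧ ∃ g, g ∈ Hk h k ∧ (h.ρ g : V8 ≃ₗ[ZMod 2] V8) (vec (2 ^ k)) = vec m) →
      ∀ m ∈ R, m < 16 ∧ ∃ g, g ∈ Hk h k ∧ (h.ρ g : V8 ≃ₗ[ZMod 2] V8) (vec (2 ^ k)) = vec m := by
    intro L
    induction L with
    | nil => intro K R e _ hK; simp only [runC, Option.some.injEq] at e; exact e ▸ hK
    | cons a L ih =>
      obtain ⟨p, t, c⟩ := a
      intro K R e hL hK
      simp only [runC] at e
      split_ifs at e with hc
      rw [Bool.and_eq_true, beq_iff_eq, List.contains_iff_mem] at hc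
      refine ih _ R e (fun q hq => hL q (List.mem_cons_of_mem _ hq)) fun q hq => ?_
      rcases List.mem_cons.1 hq with rfl | hq
      · obtain ⟨hp, g, hg, hgv⟩ := hK p hc.1
        obtain ⟨g', hg', hg'ρ⟩ := h.ρ_surj (Tk t) (Tk_mem t)
        have ht := hL _ List.mem_cons_self
        have hg'' : g' ∈ Hk h k := ⟨Stab_norm h (Stab_T h hg' hg'ρ), hg', fun j hj => by
          rw [hg'ρ, Tk_app t (by
            have : 2 ^ j ≤ 2 ^ 3 := Nat.pow_le_pow_right (by norm_num) (by omega)
            omega), show Tmod t.val (2 ^ j) = 2 ^ j from T_fix ⟨k, hk⟩ t ht ⟨j, by omega⟩ hj]⟩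
        refine ⟨by rw [← hc.2]; exact (Tk_U t hp).1, g' * g, Hk_mul h hg'' hg, ?_⟩
        rw [h.ρ_mul g' g hg' hg.2.1, Subgroup.coe_mul, mul_app, hgv, hg'ρ, Tk_app t (by omega),
          hc.2]
      · exact hK q hq
  cases hr : runC Tmod [2 ^ k] (reachCert.getD k []) with
  | none => rw [hr] at hrun; simp at hrun
  | some R =>
    rw [hr] at hrun
    simp only [Option.any_some, List.all_eq_true, Bool.or_eq_true, decide_eq_true_eq,
      List.contains_iff_mem] at hrun
    refine (sound _ _ R hr (fun p hp => ?_) (fun m hm => ?_) n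
      ((hrun n (List.mem_range.2 hn)).resolve_left (by omega))).2
    · exact of_decide_eq_true (List.all_eq_true.1 hall p hp)
    · rw [List.mem_singleton] at hm
      subst hm
      refine ⟨?_, 1, ⟨one_mem _, by rw [one_mul, mul_one], fun j hj => ?_⟩, ?_⟩
      · have : 2 ^ k ≤ 2 ^ 3 := Nat.pow_le_pow_right (by norm_num) (by omega)
        omega
      all_goals rw [(h.ρ_ker 1 (by rw [one_mul, mul_one])).2 (one_mem _)]; rfl

omit P hGd hl hob in
theorem step_card {k : ℕ} (hk : k < 4) :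
    (16 - 2 ^ k) * Nat.card (Hk h (k + 1)) ≤ Nat.card (Hk h k) := by
  choose g hg hgv using fun n : Fin (16 - 2 ^ k) =>
    reach h hk (n := n.val + 2 ^ k) (by omega) (Nat.le_add_left _ _)
  let F : Fin (16 - 2 ^ k) × Hk h (k + 1) → Hk h k := fun p =>
    ⟨g p.1 * p.2.1, Hk_mul h (hg p.1) ⟨p.2.2.1, p.2.2.2.1, fun j hj => p.2.2.2.2 j (by omega)⟩⟩
  have hF : Function.Injective F := by
    rintro ⟨n, a⟩ ⟨n', a'⟩ e
    have e' : g n * a.1 = g n' * a'.1 := congrArg Subtype.val e
    have h1 := congrArg (fun x => (h.ρ x : V8 ≃ₗ[ZMod 2] V8) (vec (2 ^ k))) e'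
    simp only [rho_fix_mul h (hg n).2.1 a.2.2.1 (a.2.2.2 k (Nat.lt_succ_self k)),
      rho_fix_mul h (hg n').2.1 a'.2.2.1 (a'.2.2.2 k (Nat.lt_succ_self k)), hgv] at h1
    have hnn : n = n' := Fin.ext (by
      have := vec_inj (by omega) (by omega) h1
      omega)
    subst hnn
    rw [Subtype.ext (mul_left_cancel e')]
  have := Nat.card_le_card_of_injective F hF
  rwa [Nat.card_prod, Nat.card_fin] at this

omit P hGd hl hob in
theorem card_Hk_four : 32768 ≤ Nat.card (Hk h 4) := by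
  have hm : ∀ p : Fin 2048 × Fin 16, el h p.1.val * lF h p.2.val ∈ Hk h 4 := fun p => by
    have hA : el h p.1.val ∈ AU h := el_mem h _
    refine ⟨mul_mem (Subgroup.le_normalizer hA) (Q_norm h (lF_mem h _)), ?_, fun j hj => ?_⟩
    · rw [mul_assoc, h.le _ (lF_mem h _), ← mul_assoc, AU_comm_z h hA, mul_assoc]
    · have hlt : (2 : ℕ) ^ j < 16 := by
        have : 2 ^ j ≤ 2 ^ 3 := Nat.pow_le_pow_right (by norm_num) (by omega)
        omega
      rw [rho_fix_mul h (AU_comm_z h hA) (h.le _ (lF_mem h _))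
        (by rw [(h.ρ_ker _ (h.le _ (lF_mem h _))).2 (lF_mem h _)]; rfl), el_rho h,
        Xp_fix (by have := p.1.isLt; omega) hlt]
  let F : Fin 2048 × Fin 16 → Hk h 4 := fun p => ⟨_, hm p⟩
  have hF : Function.Injective F := by
    rintro ⟨x, v⟩ ⟨y, u⟩ e
    have e' : el h x.val * lF h v.val = el h y.val * lF h u.val := congrArg Subtype.val e
    have hq : lF h u.val * (lF h v.val)⁻¹ = (el h y.val)⁻¹ * el h x.val := by
      rw [eq_inv_mul_iff_mul_eq, ← mul_assoc, ← e', mul_inv_cancel_right]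
    have hqQ : lF h u.val * (lF h v.val)⁻¹ ∈ Q := mul_mem (lF_mem h _) (inv_mem (lF_mem h _))
    have hE : lF h u.val * (lF h v.val)⁻¹ ∈ eU h :=
      AU_inf_Q h (hq ▸ mul_mem (inv_mem (el_mem h _)) (el_mem h _)) hqQ
    have hinv : (lF h v.val)⁻¹ = lF h v.val := by
      rw [inv_eq_iff_mul_eq_one, ← lF_xor, Nat.xor_self, lF_zero]
    rw [hinv, ← lF_xor] at hE
    have hlt : u.val ^^^ v.val < 16 := Nat.xor_lt_two_pow (n := 4) u.isLt v.isLt
    obtain ⟨m, hm', em⟩ := InU_exists hE.2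
    rw [π_lF h hlt] at em
    have := vec_inj (by omega) (by omega) em
    have hvu : u = v := Fin.ext (by
      have h0 : u.val ^^^ v.val = 0 := by omega
      calc u.val = u.val ^^^ (u.val ^^^ v.val) := by rw [h0, Nat.xor_zero]
        _ = v.val := by rw [← Nat.xor_assoc, Nat.xor_self, Nat.zero_xor])
    subst hvu
    rw [Fin.ext (el_inj h x.isLt y.isLt (mul_right_cancel e'))]
  have := Nat.card_le_card_of_injective F hF
  rwa [Nat.card_prod, Nat.card_fin, Nat.card_fin] at this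

/-- The order of the normaliser is at least that of the extension. -/
theorem card_norm_ge : 501397585920 ≤ Nat.card (Subgroup.normalizer (AU h : Set G)) := by
  have h4 := card_Hk_four h
  have h3 := step_card h (k := 3) (by norm_num)
  have h2 := step_card h (k := 2) (by norm_num)
  have h1 := step_card h (k := 1) (by norm_num)
  have h0 := step_card h (k := 0) (by norm_num)
  rw [show (16 : ℕ) - 2 ^ 3 = 8 from rfl, show 3 + 1 = 4 from rfl] at h3
  rw [show (16 : ℕ) - 2 ^ 2 = 12 from rfl, show 2 + 1 = 3 from rfl] at h2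
  rw [show (16 : ℕ) - 2 ^ 1 = 14 from rfl, show 1 + 1 = 2 from rfl] at h1
  rw [show (16 : ℕ) - 2 ^ 0 = 15 from rfl, show 0 + 1 = 1 from rfl] at h0
  set S := (Finset.range 2048).filter fun x => ob h x = true with hS
  have hS759 : S.card = 759 := by
    rw [hS, orbit_total h P hGd, cS_twelve h P hGd]
  have hex : ∀ x : S, ∃ n, n ∈ Subgroup.normalizer (AU h : Set G) ∧ n * z * n⁻¹ = el h x.1 :=
    fun x => (ob_iff h x.1).1 (Finset.mem_filter.1 x.2).2
  choose n hn hne using hex
  let F : S × Hk h 0 → Subgroup.normalizer (AU h : Set G) := fun p =>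
    ⟨n p.1 * p.2.1, mul_mem (hn p.1) p.2.2.1⟩
  have hF : Function.Injective F := by
    rintro ⟨x, a⟩ ⟨y, b⟩ e
    have e' : n x * a.1 = n y * b.1 := congrArg Subtype.val e
    have hc : ∀ (c : G), c * z = z * c → ∀ m : G, m * c * z * (m * c)⁻¹ = m * z * m⁻¹ := by
      intro c hc m
      rw [mul_assoc m c z, hc]; group
    have hxy : el h x.1 = el h y.1 := by
      rw [← hne x, ← hne y]
      refine (hc _ a.2.2.1 (n x)).symm.trans (Eq.trans ?_ (hc _ b.2.2.1 (n y)))
      rw [e']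
    have : x = y := Subtype.ext (el_inj h (Finset.mem_range.1 (Finset.mem_filter.1 x.2).1)
      (Finset.mem_range.1 (Finset.mem_filter.1 y.2).1) hxy)
    subst this
    rw [Subtype.ext (mul_left_cancel e')]
  have := Nat.card_le_card_of_injective F hF
  rw [Nat.card_prod, Nat.card_eq_finsetCard, hS759] at this
  omega

theorem mathieu_surj : ∃ Ψ : Subgroup.normalizer (AU h : Set G) →* M24, Function.Surjective Ψ ∧
    (∀ n, Rel h l n.1 (Ψ n)) ∧
    Ψ.ker = (AU h).subgroupOf (Subgroup.normalizer (AU h : Set G)) ∧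
    Nat.card (Subgroup.normalizer (AU h : Set G)) = 501397585920 := by
  obtain ⟨Ψ, hrel, hker⟩ := exists_hom h P hGd hl hob
  have hge := card_norm_ge h P hGd hl hob
  have hk : Nat.card Ψ.ker = 2048 := by
    rw [hker, Nat.card_congr (Subgroup.subgroupOfEquivOfLe Subgroup.le_normalizer).toEquiv,
      card_AU h]
  have hm := Subgroup.card_mul_index Ψ.ker
  rw [Subgroup.index_ker, hk] at hm
  have hle : Nat.card Ψ.range ≤ 244823040 := by
    rw [← card_M24]; exact Subgroup.card_le_card_group _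
  have heq : Nat.card Ψ.range = Nat.card M24 := by rw [card_M24]; omega
  refine ⟨Ψ, MonoidHom.range_eq_top.1 (Subgroup.eq_top_of_card_eq _ heq), hrel, hker, ?_⟩
  omega

/-- There are two orbits of the normaliser on the non-identity elements. -/
theorem two_orbits {Ψ : Subgroup.normalizer (AU h : Set G) →* M24}
    (hΨ : Function.Surjective Ψ) (hrel : ∀ n : Subgroup.normalizer (AU h : Set G), Rel h l n.1 (Ψ n)) :
    ∃ b ∈ AU h, b ≠ 1 ∧ ¬ Orb h b ∧ ∀ c ∈ AU h, c ≠ 1 →
      ∃ n ∈ Subgroup.normalizer (AU h : Set G), n * c * n⁻¹ = z ∨ n * c * n⁻¹ = b := by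
  obtain ⟨u, hu, hgu⟩ : ∃ u, u < 2048 ∧ (mem good u = false ∧ u ≠ 0) := by
    have hd : ((List.range 2048).any fun u => !mem good u && !(u == 0)) = true := by decide +kernel
    obtain ⟨u, hu, e⟩ := List.any_eq_true.1 hd
    simp only [Bool.and_eq_true, Bool.not_eq_true', beq_eq_false_iff_ne, ne_eq] at e
    exact ⟨u, List.mem_range.1 hu, e⟩
  set x0 := dz l u with hx0
  have hx0lt : x0 < 2048 := dz_lt l hu
  have hm0 : mem good (dz l x0) = false := by rw [hx0, dz_dz]; exact hgu.1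
  have hx0ne : x0 ≠ 0 := fun e => hgu.2 (by rw [← dz_dz l u, ← hx0, e, dz_zero])
  refine ⟨el h x0, el_mem h _, fun e => hx0ne (el_inj h hx0lt (by norm_num)
    (e.trans (el_zero h).symm)), fun e => ?_, fun c hc hc1 => ?_⟩
  · rw [← ob_iff, hob _ hx0lt, hm0] at e
    exact Bool.false_ne_true e
  obtain ⟨x, hx, rfl⟩ := exists_el h hc
  have hxne : x ≠ 0 := fun e => hc1 (by rw [e, el_zero h])
  by_cases hox : ob h x = true
  · obtain ⟨n, hn, e⟩ := (ob_iff h x).1 hox
    exact ⟨n⁻¹, inv_mem hn, Or.inl (by rw [← e]; group)⟩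
  · have hmx : mem good (dz l x) = mem good (dz l x0) := by
      rw [hm0, ← hob x hx]; exact Bool.eq_false_iff.2 hox
    obtain ⟨σ, hσ, e⟩ := same_orbit hx hx0lt (iff_of_false hxne hx0ne) hmx
    obtain ⟨n, hn⟩ := hΨ ⟨σ, hσ⟩
    obtain ⟨y, hy, ey⟩ := exists_image h n.2 x
    have he := hrel n x y hx hy ey
    rw [hn] at he
    refine ⟨n.1, n.2, Or.inr ?_⟩
    rw [ey, cl_inj hl hy hx0lt (he.trans e.symm)]

end Cfsg.Agent.PGroups.ConwayA
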