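import Cfsg.Agent.PGroups.ConwayA.Conj

/-!
The orbit of `z` in `A` under the normaliser: the cosets of singular matrices.
-/

set_option autoImplicit false
set_option maxRecDepth 100000
set_option linter.unusedSectionVars false
set_option linter.unusedVariables false
set_option linter.style.longLine false
set_option synthInstance.maxSize 4000
set_option synthInstance.maxHeartbeats 400000

namespace Cfsg.Agent.PGroups.ConwayA

open QuadraticMap Cfsg.Agent.Orthogonal Cfsg.Agent.H73.Conway Cfsg.Agent.H92.ExtraForm Model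

variable {G : Type*} [Group G] [Finite G] {z : G} {Q : Subgroup G}

/-- The element is conjugate to `z` in the normaliser of `A`. -/
def Orb (h : Setup z Q) (a : G) : Prop :=
  ∃ n ∈ Subgroup.normalizer (AU h : Set G), n * z * n⁻¹ = a

theorem Orb_conj (h : Setup z Q) {g a : G} (hg : g ∈ Subgroup.normalizer (AU h : Set G))
    (ha : Orb h a) : Orb h (g * a * g⁻¹) := by
  obtain ⟨n, hn, rfl⟩ := ha
  exact ⟨g * n, mul_mem hg hn, by group⟩

theorem Orb_conj_iff (h : Setup z Q) {g a : G} (hg : g ∈ Subgroup.normalizer (AU h : Set G)) :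
    Orb h (g * a * g⁻¹) ↔ Orb h a := by
  refine ⟨fun ha => ?_, Orb_conj h hg⟩
  have := Orb_conj h (inv_mem hg) ha
  rwa [show g⁻¹ * (g * a * g⁻¹) * g⁻¹⁻¹ = a by group] at this

theorem Orb_AU (h : Setup z Q) {a : G} (ha : Orb h a) : a ∈ AU h := by
  obtain ⟨n, hn, rfl⟩ := ha
  exact (Subgroup.mem_normalizer_iff.1 hn z).1 (eU_le_AU h (z_mem_eU h))

theorem Q_norm (h : Setup z Q) {q : G} (hq : q ∈ Q) : q ∈ Subgroup.normalizer (AU h : Set G) :=
  Stab_norm h (Stab_Q h hq)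

variable (h : Setup z Q) {s w : G} (P : Pair h s w) (hGd : Gd h s w)
include P hGd

/-- The certificate reaching all nonzero vectors. -/
def vecCert : List (ℕ × Fin 12 × ℕ) := [(1, 0, 3), (1, 1, 5), (1, 2, 9), (3, 1, 7), (3, 2, 11), (3, 3, 2), (5, 2, 13),
    (5, 6, 4), (9, 9, 8), (7, 2, 15), (7, 3, 6), (11, 3, 10), (13, 6, 12), (15, 3, 14)]

/-- The certificate reaching all singular matrices. -/
def singCert : List (ℕ × Fin 12 × ℕ) := [(1, 1, 9), (1, 2, 17), (1, 4, 3), (1, 5, 5), (9, 2, 25), (9, 3, 11), (9, 5, 45),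
    (9, 6, 8), (17, 3, 21), (17, 4, 51), (17, 9, 16), (3, 5, 7), (3, 7, 2), (5, 10, 4),
    (25, 3, 31), (25, 4, 59), (25, 5, 61), (25, 6, 24), (11, 5, 47), (11, 6, 10), (45, 6, 40),
    (45, 10, 36), (21, 4, 55), (21, 9, 20), (51, 7, 34), (51, 9, 48), (7, 7, 6), (31, 6, 30),
    (59, 6, 62), (59, 7, 42), (59, 9, 56), (61, 10, 52), (47, 10, 38), (40, 10, 32)]

/-- The certificate reaching all nonsingular matrices. -/
def nsCert : List (ℕ × Fin 12 × ℕ) := [(12, 0, 28), (12, 1, 44), (12, 3, 14), (12, 6, 13), (28, 1, 60), (28, 3, 26), (28, 6, 29),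
    (28, 11, 22), (44, 3, 46), (44, 6, 41), (44, 10, 37), (14, 6, 15), (60, 3, 58), (60, 6, 57),
    (60, 9, 63), (60, 10, 53), (60, 11, 54), (26, 0, 18), (26, 6, 27), (29, 11, 23), (46, 6, 43),
    (46, 10, 39), (41, 1, 33), (58, 0, 50), (57, 1, 49), (18, 7, 19), (43, 0, 35)]

omit P hGd in
theorem vecCert_ok : ((runC Tmod [1] vecCert).any fun R =>
    (List.range 16).all fun n => n == 0 || R.contains n) = true := by decide +kernel

omit P hGd in
theorem singCert_ok : ((runC TS [1] singCert).any fun R =>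
    (List.range 64).all fun S => (S == 0 || !sing S) || R.contains S) = true := by decide +kernel

omit P hGd in
theorem nsCert_ok : ((runC TS [12] nsCert).any fun R =>
    (List.range 64).all fun S => sing S || R.contains S) = true := by decide +kernel

omit P hGd in
theorem TS_invol : ∀ t : Fin 12, ∀ S : Fin 64, TS t.val (TS t.val S.val) = S.val := by
  decide +kernel

attribute [local irreducible] runC vecCert singCert nsCert TS

/-- The nontrivial elements of `E`. -/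
theorem Orb_eU {e : G} (he : e ∈ eU h) (he1 : e ≠ 1) : Orb h e := by
  obtain ⟨i, n, hn, rfl⟩ := eU_exists h he
  have hflip : ∀ (i j : ZMod 2) (n : ℕ), n < 16 → n ≠ 0 → Orb h (zp z i * lE h n) →
      Orb h (zp z j * lE h n) := by
    intro i j n hn hn0 hO
    rcases two_cases' (i + j) with e | e
    · rwa [← CharTwo.add_eq_zero.mp e]
    · have key : ∀ n : Fin 16, n.val ≠ 0 → ∃ k : Fin 4,
          B8 (vec n.val) (vec (2 ^ (4 + k.val))) = 1 := by decide +kernel
      obtain ⟨k, hk⟩ := key ⟨n, hn⟩ hn0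
      have := Orb_conj h (Q_norm h (gF_mem h k.val)) hO
      have hz1 : gF h k.val * zp z i * (gF h k.val)⁻¹ = zp z i := by
        rw [(zp_central (h.le _ (gF_mem h k.val)) i).eq, mul_inv_cancel_right]
      rw [← conj_mul, hz1, conjQ h (lE_mem h n).1 (gF_mem h k.val), π_lE h hn, gF,
        (lift_spec h _).2, hk, (zp_central (h.le _ (lE_mem h n).1) 1).eq, ← mul_assoc,
        ← zp_add h.zz] at this
      rwa [show j = i + 1 by rw [← e, ← add_assoc, CharTwo.add_self_eq_zero, zero_add]]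
  by_cases hn0 : n = 0
  · subst hn0
    rw [lE_zero, mul_one] at he1 ⊢
    rcases two_cases' i with rfl | rfl
    · exact absurd (zp_zero z) he1
    · exact ⟨1, one_mem _, by rw [zp_one]; group⟩
  obtain ⟨R, hall, hsound⟩ := runC_any
    (P := fun n => n < 16 ∧ (n ≠ 0 → ∃ i, Orb h (zp z i * lE h n))) vecCert_ok
    (fun t m hm => by
      refine ⟨(Tk_U t hm.1).1, fun hne => ?_⟩
      have hT0 : ∀ t : Fin 12, Tmod t.val 0 = 0 := by decide +kernel
      have hm0 : m ≠ 0 := fun e => hne (by rw [e]; exact hT0 t)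
      obtain ⟨l, hl⟩ := hm.2 hm0
      obtain ⟨g, hg, hgρ⟩ := h.ρ_surj (Tk t) (Tk_mem t)
      have hS := Stab_T h hg hgρ
      have hO := Orb_conj h (Stab_norm h hS) hl
      have hE := Stab_eU h hS (mul_mem (zp_mem_eU h l) (lE_mem h m))
      obtain ⟨l', hl'⟩ := Q_decomp h hE.1 (lE_mem h (Tmod t.val m)).1 (by
        rw [h.ρ_π g hg _ (mul_mem (zp_mem_eU h l) (lE_mem h m)).1,
          h.π_mul _ (zp_mem_eU h l).1 _ (lE_mem h m).1, π_lE h hm.1, π_lE h (Tk_U t hm.1).1,
          show h.π (zp z l) = 0 by unfold zp; split_ifs <;> simp [h.π_one, h.π_z], zero_add, hgρ,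
          Tk_app t (by omega)])
      exact ⟨l', hl' ▸ hO⟩)
    (fun m hm => by
      rw [List.mem_singleton] at hm
      subst hm
      refine ⟨by norm_num, fun _ => ?_⟩
      obtain ⟨n0, hn0', hz, -⟩ := exists_swap_norm h P hGd
      obtain ⟨l, hl⟩ := Q_decomp h P.hs (lE_mem h 1).1 (by
        rw [π_lE h (by norm_num), P.hπ]; decide)
      exact ⟨l, n0, hn0', by rw [hz, hl]⟩)
  have h1 := List.all_eq_true.1 hall n (List.mem_range.2 hn)
  rw [beq_false_of_ne hn0, Bool.false_or, List.contains_iff_mem] at h1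
  obtain ⟨l, hl⟩ := (hsound n h1).2 hn0
  exact hflip l i n hn hn0 hl

omit P hGd in
theorem residue_cases : ∀ y : V8, InU y → (fU y.2 (vec (2 ^ 6)).2 = 0 ∧
    fU y.2 (vec (2 ^ 7)).2 = 0 → y.2 = 0 ∨ y.2 = e1) ∧
    (y.2 ≠ 0 → y.2 ≠ e1 → qU y.2 = fU y.2 e1 ∧ qU e1 = fU y.2 e1 ∧ fU y.2 e1 = 0 ∧
      ∃ a1 : U6, qU a1 = 1 ∧ fU a1 y.2 = 0 ∧ fU a1 e1 = 0) := by
  unfold InU; decide +kernel

omit P hGd in
theorem fixed_by_E1 : ∀ y : V8,
    ((y.1.1 + fU e1 y.2 + qU e1 * y.1.2, y.1.2), y.2 + y.1.2 • e1) = y →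
      y.1.2 = 0 ∧ fU y.2 e1 = 0 := by decide +kernel

omit P hGd in
theorem fixed_test : ∀ k : Fin 2,
    ((((vec (2 ^ (6 + k.val))).1.1 + fU e1 (vec (2 ^ (6 + k.val))).2 +
      qU e1 * (vec (2 ^ (6 + k.val))).1.2, (vec (2 ^ (6 + k.val))).1.2),
      (vec (2 ^ (6 + k.val))).2 + (vec (2 ^ (6 + k.val))).1.2 • e1) : V8) =
      vec (2 ^ (6 + k.val)) ∧ (vec (2 ^ (6 + k.val))).1.2 = 0 ∧
      fU (vec (2 ^ (6 + k.val))).2 e1 = 0 := by decide +kernel

/-- The coset of the first basic matrix. -/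
theorem Orb_iff_one {a : G} (ha : a ∈ AU h) (hρ : h.ρ a = Xp 1) : Orb h a ↔ SOp h a := by
  obtain ⟨b, hb, hbθ⟩ := P.exists_B e1
  have hbA : b ∈ AU h := B_mem_AU h P hb (by rw [hbθ]; decide +kernel)
  have hbρ : h.ρ b = Xp 1 := B_rho h P hb hbθ (by norm_num) (by decide +kernel)
  obtain ⟨c, hc, rfl⟩ := lift_diff h ha hbA (hρ.trans hbρ.symm)
  have hcA : InA Q s c := ⟨hc.1, (eU_facts h hc (s_mem_eU h P)).1.eq⟩
  obtain ⟨hres1, hres2⟩ := residue_cases _ hc.2
  have hρapp : ∀ y, (h.ρ (c * b) : V8 ≃ₗ[ZMod 2] V8) y =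
      ((y.1.1 + fU e1 y.2 + qU e1 * y.1.2, y.1.2), y.2 + y.1.2 • e1) := fun y => by
    rw [h.ρ_mul _ _ (h.le c hc.1) hb.2, h.ρ_Q hc.1, one_mul, P.rho_B hb, hbθ, E_app]
  have hB : ∀ q, InA Q s q → fU (alpha h q) e1 = 0 → Commute q b := by
    intro q hq hf
    have e := P.comm_AB hq hb
    rw [hbθ, hf] at e
    have e' : q * b * q⁻¹ * b⁻¹ = 1 := by rw [e]; simp [tt, zp]
    rw [mul_inv_eq_one, mul_inv_eq_iff_eq_mul] at e'
    exact e'
  have small : (alpha h c = 0 ∨ alpha h c = e1) → Orb h (c * b) ∧ SOp h (c * b) := by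
    intro hu
    refine ⟨?_, fun q hq hfix => ?_⟩
    · obtain ⟨n0, hn0, -, himg⟩ := exists_swap_norm h P hGd
      have base : ∀ b', InB z Q w b' → theta h b' = e1 → Orb h b' := by
        intro b' hb' hθ'
        obtain ⟨e, he, rfl⟩ := himg b' hb' hθ'
        refine Orb_conj h hn0 (Orb_eU h P hGd he fun e1' => ?_)
        rw [e1', mul_one, mul_inv_cancel, theta, h.ρ_one] at hθ'
        exact absurd hθ' (show ¬ ((f0 : V8).2 = e1) by decide)
      have hθtt : ∀ i j, theta h (b * tt z s i j) = e1 := fun i j => by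
        rw [P.theta_mul hb (P.tt_InB i j), P.theta_tt, add_zero, hbθ]
      rcases hu with hu | hu
      · obtain ⟨i, j, hij⟩ := P.eq_mul_tt_A (q := 1) ⟨one_mem Q, by simp⟩ hcA
          (by rw [hu, alpha, h.π_one]; rfl)
        rw [hij, one_mul, ← P.tt_comm_B hb]
        exact base _ (P.InB_mul hb (P.tt_InB i j)) (hθtt i j)
      · obtain ⟨r, hr, hπr, hrs⟩ := h.exists_flip P.hs P.hπ
        obtain ⟨hqA, hqα⟩ := P.flip_B hr hπr hb
        set q' := r * b * r⁻¹ * b⁻¹ with hq'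
        obtain ⟨i, j, hij⟩ := P.eq_mul_tt_A hqA hcA (by rw [hu, hqα, hbθ])
        have e : c * b = r * (b * tt z s (i + j) j) * r⁻¹ := by
          calc c * b = q' * (tt z s i j * b) := by rw [hij, mul_assoc]
            _ = r * b * r⁻¹ * tt z s i j := by rw [← P.tt_comm_B hb, hq']; group
            _ = r * b * r⁻¹ * (r * tt z s (i + j) j * r⁻¹) := by
                rw [P.flip_tt hr hrs, add_assoc, CharTwo.add_self_eq_zero, add_zero]
            _ = r * (b * tt z s (i + j) j) * r⁻¹ := by group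
        rw [e]
        exact Orb_conj h (Q_norm h hr) (base _ (P.InB_mul hb (P.tt_InB _ _)) (hθtt _ _))
    · rw [hρapp] at hfix
      obtain ⟨hd, hf⟩ := fixed_by_E1 _ hfix
      have hqA : InA Q s q := ⟨hq, (P.commA hq).2 hd⟩
      refine Commute.mul_left ?_ (hB q hqA hf).symm
      refine (Q_commute h hc.1 hq ?_)
      have hd' : (h.π c).1.2 = 0 := hc.2.1
      rw [B8, hd, hd']
      rcases hu with hu | hu <;> rw [alpha] at hu <;> rw [hu]
      · simp [fU_zero_left]
      · rw [fU_comm]; simp [hf]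
  constructor
  · intro hO
    by_cases hu : alpha h c = 0 ∨ alpha h c = e1
    · exact (small hu).2
    exfalso
    push Not at hu
    obtain ⟨hqu, hqe, hfe, a1, ha1⟩ := hres2 hu.1 hu.2
    obtain ⟨qe, hqe', hqeα⟩ := P.exists_A' e1
    obtain ⟨be, hbe, hbeθ⟩ := P.exists_B e2
    have X : Std h s w c b := P.mk_std hcA hb (a1 := a1) rfl hbθ hu.1 (by decide) hu.2 hqu hqe ha1
      fun q' b' hq' hb' g1 g2 g3 g4 g5 g6 => by
        obtain ⟨c1, c1z, c1s, c1e⟩ := P.conj_three hq' hb' hqe' hbe hqeα hbeθ (g1.trans hfe)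
          (g2.trans hfe) (g3.trans hfe) g4 g5 g6
        obtain ⟨c2, c2z, c2s, c2e⟩ := P.conj_three hcA hb hqe' hbe hqeα hbeθ (hqu.trans hfe)
          (by rw [hbθ]; decide) (by rw [hbθ]; exact hfe) hu.1 (by rw [hbθ]; decide)
          (by rw [hbθ]; exact hu.2)
        refine ⟨c2⁻¹ * c1, h.mul_comm' (h.inv_comm c2z) c1z,
          ((show Commute c2 s from c2s).inv_left.mul_left c1s).eq, ?_⟩
        calc c2⁻¹ * c1 * (q' * b') * (c2⁻¹ * c1)⁻¹ = c2⁻¹ * (c1 * (q' * b') * c1⁻¹) * c2 := by group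
          _ = c * b := by rw [c1e, ← c2e]; group
    obtain ⟨n, -, hn⟩ := hO
    exact P.not_conj_z X (isConj_iff.2 ⟨n, hn⟩).symm
  · intro hSO
    have htest : ∀ k : Fin 2, fU (alpha h c) (vec (2 ^ (6 + k.val))).2 = 0 := by
      intro k
      obtain ⟨t1, t2, t3⟩ := fixed_test k
      obtain ⟨hq, hqπ⟩ := lift_spec h (vec (2 ^ (6 + k.val)))
      generalize lift h (vec (2 ^ (6 + k.val))) = q at hq hqπ
      have hqA : InA Q s q := ⟨hq, (P.commA hq).2 (by rw [hqπ]; exact t2)⟩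
      have hqb : Commute b q := (hB q hqA (by rw [alpha, hqπ]; exact t3)).symm
      have hcq : Commute c q := by
        have e := (hSO q hq (by rw [hρapp, hqπ]; exact t1)).mul_left hqb.inv_left
        rwa [mul_inv_cancel_right] at e
      have e2 := (h.commute_iff hc.1 hq).1 hcq.eq
      rw [polar_B8, B8, hqπ, t2, hc.2.1] at e2
      rw [alpha]
      simpa using e2
    exact (small (hres1 ⟨htest 0, htest 1⟩)).1

/-- The cosets of singular matrices. -/
theorem Orb_iff_sing {a : G} {S : ℕ} (hS : S < 64) (h0 : S ≠ 0) (hs : sing S = true)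
    (ha : a ∈ AU h) (hρ : h.ρ a = Xp S) : Orb h a ↔ SOp h a := by
  obtain ⟨R, hall, hsound⟩ := runC_any
    (P := fun S => S < 64 ∧ ∀ a, a ∈ AU h → h.ρ a = Xp S → (Orb h a ↔ SOp h a)) singCert_ok
    (fun t S hS => by
      refine ⟨(TS_spec t hS.1).1, fun a ha hρ => ?_⟩
      obtain ⟨g, hg, hgρ⟩ := h.ρ_surj (Tk t) (Tk_mem t)
      have hgN := Stab_norm h (Stab_T h hg hgρ)
      obtain ⟨a', ha', rfl⟩ : ∃ a', a' ∈ AU h ∧ g * a' * g⁻¹ = a :=
        ⟨g⁻¹ * a * g, conj_closed_inv (fun e he => Stab_AU h (Stab_T h hg hgρ) he) a ha, by group⟩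
      have hρ' : h.ρ a' = Xp S := by
        rw [h.ρ_conj hg (AU_comm_z h ha'), hgρ, mul_inv_eq_iff_eq_mul, ← (TS_spec t hS.1).2] at hρ
        exact mul_left_cancel hρ
      rw [Orb_conj_iff h hgN, hS.2 a' ha' hρ']
      refine ⟨SOp_conj h hg (AU_comm_z h ha'), fun hh => ?_⟩
      have := SOp_conj h (h.inv_comm hg) (AU_comm_z h ha) hh
      rwa [show g⁻¹ * (g * a' * g⁻¹) * g⁻¹⁻¹ = a' by group] at this)
    (fun S hS => by
      rw [List.mem_singleton] at hS
      subst hS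
      exact ⟨by norm_num, fun a ha hρ => Orb_iff_one h P hGd ha hρ⟩)
  have h1 := List.all_eq_true.1 hall S (List.mem_range.2 hS)
  rw [beq_false_of_ne h0, hs, Bool.not_true, Bool.false_or, Bool.false_or,
    List.contains_iff_mem] at h1
  exact (hsound S h1).2 a ha hρ

end Cfsg.Agent.PGroups.ConwayA
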