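import Cfsg.Agent.PGroups.ConwayA.Frame

/-!
The commutators of lifts of unipotent isometries with the core of `s`, and the choice of one of
the two families of maximal singular subspaces.
-/

set_option autoImplicit false
set_option maxRecDepth 100000
set_option linter.unusedSectionVars false
set_option linter.style.longLine false

namespace Cfsg.Agent.PGroups.ConwayA

open QuadraticMap Cfsg.Agent.Orthogonal Cfsg.Agent.H73.Conway Cfsg.Agent.H92.ExtraForm

variable {G : Type*} [Group G] [Finite G] {z : G} {Q : Subgroup G}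

/-- Change of coordinates by an isometry. -/
noncomputable def twist (h : Setup z Q) (R : O phi) : Setup z Q where
  hzo := h.hzo
  hzQ := h.hzQ
  le := h.le
  norm := h.norm
  π g := (R : V8 ≃ₗ[ZMod 2] V8) (h.π g)
  π_mul a ha b hb := by rw [h.π_mul a ha b hb, map_add]
  π_surj v := by
    obtain ⟨q, hq, e⟩ := h.π_surj ((R : V8 ≃ₗ[ZMod 2] V8).symm v)
    exact ⟨q, hq, by rw [e, LinearEquiv.apply_symm_apply]⟩
  π_zero q hq := by rw [LinearEquiv.map_eq_zero_iff]; exact h.π_zero q hq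
  sq q hq := by rw [O.map_app]; exact h.sq q hq
  comm q hq r hr := by rw [O.polar_app]; exact h.comm q hq r hr
  ρ g := R * h.ρ g * R⁻¹
  ρ_mul c d hc hd := by rw [h.ρ_mul c d hc hd]; group
  ρ_π c hc q hq := by
    rw [h.ρ_π c hc q hq, Subgroup.coe_mul, Subgroup.coe_mul, mul_app, mul_app,
      ← mul_app ((R⁻¹ : O phi) : V8 ≃ₗ[ZMod 2] V8), ← Subgroup.coe_mul, inv_mul_cancel]
    rfl
  ρ_ker c hc := by rw [conj_eq_one_iff]; exact h.ρ_ker c hc
  ρ_mem c hc := Subgroup.Normal.conj_mem inferInstance _ (h.ρ_mem c hc) R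
  ρ_surj k hk := by
    obtain ⟨c, hc, e⟩ := h.ρ_surj (R⁻¹ * k * R) (by
      simpa using Subgroup.Normal.conj_mem (inferInstance : (commutator (O phi)).Normal) _ hk R⁻¹)
    exact ⟨c, hc, by rw [e]; group⟩
  nwc := h.nwc

theorem twist_pair {h : Setup z Q} {s w : G} (P : Pair h s w) {R : O phi}
    (hR : (R : V8 ≃ₗ[ZMod 2] V8) v0 = v0) : Pair (twist h R) s w :=
  ⟨P.hs, by show (R : V8 ≃ₗ[ZMod 2] V8) (h.π s) = v0; rw [P.hπ, hR], P.hw1, P.hw2⟩

theorem twist_alpha (h : Setup z Q) {v : U6} (hv : qU v = 1) (q : G) :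
    alpha (twist h (rO phi (emb v))) q = tU v (alpha h q) := by
  show ((rO phi (emb v) : V8 ≃ₗ[ZMod 2] V8) (h.π q)).2 = _
  rw [rO_emb_app hv]; rfl

theorem twist_theta (h : Setup z Q) {v : U6} (hv : qU v = 1) (b : G) :
    theta (twist h (rO phi (emb v))) b = tU v (theta h b) := by
  have hinv : (((rO phi (emb v))⁻¹ : O phi) : V8 ≃ₗ[ZMod 2] V8) f0 = f0 := by
    have e : (rO phi (emb v) : V8 ≃ₗ[ZMod 2] V8) f0 = f0 := by
      rw [rO_emb_app hv]
      exact Prod.ext rfl (tU_zero v)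
    conv_lhs => rw [← e]
    rw [← mul_app, ← Subgroup.coe_mul, inv_mul_cancel]
    rfl
  show (((rO phi (emb v) * h.ρ b * (rO phi (emb v))⁻¹ : O phi) : V8 ≃ₗ[ZMod 2] V8) f0).2 = _
  rw [Subgroup.coe_mul, Subgroup.coe_mul, mul_app, mul_app, hinv, rO_emb_app hv]
  rfl

/-- Reflections are their own inverses. -/
theorem rO_emb_sq {v : U6} (hv : qU v = 1) : rO phi (emb v) * rO phi (emb v) = 1 :=
  O.ext_app fun y => by
    rw [Subgroup.coe_mul, mul_app, rO_emb_app hv, rO_emb_app hv, tU_tU]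
    rfl

/-- Conjugation of an element of `B` multiplies by an element of `⟨z, s⟩` of given parity. -/
def Dh (z s c b : G) (d : ZMod 2) : Prop := ∃ i j, c * b * c⁻¹ = b * tt z s i j ∧ i + j = d

variable {h : Setup z Q} {s w : G} (P : Pair h s w)
include P

theorem Dh_unique {c b : G} {d d' : ZMod 2} (h1 : Dh z s c b d) (h2 : Dh z s c b d') : d = d' := by
  obtain ⟨i, j, e, rfl⟩ := h1
  obtain ⟨i', j', e', rfl⟩ := h2
  obtain ⟨rfl, rfl⟩ := P.tt_inj (mul_left_cancel (e.symm.trans e'))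
  rfl

theorem Dh_exists {c b : G} (hc : c * z = z * c) (hcs : c * s = s * c) (hb : InB z Q w b)
    (hfix : res (h.ρ c) (theta h b) = theta h b) : ∃ d, Dh z s c b d := by
  obtain ⟨i, j, e⟩ := P.eq_mul_tt_B hb (P.InB_conj hc hcs hb)
    (by rw [P.theta_conj hc hcs hb, hfix])
  exact ⟨_, i, j, e, rfl⟩

theorem Dh_mul_b {c b b' : G} {d d' : ZMod 2} (hb' : InB z Q w b') (h1 : Dh z s c b d)
    (h2 : Dh z s c b' d') : Dh z s c (b * b') (d + d') := by
  obtain ⟨i, j, e, rfl⟩ := h1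
  obtain ⟨i', j', e', rfl⟩ := h2
  exact ⟨i + i', j + j', P.conj_tt_mul e e' (P.tt_comm_B hb' i j).symm, by ring⟩

theorem Dh_mul_c {c c' b : G} {d d' : ZMod 2} (hc : c * z = z * c) (hcs : c * s = s * c)
    (h1 : Dh z s c b d) (h2 : Dh z s c' b d') : Dh z s (c * c') b (d + d') := by
  obtain ⟨i, j, e, rfl⟩ := h1
  obtain ⟨i', j', e', rfl⟩ := h2
  refine ⟨i + i', j + j', ?_, by ring⟩
  calc c * c' * b * (c * c')⁻¹ = c * (c' * b * c'⁻¹) * c⁻¹ := by group
    _ = c * b * c⁻¹ * (c * tt z s i' j' * c⁻¹) := by rw [e']; group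
    _ = b * tt z s (i + i') (j + j') := by rw [e, P.tt_fix hc hcs, mul_assoc, P.tt_mul]

theorem Dh_A {q b : G} (hq : InA Q s q) (hb : InB z Q w b) : Dh z s q b 0 := by
  refine ⟨fU (alpha h q) (theta h b), fU (alpha h q) (theta h b), ?_, CharTwo.add_self_eq_zero _⟩
  calc q * b * q⁻¹ = q * b * q⁻¹ * b⁻¹ * b := by group
    _ = _ := by rw [P.comm_AB hq hb, P.tt_comm_B hb]

theorem Dh_tt {c b : G} {d : ZMod 2} (hc : c * z = z * c) (hcs : c * s = s * c)
    (hb : InB z Q w b) (h1 : Dh z s c b d) (k l : ZMod 2) : Dh z s c (b * tt z s k l) d := by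
  obtain ⟨i, j, e, rfl⟩ := h1
  refine ⟨i, j, ?_, rfl⟩
  rw [← conj_mul, e, P.tt_fix hc hcs, mul_assoc, mul_assoc, P.tt_mul, P.tt_mul, add_comm i,
    add_comm j]

theorem InA_of_rho {c c' : G} (hc : c * z = z * c) (hcs : c * s = s * c) (hc' : c' * z = z * c')
    (hcs' : c' * s = s * c') (e : h.ρ c = h.ρ c') : InA Q s (c * c'⁻¹) := by
  refine ⟨(h.ρ_ker _ (h.mul_comm' hc (h.inv_comm hc'))).1 (by
    rw [h.ρ_mul _ _ hc (h.inv_comm hc'), h.ρ_inv hc', e, mul_inv_cancel]),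
    ((show Commute c s from hcs).mul_left (show Commute c' s from hcs').inv_left).eq⟩

/-- The parity does not depend on the lifts. -/
theorem Dh_indep {c c' b b' : G} {d : ZMod 2} (hc : c * z = z * c) (hcs : c * s = s * c)
    (hc' : c' * z = z * c') (hcs' : c' * s = s * c') (hb : InB z Q w b) (hb' : InB z Q w b')
    (e : h.ρ c' = h.ρ c) (e' : theta h b = theta h b') (h1 : Dh z s c b d) :
    Dh z s c' b' d := by
  have hA := InA_of_rho P hc' hcs' hc hcs e
  obtain ⟨i, j, rfl⟩ := P.eq_mul_tt_B hb hb' e'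
  have h2 := Dh_mul_c P (P.zc hA) hA.2 (Dh_A P hA hb) h1
  rw [zero_add, inv_mul_cancel_right] at h2
  exact Dh_tt P hc' hcs' hb h2 i j

/-- The parity of an element of order two modulo `Q`. -/
theorem Dh_sign {c b : G} (hc : c * z = z * c) (hcs : c * s = s * c)
    (hρ2 : h.ρ c * h.ρ c = 1) (hb : InB z Q w b) :
    Dh z s c (b * (c * b * c⁻¹)) (fU (theta h b) (theta h (c * b * c⁻¹))) := by
  set b' := c * b * c⁻¹ with hb'
  have hb'B : InB z Q w b' := P.InB_conj hc hcs hb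
  have hk : InA Q s (c * c) := ⟨(h.ρ_ker _ (h.mul_comm' hc hc)).1 (by rw [h.ρ_mul _ _ hc hc, hρ2]),
    ((show Commute c s from hcs).mul_left hcs).eq⟩
  set f := fU (alpha h (c * c)) (theta h b)
  refine ⟨f, f + fU (theta h b) (theta h b'), ?_, by
    rw [← add_assoc, CharTwo.add_self_eq_zero, zero_add]⟩
  calc c * (b * b') * c⁻¹ = b' * ((c * c) * b * (c * c)⁻¹ * b⁻¹) * b := by rw [hb']; group
    _ = b' * b * tt z s f f := by
        rw [P.comm_AB hk hb, mul_assoc, ← P.tt_comm_B hb, ← mul_assoc]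
    _ = b * b' * tt z s f (f + fU (theta h b) (theta h b')) := by
        rw [P.comm_BB hb hb'B, mul_assoc (b * b'), P.tt_mul, zero_add, add_comm f]

omit P

/-- Data expressing an isometry by three involutions with odd parity at one vector. -/
structure FourRefl (k : O phi) (v a b c pa pb pc : U6) : Prop where
  qv : qU v = 1
  qa : qU a = 1
  qb : qU b = 1
  qc : qU c = 1
  ia : ∀ u : U6, tU v (tU a (tU v (tU a u))) = u
  ib : ∀ u : U6, tU v (tU b (tU v (tU b u))) = u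
  ic : ∀ u : U6, tU v (tU c (tU v (tU c u))) = u
  va : fU pa (tU v (tU a pa)) = 1 ∧ pa + tU v (tU a pa) = v
  vb : fU pb (tU v (tU b pb)) = 1 ∧ pb + tU v (tU b pb) = v
  vc : fU pc (tU v (tU c pc)) = 1 ∧ pc + tU v (tU c pc) = v
  prod : k = pairO v a * (pairO v b * pairO v c)

include P

theorem Dh_pair {v a p : U6} (hv : qU v = 1) (ha : qU a = 1)
    (hinv : ∀ u : U6, tU v (tU a (tU v (tU a u))) = u)
    (hp : fU p (tU v (tU a p)) = 1 ∧ p + tU v (tU a p) = v) {c b : G} (hc : c * z = z * c)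
    (hcs : c * s = s * c) (hρ : h.ρ c = pairO v a) (hb : InB z Q w b) (hθ : theta h b = v) :
    Dh z s c b 1 := by
  obtain ⟨bp, hbp, hbpθ⟩ := P.exists_B p
  have hρ2 : h.ρ c * h.ρ c = 1 := O.ext_app fun y => by
    rw [hρ, Subgroup.coe_mul, mul_app, pairO_app hv ha, pairO_app hv ha, hinv]
    rfl
  have h1 := Dh_sign P hc hcs hρ2 hbp
  have hb2 := P.InB_conj hc hcs hbp
  have hθ2 : theta h (c * bp * c⁻¹) = tU v (tU a p) := by
    rw [P.theta_conj hc hcs hbp, hρ, res, pairO_app hv ha, hbpθ, emb_snd]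
  rw [hθ2, hbpθ, hp.1] at h1
  exact Dh_indep P hc hcs hc hcs (P.InB_mul hbp hb2) hb rfl
    (by rw [P.theta_mul hbp hb2, hθ2, hbpθ, hp.2, hθ]) h1

theorem Dh_four {k : O phi} {v a b c pa pb pc : U6} (D : FourRefl k v a b c pa pb pc) {g x : G}
    (hg : g * z = z * g) (hgs : g * s = s * g) (hρ : h.ρ g = k) (hx : InB z Q w x)
    (hθ : theta h x = v) : Dh z s g x 1 := by
  obtain ⟨y1, y1z, y1s, y1ρ⟩ := h.exists_lift P.hs P.hπ (pairO_mem D.qv D.qa) (pairO_v0 D.qv D.qa)
  obtain ⟨y2, y2z, y2s, y2ρ⟩ := h.exists_lift P.hs P.hπ (pairO_mem D.qv D.qb) (pairO_v0 D.qv D.qb)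
  obtain ⟨y3, y3z, y3s, y3ρ⟩ := h.exists_lift P.hs P.hπ (pairO_mem D.qv D.qc) (pairO_v0 D.qv D.qc)
  have h23 := Dh_mul_c P y2z y2s (Dh_pair P D.qv D.qb D.ib D.vb y2z y2s y2ρ hx hθ)
    (Dh_pair P D.qv D.qc D.ic D.vc y3z y3s y3ρ hx hθ)
  have h123 := Dh_mul_c P y1z y1s (Dh_pair P D.qv D.qa D.ia D.va y1z y1s y1ρ hx hθ) h23
  rw [show (1 + (1 + 1) : ZMod 2) = 1 from rfl] at h123
  have yz := h.mul_comm' y1z (h.mul_comm' y2z y3z)
  have ys : y1 * (y2 * y3) * s = s * (y1 * (y2 * y3)) :=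
    ((show Commute y1 s from y1s).mul_left ((show Commute y2 s from y2s).mul_left y3s)).eq
  refine Dh_indep P yz ys hg hgs hx hx ?_ rfl h123
  rw [hρ, D.prod, h.ρ_mul _ _ y1z (h.mul_comm' y2z y3z), h.ρ_mul _ _ y2z y3z, y1ρ, y2ρ, y3ρ]

/-- The two parities at the summands of the vector differ. -/
theorem Dh_split {k : O phi} {v a b c pa pb pc : U6} (D : FourRefl k v a b c pa pb pc)
    {g x x' : G} (hg : g * z = z * g) (hgs : g * s = s * g) (hρ : h.ρ g = k) (hx : InB z Q w x)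
    (hx' : InB z Q w x') (hθ : theta h x + theta h x' = v) {d d' : ZMod 2}
    (h1 : Dh z s g x d) (h2 : Dh z s g x' d') : d + d' = 1 :=
  Dh_unique P (Dh_mul_b P hx' h1 h2)
    (Dh_four P D hg hgs hρ (P.InB_mul hx hx') (by rw [P.theta_mul hx hx', hθ]))

omit P

/-- The singular vector of the second half opposite to `e1`. -/
def f1' : U6 := ((0, 1), (0, 0), 0, 0)

/-- The third standard singular vector. -/
def e3' : U6 := ((0, 0), (0, 0), 1, 0)

/-- Its partner. -/
def f3' : U6 := ((0, 0), (0, 0), 0, 1)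

theorem pairs_app (v a b c : U6) (hv : qU v = 1) (ha : qU a = 1) (hb : qU b = 1) (hc : qU c = 1)
    (y : V8) : ((pairO v a * (pairO v b * pairO v c) : O phi) : V8 ≃ₗ[ZMod 2] V8) y =
      (y.1, tU v (tU a (tU v (tU b (tU v (tU c y.2)))))) := by
  simp only [Subgroup.coe_mul, mul_app, pairO_app hv ha, pairO_app hv hb, pairO_app hv hc]

theorem fourRefl_X23 : FourRefl (Xp 32) ((1, 1), (0, 0), 0, 0) ((1, 1), (1, 0), 0, 0)
    ((1, 1), (0, 0), 1, 0) ((1, 1), (1, 0), 1, 0) ((1, 0), (0, 1), 0, 0) ((1, 0), (0, 0), 0, 1)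
    ((1, 0), (0, 1), 0, 0) where
  qv := by decide
  qa := by decide
  qb := by decide
  qc := by decide
  ia := by decide +kernel
  ib := by decide +kernel
  ic := by decide +kernel
  va := by decide +kernel
  vb := by decide +kernel
  vc := by decide +kernel
  prod := O_ext fun n hn => by
    rw [Xp_app (by norm_num) hn, pairs_app _ _ _ _ (by decide) (by decide) (by decide) (by decide)]
    revert n
    decide +kernel

theorem fourRefl_X12 : FourRefl (Xp 8) ((0, 0), (0, 0), 1, 1) ((1, 0), (0, 0), 1, 1)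
    ((0, 0), (1, 0), 1, 1) ((1, 0), (1, 0), 1, 1) ((0, 1), (0, 0), 1, 0) ((0, 0), (0, 1), 1, 0)
    ((0, 0), (0, 1), 1, 0) where
  qv := by decide
  qa := by decide
  qb := by decide
  qc := by decide
  ia := by decide +kernel
  ib := by decide +kernel
  ic := by decide +kernel
  va := by decide +kernel
  vb := by decide +kernel
  vc := by decide +kernel
  prod := O_ext fun n hn => by
    rw [Xp_app (by norm_num) hn, pairs_app _ _ _ _ (by decide) (by decide) (by decide) (by decide)]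
    revert n
    decide +kernel

theorem res_Xp {S : ℕ} (hS : S < 64) (u : U6) :
    res (Xp S) u = (vec (Xmod S (code (emb u)))).2 := by
  obtain ⟨h1, h2⟩ := code_spec (emb u)
  rw [res]
  conv_lhs => rw [← h2]
  rw [Xp_app hS h1]

/-- The chosen family: the lifts of `Xp 32` commute with `B` at `e1` up to even parity. -/
def Gd (h : Setup z Q) (s w : G) : Prop :=
  ∀ c b, c * z = z * c → c * s = s * c → h.ρ c = Xp 32 → InB z Q w b → theta h b = e1 →
    Dh z s c b 0

include P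

theorem exists_good : ∃ h' : Setup z Q, Pair h' s w ∧ Gd h' s w := by
  obtain ⟨c, hc, hcs, hρ⟩ := h.exists_lift P.hs P.hπ (Xp_mem 32) (by
    rw [show v0 = vec 1 by decide, Xp_fix (by norm_num) (by norm_num)])
  obtain ⟨b1, hb1, hb1θ⟩ := P.exists_B e1
  obtain ⟨bf, hbf, hbfθ⟩ := P.exists_B f1'
  have hfix : ∀ u, (u = e1 ∨ u = f1') → res (h.ρ c) u = u := by
    intro u hu
    rw [hρ, res_Xp (by norm_num)]
    rcases hu with rfl | rfl <;> decide +kernel
  obtain ⟨d1, hd1⟩ := Dh_exists P hc hcs hb1 (by rw [hb1θ, hfix _ (Or.inl rfl)])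
  obtain ⟨d2, hd2⟩ := Dh_exists P hc hcs hbf (by rw [hbfθ, hfix _ (Or.inr rfl)])
  have hsum := Dh_split P fourRefl_X23 hc hcs hρ hb1 hbf
    (by rw [hb1θ, hbfθ]; decide) hd1 hd2
  rcases two_cases' d1 with rfl | rfl
  · exact ⟨h, P, fun c' b' hc' hcs' hρ' hb' hθ' =>
      Dh_indep P hc hcs hc' hcs' hb1 hb' (by rw [hρ, hρ']) (by rw [hb1θ, hθ']) hd1⟩
  · have hd : d2 = 0 := by
      rcases two_cases' d2 with rfl | rfl
      · rfl
      · exact absurd hsum (by decide)
    subst hd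
    set v : U6 := ((1, 1), (0, 0), 0, 0) with hv
    have hqv : qU v = 1 := by decide
    set R := rO phi (emb v)
    have hRv : (R : V8 ≃ₗ[ZMod 2] V8) v0 = v0 := by
      rw [rO_emb_app hqv]; decide
    refine ⟨twist h R, twist_pair P hRv, fun c' b' hc' hcs' hρ' hb' hθ' => ?_⟩
    have hcomm : R * Xp 32 = Xp 32 * R := O_ext fun n hn => by
      obtain ⟨h1, h2⟩ := code_spec ((vec n).1, tU v (vec n).2)
      rw [Subgroup.coe_mul, Subgroup.coe_mul, mul_app, mul_app, Xp_app (by norm_num) hn,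
        rO_emb_app hqv, rO_emb_app hqv, ← h2, Xp_app (by norm_num) h1]
      clear h1 h2
      revert n
      decide +kernel
    have hρc : h.ρ c' = Xp 32 := by
      have e : R * h.ρ c' * R⁻¹ = Xp 32 := hρ'
      rw [mul_inv_eq_iff_eq_mul, ← hcomm] at e
      exact mul_left_cancel e
    have hθc : theta h b' = f1' := by
      rw [twist_theta h hqv] at hθ'
      rw [← tU_tU v (theta h b'), hθ']
      decide
    exact Dh_indep P hc hcs hc' hcs' hbf hb' (by rw [hρ, hρc]) (by rw [hbfθ, hθc]) hd2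

end Cfsg.Agent.PGroups.ConwayA
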