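import Cfsg.Agent.PGroups.ConwayA.Lev
import Cfsg.Agent.PGroups.ConwayA.Mathieu
import Cfsg.Agent.H24.Gaschuetz

/-!
A subgroup of order `2 ^ 10` of the normaliser meeting `A` trivially, and the splitting.
-/

set_option autoImplicit false
set_option maxRecDepth 100000
set_option linter.unusedSectionVars false
set_option linter.unusedVariables false
set_option linter.style.longLine false

namespace Cfsg.Agent.PGroups.ConwayA

open QuadraticMap Cfsg.Agent.Orthogonal Cfsg.Agent.H73.Conway Cfsg.Agent.H92.ExtraForm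
open scoped Pointwise

variable {G : Type*} [Group G] [Finite G] {z : G} {Q : Subgroup G}

/-- The lifts of the three root elements of the abelian part. -/
def wX2 : List (Fin 12) := [7, 3, 7, 3]

/-- The lifts of the three root elements of the abelian part. -/
def wX3 : List (Fin 12) := [11] ++ wX2 ++ [11] ++ wX2

/-- The eight elements of the dihedral part. -/
def Dw : Fin 8 → List (Fin 12) :=
  ![[], [7], [11], [7, 11], [11, 7], [7, 11, 7], [11, 7, 11], [7, 11, 7, 11]]

/-- Left multiplication by the first generator of the dihedral part. -/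
def Dt : Fin 8 → Fin 8 := ![1, 0, 3, 2, 5, 4, 7, 6]

/-- Left multiplication by the second generator of the dihedral part. -/
def Du : Fin 8 → Fin 8 := ![2, 4, 0, 6, 1, 7, 3, 5]

/-- The list of an element of the unitriangular group. -/
def wl (a b c : Bool) (d : Fin 8) : List (Fin 12) :=
  (bif a then [3] else []) ++ ((bif b then wX2 else []) ++ ((bif c then wX3 else []) ++ Dw d))

/-- The images of the four basis vectors. -/
def wimg (a b c : Bool) (d : Fin 8) : List ℕ := [1, 2, 4, 8].map (Wmod (wl a b c d))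

theorem wimg_inj : ∀ a b c d a' b' c' d', wimg a b c d = wimg a' b' c' d' →
    a = a' ∧ b = b' ∧ c = c' ∧ d = d' := by decide +kernel

theorem wl_U : ∀ a b c d, ∀ m : Fin 16, Wmod (wl a b c d) m.val < 16 := by decide +kernel

variable (h : Setup z Q) {s w : G} (P : Pair h s w) (hGd : Gd h s w)
include P hGd

omit hGd in
theorem pr_invol {l : List (Fin 12)} {k : Fin 12} (hk : k ∈ ([3, 6, 7, 9, 10, 11] : List (Fin 12)))
    (e : sameW l [k] = true) : pr h l * pr h l = 1 := by
  obtain ⟨i, hi⟩ := pr_ext h e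
  rw [pr_single] at hi
  rw [hi]
  exact zp_twist h (Lg_z h (Tl_spec h k).1) (Tl_sq h P hk) i

/-- The relations. -/
theorem relations :
    (∀ R, Tl h 3 * (Tl h 3 * R) = R) ∧ (∀ R, Tl h 7 * (Tl h 7 * R) = R) ∧
    (∀ R, Tl h 11 * (Tl h 11 * R) = R) ∧ (∀ R, pr h wX2 * (pr h wX2 * R) = R) ∧
    (∀ R, pr h wX3 * (pr h wX3 * R) = R) ∧
    (∀ R, Tl h 7 * (Tl h 3 * R) = Tl h 3 * (pr h wX2 * (Tl h 7 * R))) ∧
    (∀ R, Tl h 7 * (pr h wX2 * R) = pr h wX2 * (Tl h 7 * R)) ∧
    (∀ R, Tl h 7 * (pr h wX3 * R) = pr h wX3 * (Tl h 7 * R)) ∧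
    (∀ R, Tl h 11 * (Tl h 3 * R) = Tl h 3 * (Tl h 11 * R)) ∧
    (∀ R, Tl h 11 * (pr h wX2 * R) = pr h wX2 * (pr h wX3 * (Tl h 11 * R))) ∧
    (∀ R, Tl h 11 * (pr h wX3 * R) = pr h wX3 * (Tl h 11 * R)) ∧
    ∀ R, Tl h 11 * (Tl h 7 * (Tl h 11 * (Tl h 7 * R))) =
      Tl h 7 * (Tl h 11 * (Tl h 7 * (Tl h 11 * R))) := by
  have hx := Tl_sq h P (t := 3) (by decide)
  have ht := Tl_sq h P (t := 7) (by decide)
  have hu := Tl_sq h P (t := 11) (by decide)
  have h2 := pr_invol h P (l := wX2) (k := 6) (by decide) (by decide +kernel)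
  have h3 := pr_invol h P (l := wX3) (k := 9) (by decide) (by decide +kernel)
  have h4 := pr_invol h P (l := [7, 11, 7, 11]) (k := 10) (by decide) (by decide +kernel)
  have hux : Tl h 11 * Tl h 3 = Tl h 3 * Tl h 11 := (base_comm h P hGd).eq.symm
  obtain ⟨i, hi⟩ := pr_ext h (w := wX3) (w' := [9]) (by decide +kernel)
  rw [pr_single] at hi
  have htx3 : Tl h 7 * pr h wX3 = pr h wX3 * Tl h 7 := by
    rw [hi]
    exact ((zp_central (Lg_z h (Tl_spec h 7).1) i).mul_right (comm_seven_nine h P hGd)).eq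
  set x := Tl h 3
  set t := Tl h 7
  set u := Tl h 11
  have e2 : pr h wX2 = t * x * t * x := by
    simp only [wX2, pr, mul_one, mul_assoc]; rfl
  have e3 : pr h wX3 = u * pr h wX2 * u * pr h wX2 := by
    rw [wX3, pr_append, pr_append, pr_append, pr_single]
  have e4 : pr h [7, 11, 7, 11] = t * u * t * u := by
    simp only [pr, mul_one, mul_assoc]; rfl
  set x2 := pr h wX2 with hx2
  set x3 := pr h wX3 with hx3
  have xi := inv_eq_of_mul_eq_one_left hx
  have ti := inv_eq_of_mul_eq_one_left ht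
  have ui := inv_eq_of_mul_eq_one_left hu
  have x2i := inv_eq_of_mul_eq_one_left h2
  have x3i := inv_eq_of_mul_eq_one_left h3
  have hx2' : x2 = x * t * x * t := by
    rw [← x2i, e2]; simp only [mul_inv_rev, xi, ti, mul_assoc]
  have hx3' : x3 = x2 * u * x2 * u := by
    rw [← x3i, e3]; simp only [mul_inv_rev, x2i, ui, mul_assoc]
  have r1 : t * x = x * x2 * t := by
    rw [hx2']
    calc t * x = (x * x) * t * x * (t * t) := by rw [hx, ht, one_mul, mul_one]
      _ = _ := by group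
  have r2 : t * x2 = x2 * t := by
    conv_lhs => rw [e2]
    conv_rhs => rw [hx2']
    calc t * (t * x * t * x) = (t * t) * (x * t * x) := by group
      _ = x * t * x := by rw [ht, one_mul]
      _ = x * t * x * (t * t) := by rw [ht, mul_one]
      _ = _ := by group
  have r23 : x2 * x3 = x3 * x2 := by
    conv_lhs => rw [hx3']
    conv_rhs => rw [e3]
    calc x2 * (x2 * u * x2 * u) = (x2 * x2) * (u * x2 * u) := by group
      _ = u * x2 * u * (x2 * x2) := by rw [h2, one_mul, mul_one]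
      _ = _ := by group
  have r4 : u * x2 = x2 * x3 * u := by
    rw [r23, e3]
    calc u * x2 = u * x2 * u * (x2 * x2) * u := by rw [h2, mul_one, mul_assoc _ u u, hu, mul_one]
      _ = _ := by group
  have r5 : u * x3 = x3 * u := by
    conv_lhs => rw [e3]
    conv_rhs => rw [hx3']
    calc u * (u * x2 * u * x2) = (u * u) * (x2 * u * x2) := by group
      _ = x2 * u * x2 * (u * u) := by rw [hu, one_mul, mul_one]
      _ = _ := by group
  have r6 : u * t * u * t = t * u * t * u := by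
    rw [e4] at h4
    rw [← inv_eq_of_mul_eq_one_left h4]
    simp only [mul_inv_rev, ti, ui, mul_assoc]
  refine ⟨fun R => ?_, fun R => ?_, fun R => ?_, fun R => ?_, fun R => ?_, fun R => ?_, fun R => ?_,
    fun R => ?_, fun R => ?_, fun R => ?_, fun R => ?_, fun R => ?_⟩
  · rw [← mul_assoc, hx, one_mul]
  · rw [← mul_assoc, ht, one_mul]
  · rw [← mul_assoc, hu, one_mul]
  · rw [← mul_assoc, h2, one_mul]
  · rw [← mul_assoc, h3, one_mul]
  · rw [← mul_assoc, r1]; simp only [mul_assoc]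
  · rw [← mul_assoc, r2, mul_assoc]
  · rw [← mul_assoc, htx3, mul_assoc]
  · rw [← mul_assoc, hux, mul_assoc]
  · rw [← mul_assoc, r4]; simp only [mul_assoc]
  · rw [← mul_assoc, r5, mul_assoc]
  · rw [show u * (t * (u * (t * R))) = u * t * u * t * R by group, r6]; group

/-- An element of the unitriangular group. -/
noncomputable def F (a b c : Bool) (d : Fin 8) : G := pr h (wl a b c d)

omit P hGd in
theorem F_eq (a b c : Bool) (d : Fin 8) : F h a b c d = (bif a then Tl h 3 else 1) *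
    ((bif b then pr h wX2 else 1) * ((bif c then pr h wX3 else 1) * pr h (Dw d))) := by
  rw [F, wl, pr_append, pr_append, pr_append]
  cases a <;> cases b <;> cases c <;> simp [pr]

theorem F_x (a b c : Bool) (d : Fin 8) : Tl h 3 * F h a b c d = F h (!a) b c d := by
  obtain ⟨hx, -⟩ := relations h P hGd
  cases a <;> simp [F_eq, hx]

theorem F_t (a b c : Bool) (d : Fin 8) : Tl h 7 * F h a b c d = F h a (xor a b) c (Dt d) := by
  obtain ⟨hx, ht, hu, h2, h3, r1, r2, r3, -, -, -, r6⟩ := relations h P hGd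
  have hd : Tl h 7 * pr h (Dw d) = pr h (Dw (Dt d)) := by
    fin_cases d <;> simp [Dw, Dt, pr, ht, -mul_one]
  cases a <;> cases b <;> cases c <;> simp [F_eq, h2, r1, r2, r3, hd]

theorem F_u (a b c : Bool) (d : Fin 8) : Tl h 11 * F h a b c d = F h a b (xor b c) (Du d) := by
  obtain ⟨hx, ht, hu, h2, h3, -, -, -, r3, r4, r5, r6⟩ := relations h P hGd
  have hd : Tl h 11 * pr h (Dw d) = pr h (Dw (Du d)) := by
    fin_cases d <;> simp [Dw, Du, pr, hu, r6, -mul_one]
  cases a <;> cases b <;> cases c <;> simp [F_eq, h3, r3, r4, r5, hd]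

/-- The unitriangular subgroup. -/
noncomputable def Ut : Subgroup G := Subgroup.closure {Tl h 3, Tl h 7, Tl h 11}

omit P hGd in
theorem Ut_le : Ut h ≤ Lg h :=
  (Subgroup.closure_le _).2 (by
    rintro g (rfl | rfl | rfl) <;> exact (Tl_spec h _).1)

omit P hGd in
theorem F_mem (a b c : Bool) (d : Fin 8) : F h a b c d ∈ Ut h := by
  have hg : ∀ l : List (Fin 12), (∀ t ∈ l, t = 3 ∨ t = 7 ∨ t = 11) → pr h l ∈ Ut h := by
    intro l hl
    induction l with
    | nil => exact one_mem _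
    | cons t l ih =>
      refine mul_mem (Subgroup.subset_closure ?_) (ih fun t' ht' => hl t' (List.mem_cons_of_mem _ ht'))
      rcases hl t List.mem_cons_self with rfl | rfl | rfl <;> simp
  refine hg _ fun t ht => ?_
  have key : ∀ a b c d, ∀ t ∈ wl a b c d, t = 3 ∨ t = 7 ∨ t = 11 := by decide +kernel
  exact key a b c d t ht

theorem exists_F {g : G} (hg : g ∈ Ut h) : ∃ a b c d, g = F h a b c d := by
  have step : ∀ x ∈ ({Tl h 3, Tl h 7, Tl h 11} : Set G), ∀ y, (∃ a b c d, y = F h a b c d) →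
      ∃ a b c d, x * y = F h a b c d := by
    rintro x hx y ⟨a, b, c, d, rfl⟩
    rcases hx with rfl | rfl | rfl
    exacts [⟨_, _, _, _, F_x h P hGd a b c d⟩, ⟨_, _, _, _, F_t h P hGd a b c d⟩,
      ⟨_, _, _, _, F_u h P hGd a b c d⟩]
  induction hg using Subgroup.closure_induction_left with
  | one => exact ⟨false, false, false, 0, by simp [F, wl, Dw, pr]⟩
  | mul_left x hx y _ ih => exact step x hx y ih
  | inv_mul_cancel x hx y _ ih =>
    have hinv : x⁻¹ = x := by
      rcases hx with rfl | rfl | rfl <;>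
        exact inv_eq_of_mul_eq_one_left (Tl_sq h P (by decide))
    rw [hinv]
    exact step x hx y ih

omit P hGd in
theorem rho_lF_mul (v : ℕ) {g : G} (hg : g * z = z * g) : h.ρ (lF h v * g) = h.ρ g := by
  rw [h.ρ_mul _ _ (h.le _ (lF_mem h v)) hg, h.ρ_Q (lF_mem h v), one_mul]

omit P hGd in
theorem lF_inj {u v : ℕ} (hu : u < 16) (hv : v < 16) (e : lF h u = lF h v) : u = v := by
  have := congrArg h.π e
  rw [π_lF h hu, π_lF h hv] at this
  have := vec_inj (by omega) (by omega) this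
  omega

omit P hGd in
theorem F_sep {a b c a' b' c' : Bool} {d d' : Fin 8}
    (e : ∀ m, m < 16 → (h.ρ (F h a b c d) : V8 ≃ₗ[ZMod 2] V8) (vec m) =
      (h.ρ (F h a' b' c' d') : V8 ≃ₗ[ZMod 2] V8) (vec m)) :
    a = a' ∧ b = b' ∧ c = c' ∧ d = d' := by
  refine wimg_inj _ _ _ _ _ _ _ _ (List.map_congr_left fun m hm => ?_)
  have hm' : m < 16 := by
    simp only [List.mem_cons, List.not_mem_nil, or_false] at hm; omega
  have e' := e m hm'
  rw [F, F, (pr_app h _ (by omega)).1, (pr_app h _ (by omega)).1] at e'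
  exact vec_inj (pr_app h _ (by omega)).2 (pr_app h _ (by omega)).2 e'

/-- The complement of `A` in a Sylow subgroup. -/
noncomputable def Ks : Subgroup G := Fhat h ⊔ Ut h

theorem exists_Ks {g : G} (hg : g ∈ Ks h) :
    ∃ v a b c d, v < 16 ∧ g = lF h v * F h a b c d := by
  have hle : Ut h ≤ Subgroup.normalizer (Fhat h : Set G) := fun x hx => (Ut_le h hx).2.2
  have hg' : g ∈ (Fhat h : Set G) * (Ut h : Set G) :=
    (Subgroup.coe_mul_of_right_le_normalizer_left _ _ hle) ▸ hg
  obtain ⟨f, ⟨v, hv, rfl⟩, t, ht, rfl⟩ := hg'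
  obtain ⟨a, b, c, d, rfl⟩ := exists_F h P hGd ht
  exact ⟨v, a, b, c, d, hv, rfl⟩

theorem card_Ks : Nat.card (Ks h) = 1024 := by
  let f : Fin 16 × Bool × Bool × Bool × Fin 8 → Ks h := fun p =>
    ⟨lF h p.1.val * F h p.2.1 p.2.2.1 p.2.2.2.1 p.2.2.2.2,
      mul_mem (Subgroup.mem_sup_left ⟨_, p.1.isLt, rfl⟩) (Subgroup.mem_sup_right (F_mem h _ _ _ _))⟩
  have hf : Function.Bijective f := by
    refine ⟨?_, fun ⟨g, hg⟩ => ?_⟩
    · rintro ⟨v, a, b, c, d⟩ ⟨v', a', b', c', d'⟩ e
      have e' : lF h v.val * F h a b c d = lF h v'.val * F h a' b' c' d' := congrArg Subtype.val e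
      obtain ⟨rfl, rfl, rfl, rfl⟩ := F_sep h (a := a) (b := b) (c := c) (d := d) fun m _ => by
        have := congrArg (fun g => (h.ρ g : V8 ≃ₗ[ZMod 2] V8) (vec m)) e'
        simpa only [rho_lF_mul h _ (Lg_z h (Ut_le h (F_mem h _ _ _ _)))] using this
      rw [Fin.ext (lF_inj h v.isLt v'.isLt (mul_right_cancel e'))]
    · obtain ⟨v, a, b, c, d, hv, rfl⟩ := exists_Ks h P hGd hg
      exact ⟨(⟨v, hv⟩, a, b, c, d), rfl⟩
  rw [← Nat.card_congr (Equiv.ofBijective f hf)]
  simp

theorem Ks_le : Ks h ≤ Subgroup.normalizer (AU h : Set G) := by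
  refine sup_le (fun q hq => ?_) (fun g hg => ?_)
  · obtain ⟨v, -, rfl⟩ := hq
    exact Q_norm h (lF_mem h v)
  · refine Stab_norm h ⟨Lg_z h (Ut_le h hg), fun n hn => ?_⟩
    obtain ⟨a, b, c, d, rfl⟩ := exists_F h P hGd hg
    rw [F, (pr_app h _ (by omega)).1]
    exact InU_vec (wl_U a b c d ⟨n, hn⟩)

theorem Ks_inf {g : G} (hg : g ∈ Ks h) (hA : g ∈ AU h) : g = 1 := by
  obtain ⟨v, a, b, c, d, hv, rfl⟩ := exists_Ks h P hGd hg
  have h0 : F h false false false 0 = 1 := by simp [F, wl, Dw, pr]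
  obtain ⟨rfl, rfl, rfl, rfl⟩ := F_sep h (a := a) (b := b) (c := c) (d := d)
    (a' := false) (b' := false) (c' := false) (d' := 0) fun m hm => by
      have := AU_fix h hA hm
      rw [rho_lF_mul h _ (Lg_z h (Ut_le h (F_mem h _ _ _ _)))] at this
      rw [this, h0, h.ρ_one]; rfl
  rw [h0, mul_one] at hA ⊢
  obtain ⟨n, hn, e⟩ := InU_exists (AU_inf_Q h hA (lF_mem h v)).2
  rw [π_lF h hv] at e
  have := vec_inj (by omega) (by omega) e
  rw [show v = 0 by omega, lF_zero]

/-- `A` has a complement in its normaliser. -/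
theorem exists_split (hN : Nat.card (Subgroup.normalizer (AU h : Set G)) = 501397585920) :
    ∃ K : Subgroup (Subgroup.normalizer (AU h : Set G)),
      ((AU h).subgroupOf (Subgroup.normalizer (AU h : Set G))).IsComplement' K := by
  have hAN : AU h ≤ Subgroup.normalizer (AU h : Set G) := Subgroup.le_normalizer
  have hKN := Ks_le h P hGd
  set N := Subgroup.normalizer (AU h : Set G)
  set A' := (AU h).subgroupOf N with hA'
  set K' := (Ks h).subgroupOf N with hK'
  haveI hnorm : A'.Normal := Subgroup.normal_subgroupOf_iff hAN |>.2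
    fun a n ha hn => (Subgroup.mem_normalizer_iff.1 hn a).1 ha
  have hcA : Nat.card A' = 2048 := by
    rw [hA', Nat.card_congr (Subgroup.subgroupOfEquivOfLe hAN).toEquiv, card_AU h]
  have hcK : Nat.card K' = 1024 := by
    rw [hK', Nat.card_congr (Subgroup.subgroupOfEquivOfLe hKN).toEquiv, card_Ks h P hGd]
  have hinf : K' ⊓ A' = ⊥ := (Subgroup.eq_bot_iff_forall _).2 fun x hx =>
    Subtype.ext (Ks_inf h P hGd hx.1 hx.2)
  have S : Cfsg.Agent.H24.Gaschuetz.Setup A' (A' ⊔ K') K' :=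
    { normal := hnorm
      comm := ⟨⟨fun a b => Subtype.ext (Subtype.ext (AU_commute h P hGd a.2 b.2).eq)⟩⟩
      KU := le_sup_left
      AU := le_sup_right
      inf := hinf
      sup := rfl }
  refine Cfsg.Agent.H24.Gaschuetz.exists_complement S ?_
  have hcU : Nat.card (A' ⊔ K' : Subgroup N) = 2097152 := by
    let f : A' × K' → (A' ⊔ K' : Subgroup N) := fun p =>
      ⟨p.1.1 * p.2.1, Subgroup.mul_mem_sup p.1.2 p.2.2⟩
    have hd : Disjoint A' K' := (disjoint_iff.2 hinf).symm
    have hf : Function.Bijective f := by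
      refine ⟨fun p q e => Subgroup.mul_injective_of_disjoint hd (congrArg Subtype.val e),
        fun ⟨g, hg⟩ => ?_⟩
      obtain ⟨a, ha, k, hk, rfl⟩ := Subgroup.mem_sup_of_normal_left.1 hg
      exact ⟨(⟨a, ha⟩, ⟨k, hk⟩), rfl⟩
    rw [← Nat.card_congr (Equiv.ofBijective f hf), Nat.card_prod, hcA, hcK]
  have hidx := Subgroup.card_mul_index (A' ⊔ K')
  rw [hcU, hN] at hidx
  rw [hcA, show (A' ⊔ K').index = 239085 by omega]
  norm_num

end Cfsg.Agent.PGroups.ConwayA
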