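import Cfsg.Agent.PGroups.ConwayA.Good

/-!
An element of the normaliser of `A` exchanging `z` with a conjugate in `Q`.
-/

set_option autoImplicit false
set_option maxRecDepth 100000
set_option linter.unusedSectionVars false
set_option linter.style.longLine false
set_option linter.unusedVariables false
set_option synthInstance.maxSize 4000
set_option synthInstance.maxHeartbeats 400000

namespace Cfsg.Agent.PGroups.ConwayA

open QuadraticMap Cfsg.Agent.Orthogonal Cfsg.Agent.H73.Conway Cfsg.Agent.H92.ExtraForm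

variable {G : Type*} [Group G] [Finite G] {z : G} {Q : Subgroup G}

theorem third_move : ∀ u : U6, qU u = 0 → fU e1 u = 0 → fU e2 u = 0 → u ≠ 0 → u ≠ e1 → u ≠ e2 →
    u ≠ e1 + e2 → ∃ i j : ZMod 2, u + i • e1 + j • e2 = e3' ∨ u + i • e1 + j • e2 = f3' := by
  decide +kernel

theorem vec_snd : (vec (2 ^ 1)).2 = e1 ∧ (vec (2 ^ 2)).2 = e2 ∧ (vec (2 ^ 3)).2 = e3' ∧
    (vec (2 ^ 0)).2 = 0 := by decide +kernel

variable (h : Setup z Q) {s w : G} (P : Pair h s w)
include P

theorem gE_alpha {k : ℕ} (hk : k < 4) : alpha h (gE h k) = (vec (2 ^ k)).2 := by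
  rw [alpha, gE, (lift_spec h _).2]

/-- The residue of the conjugate of an element of `A`. -/
theorem image_facts {n : G} (hn : ∀ i j, n * tt z s i j * n⁻¹ = tt z s j i)
    (hB : ∀ e, InA Q s e → InB z Q w (n * e * n⁻¹)) :
    (∀ e, e ∈ eU h → InA Q s e) ∧
    (∀ e, e ∈ eU h → qU (theta h (n * e * n⁻¹)) = 0) ∧
    (∀ e e', e ∈ eU h → e' ∈ eU h → fU (theta h (n * e * n⁻¹)) (theta h (n * e' * n⁻¹)) = 0) ∧
    (∀ e, e ∈ eU h → theta h (n * e * n⁻¹) = 0 → alpha h e = 0) := by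
  have hA : ∀ e, e ∈ eU h → InA Q s e := fun e he =>
    ⟨he.1, (eU_facts h he (s_mem_eU h P)).1.eq⟩
  refine ⟨hA, fun e he => ?_, fun e e' he he' => ?_, fun e he h0 => ?_⟩
  · have e1' := P.sq_B (hB e (hA e he))
    rw [conj_mul, (eU_facts h he he).2, mul_one, mul_inv_cancel,
      show (1 : G) = tt z s 0 0 by simp [tt, zp]] at e1'
    exact (P.tt_inj e1').2.symm
  · have e1' := P.comm_BB (hB e (hA e he)) (hB e' (hA e' he'))
    rw [conj_mul, conj_mul, (eU_facts h he he').1.eq] at e1'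
    have e2' : tt z s 0 (fU (theta h (n * e * n⁻¹)) (theta h (n * e' * n⁻¹))) = tt z s 0 0 := by
      rw [left_eq_mul.1 e1']; simp [tt, zp]
    exact (P.tt_inj e2').2
  · obtain ⟨i, j, hij⟩ := P.eq_mul_tt_B (b := 1) ⟨by simp, by simp⟩ (hB e (hA e he))
      (by rw [h0, theta, h.ρ_one]; rfl)
    rw [one_mul] at hij
    have : e = tt z s j i := by
      calc e = n⁻¹ * (n * e * n⁻¹) * n := by group
        _ = n⁻¹ * (n * tt z s j i * n⁻¹) * n := by rw [hij, hn]
        _ = tt z s j i := by group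
    rw [this, P.alpha_tt]

/-- Conjugation by a suitable element of `C(z) ∩ C(s)` applied to the residue. -/
theorem move_n {r t : U6} (hr : qU r = 1) (ht : qU t = 1) {n : G}
    (hn : ∀ i j, n * tt z s i j * n⁻¹ = tt z s j i)
    (hB : ∀ e, InA Q s e → InB z Q w (n * e * n⁻¹)) :
    ∃ n', (∀ i j, n' * tt z s i j * n'⁻¹ = tt z s j i) ∧
      (∀ e, InA Q s e → InB z Q w (n' * e * n'⁻¹)) ∧
      ∀ e, InA Q s e → theta h (n' * e * n'⁻¹) = tU r (tU t (theta h (n * e * n⁻¹))) := by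
  obtain ⟨c, hc, hcs, hres⟩ := P.exists_M hr ht
  have e1' : ∀ e, c * n * e * (c * n)⁻¹ = c * (n * e * n⁻¹) * c⁻¹ := fun e => by group
  refine ⟨c * n, fun i j => ?_, fun e he => ?_, fun e he => ?_⟩
  · rw [e1', hn, P.tt_fix hc hcs]
  · rw [e1']; exact P.InB_conj hc hcs (hB e he)
  · rw [e1', P.theta_conj hc hcs (hB e he), hres]

/-- An element exchanging `z` and `s`, with standard residues. -/
theorem exists_std_swap : ∃ n x, (∀ i j, n * tt z s i j * n⁻¹ = tt z s j i) ∧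
    (∀ e, InA Q s e → InB z Q w (n * e * n⁻¹)) ∧ x ∈ eU h ∧
    theta h (n * gE h 1 * n⁻¹) = e1 ∧ theta h (n * gE h 2 * n⁻¹) = e2 ∧
    (theta h (n * x * n⁻¹) = e3' ∨ theta h (n * x * n⁻¹) = f3') ∧
    ∃ i j : ZMod 2, gE h 3 = x * zp (gE h 1) i * zp (gE h 2) j := by
  have hw : ∀ e, InA Q s e → InB z Q w (w * e * w⁻¹) := fun e he => P.InB_of_A he
  obtain ⟨va, vb, vc, -⟩ := vec_snd
  have m1 := gE_mem h (show 1 < 4 by norm_num)
  have m2 := gE_mem h (show 2 < 4 by norm_num)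
  have m3 := gE_mem h (show 3 < 4 by norm_num)
  obtain ⟨hA, f1, f2, f0⟩ := image_facts h P P.w_tt hw
  have hk1 : theta h (w * gE h 1 * w⁻¹) ≠ 0 := fun e => by
    have := f0 _ m1 e
    rw [gE_alpha h P (by norm_num), va] at this
    exact absurd this (by decide)
  obtain ⟨r, hr, t, ht, hrt⟩ := move_sing _ (f1 _ m1) hk1
  obtain ⟨n1, hn1, hB1, hθ1⟩ := move_n h P (nsList_spec r hr) (nsList_spec t ht) P.w_tt hw
  obtain ⟨-, g1, g2, g0⟩ := image_facts h P hn1 hB1
  have h11 : theta h (n1 * gE h 1 * n1⁻¹) = e1 := by rw [hθ1 _ (hA _ m1), hrt]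
  have hadd : ∀ {n : G}, (∀ e, InA Q s e → InB z Q w (n * e * n⁻¹)) → ∀ e e', InA Q s e →
      InA Q s e' → theta h (n * (e * e') * n⁻¹) =
        theta h (n * e * n⁻¹) + theta h (n * e' * n⁻¹) := fun {n} hB e e' he he' => by
    rw [← conj_mul, P.theta_mul (hB e he) (hB e' he')]
  set k2 := theta h (n1 * gE h 2 * n1⁻¹) with hk2
  have hk20 : k2 ≠ 0 := fun e => by
    have := g0 _ m2 e
    rw [gE_alpha h P (by norm_num), vb] at this
    exact absurd this (by decide)
  have hk21 : k2 ≠ e1 := fun e => by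
    have := g0 _ (mul_mem m1 m2) (by rw [hadd hB1 _ _ (hA _ m1) (hA _ m2), h11, ← hk2, e, U6_add_self])
    rw [P.alpha_mul m1.1 m2.1, gE_alpha h P (by norm_num), gE_alpha h P (by norm_num), va, vb] at this
    exact absurd this (by decide)
  have hk2f : fU e1 k2 = 0 := by rw [← h11, hk2]; exact g2 _ _ m1 m2
  obtain ⟨r', hr', t', ht', hfix, hrt'⟩ := move_sing_second k2 (g1 _ m2) hk2f hk20 hk21
  obtain ⟨n, hn, hB, hθ⟩ := move_n h P (nsList_spec r' hr') (nsList_spec t' ht') hn1 hB1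
  obtain ⟨-, q1, q2, q0⟩ := image_facts h P hn hB
  have a1 : theta h (n * gE h 1 * n⁻¹) = e1 := by rw [hθ _ (hA _ m1), h11, hfix]
  have a2 : theta h (n * gE h 2 * n⁻¹) = e2 := by rw [hθ _ (hA _ m2), ← hk2, hrt']
  set k3 := theta h (n * gE h 3 * n⁻¹) with hk3
  have c1 : fU e1 k3 = 0 := by rw [← a1, hk3]; exact q2 _ _ m1 m3
  have c2 : fU e2 k3 = 0 := by rw [← a2, hk3]; exact q2 _ _ m2 m3
  have c3 : k3 ≠ 0 := fun e => by
    have := q0 _ m3 e
    rw [gE_alpha h P (by norm_num), vc] at this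
    exact absurd this (by decide)
  have c4 : k3 ≠ e1 := fun e => by
    have := q0 _ (mul_mem m3 m1) (by rw [hadd hB _ _ (hA _ m3) (hA _ m1), ← hk3, e, a1, U6_add_self])
    rw [P.alpha_mul m3.1 m1.1, gE_alpha h P (by norm_num), gE_alpha h P (by norm_num), va, vc] at this
    exact absurd this (by decide)
  have c5 : k3 ≠ e2 := fun e => by
    have := q0 _ (mul_mem m3 m2) (by rw [hadd hB _ _ (hA _ m3) (hA _ m2), ← hk3, e, a2, U6_add_self])
    rw [P.alpha_mul m3.1 m2.1, gE_alpha h P (by norm_num), gE_alpha h P (by norm_num), vb, vc] at this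
    exact absurd this (by decide)
  have c6 : k3 ≠ e1 + e2 := fun e => by
    have := q0 _ (mul_mem m3 (mul_mem m1 m2)) (by
      rw [hadd hB _ _ (hA _ m3) (hA _ (mul_mem m1 m2)), hadd hB _ _ (hA _ m1) (hA _ m2), ← hk3, e,
        a1, a2, U6_add_self])
    rw [P.alpha_mul m3.1 (mul_mem m1 m2).1, P.alpha_mul m1.1 m2.1, gE_alpha h P (by norm_num),
      gE_alpha h P (by norm_num), gE_alpha h P (by norm_num), va, vb, vc] at this
    exact absurd this (by decide)
  obtain ⟨i, j, hij⟩ := third_move k3 (q1 _ m3) c1 c2 c3 c4 c5 c6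
  have hzp : ∀ {e : G} (_ : e ∈ eU h) (i : ZMod 2), zp e i ∈ eU h ∧ zp e i * zp e i = 1 := by
    intro e he i
    unfold zp; split_ifs
    exacts [⟨one_mem _, one_mul 1⟩, ⟨he, (eU_facts h he he).2⟩]
  have hθzp : ∀ {e : G} (_ : e ∈ eU h) (i : ZMod 2),
      theta h (n * zp e i * n⁻¹) = i • theta h (n * e * n⁻¹) := by
    intro e _ i
    rcases two_cases' i with rfl | rfl
    · rw [zp_zero, zero_smul, mul_one, mul_inv_cancel, theta, h.ρ_one]; rfl
    · rw [zp_one, one_smul]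
  obtain ⟨z1, z1'⟩ := hzp m1 i
  obtain ⟨z2, z2'⟩ := hzp m2 j
  refine ⟨n, gE h 3 * zp (gE h 2) j * zp (gE h 1) i, hn, hB, mul_mem (mul_mem m3 z2) z1, a1, a2,
    ?_, i, j, ?_⟩
  · rw [hadd hB _ _ (hA _ (mul_mem m3 z2)) (hA _ z1), hadd hB _ _ (hA _ m3) (hA _ z2), hθzp m1,
      hθzp m2, a1, a2, ← hk3, add_right_comm k3]
    exact hij
  · calc gE h 3 = gE h 3 * zp (gE h 2) j * (zp (gE h 1) i * zp (gE h 1) i) * zp (gE h 2) j := by
          rw [z1', mul_one, mul_assoc, z2', mul_one]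
      _ = _ := by group

/-- A generating set of the image of `E`. -/
theorem image_of_gens {n x : G} (hn : ∀ i j, n * tt z s i j * n⁻¹ = tt z s j i) {i j : ZMod 2}
    (hx : gE h 3 = x * zp (gE h 1) i * zp (gE h 2) j) {K : Subgroup G} (hz : z ∈ K) (hs : s ∈ K)
    (h1 : n * gE h 1 * n⁻¹ ∈ K) (h2 : n * gE h 2 * n⁻¹ ∈ K) (h3 : n * x * n⁻¹ ∈ K) :
    ∀ e ∈ eU h, n * e * n⁻¹ ∈ K := by
  set K' := K.comap (MulAut.conj n).toMonoidHom with hK'
  have hmem : ∀ g, g ∈ K' ↔ n * g * n⁻¹ ∈ K := fun g => Iff.rfl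
  have htt : ∀ i j, tt z s i j ∈ K' := fun i j => by
    rw [hmem, hn]
    refine mul_mem ?_ ?_ <;> unfold zp <;> split_ifs
    exacts [one_mem K, hz, one_mem K, hs]
  have hz' : z ∈ K' := by simpa [tt, zp] using htt 1 0
  have g0 : gE h 0 ∈ K' := by
    obtain ⟨l, hl⟩ := Q_decomp h (gE_mem h (show 0 < 4 by norm_num)).1 P.hs (by
      rw [gE, (lift_spec h _).2, P.hπ]; decide)
    rw [hl, show zp z l * s = tt z s l 1 by simp [tt, zp]]
    exact htt _ _
  have g3 : gE h 3 ∈ K' := by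
    rw [hx]
    refine mul_mem (mul_mem h3 ?_) ?_ <;> unfold zp <;> split_ifs
    exacts [one_mem K', h1, one_mem K', h2]
  intro e he
  obtain ⟨l, m, -, rfl⟩ := eU_exists h he
  have hgen : ∀ k, k < 4 → gE h k ∈ K' := fun k hk => by
    interval_cases k
    exacts [g0, h1, h2, g3]
  exact (hmem _).1 (mul_mem (by unfold zp; split_ifs; exacts [one_mem K', hz'])
    (word_mem hgen m))

variable (hGd : Gd h s w)
include hGd

/-- The element of the normaliser of `A`. -/
theorem exists_swap_norm : ∃ n, n ∈ Subgroup.normalizer (AU h : Set G) ∧ n * z * n⁻¹ = s ∧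
    ∀ b, InB z Q w b → theta h b = e1 → ∃ e ∈ eU h, n * e * n⁻¹ = b := by
  obtain ⟨n, x, hn, hB, hxE, a1, a2, a3, i, j, hx⟩ := exists_std_swap h P
  obtain ⟨hA, -, -, -⟩ := image_facts h P hn hB
  have hB1 := hB _ (hA _ (gE_mem h (show 1 < 4 by norm_num)))
  have hB2 := hB _ (hA _ (gE_mem h (show 2 < 4 by norm_num)))
  have hBx := hB _ (hA _ hxE)
  rcases a3 with a3 | a3
  · have hE : ∀ e ∈ eU h, n * e * n⁻¹ ∈ AU h := image_of_gens h P hn hx
      (eU_le_AU h (z_mem_eU h)) (eU_le_AU h (s_mem_eU h P))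
      (B_mem_AU h P hB1 (by rw [a1]; decide +kernel))
      (B_mem_AU h P hB2 (by rw [a2]; decide +kernel))
      (B_mem_AU h P hBx (by rw [a3]; decide +kernel))
    have hinv : ∀ a ∈ AU h, n⁻¹ * a * n⁻¹⁻¹ ∈ AU h := fun a ha => by
      rw [inv_inv, mem_AU]
      intro e he
      have e' := (AU_commute h P hGd (hE e he) ha).eq
      calc e * (n⁻¹ * a * n) = n⁻¹ * (n * e * n⁻¹ * a) * n := by group
        _ = n⁻¹ * a * n * e := by rw [e']; group
    have hnorm : n⁻¹ ∈ Subgroup.normalizer (AU h : Set G) := by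
      rw [Subgroup.mem_normalizer_iff]
      refine fun a => ⟨fun ha => hinv a ha, fun ha => ?_⟩
      have := conj_closed_inv hinv _ ha
      rwa [show n⁻¹⁻¹ * (n⁻¹ * a * n⁻¹⁻¹) * n⁻¹ = a by group] at this
    refine ⟨n, by simpa using inv_mem hnorm, ?_, fun b hb hθ => ?_⟩
    · have := hn 1 0
      simpa [tt, zp] using this
    · obtain ⟨k, l, hkl⟩ := P.eq_mul_tt_B hB1 hb (a1.trans hθ.symm)
      refine ⟨gE h 1 * tt z s l k, mul_mem (gE_mem h (by norm_num)) (mul_mem (zp_mem_eU h l) ?_), ?_⟩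
      · unfold zp; split_ifs
        exacts [one_mem _, s_mem_eU h P]
      · rw [hkl, ← conj_mul, hn]
  · exfalso
    set v : U6 := ((0, 0), (0, 0), 1, 1) with hv
    have hqv : qU v = 1 := by decide
    set R := rO phi (emb v)
    have hRv : (R : V8 ≃ₗ[ZMod 2] V8) v0 = v0 := by rw [rO_emb_app hqv]; decide
    set h3 := twist h R
    have P3 : Pair h3 s w := twist_pair P hRv
    have hconj : ∀ e ∈ eU h3, n⁻¹ * e * n ∈ AU h := by
      intro e he
      have heQ : e ∈ Q := he.1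
      have hes : e * s = s * e := (eU_facts h3 he (s_mem_eU h3 P3)).1.eq
      have heA : InA Q s e := ⟨heQ, hes⟩
      have hperp : ∀ u, (u = e1 ∨ u = e2 ∨ u = f3') → fU (alpha h e) u = 0 := by
        have hU : InU (((h.π e).1, tU v (h.π e).2) : V8) := by
          have h2' : InU ((R : V8 ≃ₗ[ZMod 2] V8) (h.π e)) := he.2
          rwa [rO_emb_app hqv] at h2'
        rw [alpha]
        generalize h.π e = y at hU ⊢
        rintro u (rfl | rfl | rfl) <;> (revert hU; revert y; unfold InU; decide +kernel)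
      have hBc : ∀ b, InB z Q w b → fU (alpha h e) (theta h b) = 0 → Commute e b := by
        intro b hb hf
        have e' := P.comm_AB heA hb
        rw [hf] at e'
        have e'' : e * b * e⁻¹ * b⁻¹ = 1 := by rw [e']; simp [tt, zp]
        rw [mul_inv_eq_one, mul_inv_eq_iff_eq_mul] at e''
        exact e''
      have hK : ∀ e' ∈ eU h, n * e' * n⁻¹ ∈ Subgroup.centralizer ({e} : Set G) := by
        refine image_of_gens h P hn hx ?_ ?_ ?_ ?_ ?_ <;>
          rw [Subgroup.mem_centralizer_singleton_iff]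
        · exact (h.le e heQ).symm
        · exact hes.symm
        · exact (hBc _ hB1 (hperp _ (Or.inl a1))).eq.symm
        · exact (hBc _ hB2 (hperp _ (Or.inr (Or.inl a2)))).eq.symm
        · exact (hBc _ hBx (hperp _ (Or.inr (Or.inr a3)))).eq.symm
      rw [mem_AU]
      intro e' he'
      have e1' := Subgroup.mem_centralizer_singleton_iff.1 (hK e' he')
      calc e' * (n⁻¹ * e * n) = n⁻¹ * (n * e' * n⁻¹ * e) * n := by group
        _ = n⁻¹ * e * n * e' := by rw [e1']; group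
    have himg : ∀ a ∈ AU h, n * a * n⁻¹ ∈ AU h3 := fun a ha => by
      rw [mem_AU]
      intro e he
      have e' := (AU_commute h P hGd (hconj e he) ha).eq
      calc e * (n * a * n⁻¹) = n * (n⁻¹ * e * n * a) * n⁻¹ := by group
        _ = n * a * n⁻¹ * e := by rw [e']; group
    let f : AU h → AU h3 := fun a => ⟨n * a.1 * n⁻¹, himg _ a.2⟩
    have hf : Function.Injective f := fun a b e => Subtype.ext
      (mul_left_cancel (mul_right_cancel (congrArg Subtype.val e : n * a.1 * n⁻¹ = n * b.1 * n⁻¹)))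
    have hfb : Function.Bijective f :=
      (Nat.bijective_iff_injective_and_card f).2 ⟨hf, by rw [card_AU h, card_AU h3]⟩
    obtain ⟨c, hc, hcρ⟩ := exists_lift_S h3 (S := 8) (by norm_num)
    obtain ⟨⟨a, ha⟩, hae⟩ := hfb.2 ⟨c, hc⟩
    have hae' : n * a * n⁻¹ = c := congrArg Subtype.val hae
    set bf := n * x * n⁻¹ with hbf
    have hcomm : c * bf * c⁻¹ = bf := by
      rw [← hae', hbf, conj_mul, mul_inv_eq_iff_eq_mul, conj_mul,
        (AU_commute h P hGd ha (eU_le_AU h hxE)).eq]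
    have hcs := AU_comm_s h3 P3 hc
    have hcz := AU_comm_z h3 hc
    have hRX : R * Xp 8 = Xp 8 * R := O_ext fun m hm => by
      obtain ⟨h1, h2⟩ := code_spec ((vec m).1, tU v (vec m).2)
      rw [Subgroup.coe_mul, Subgroup.coe_mul, mul_app, mul_app, Xp_app (by norm_num) hm,
        rO_emb_app hqv, rO_emb_app hqv, ← h2, Xp_app (by norm_num) h1]
      clear h1 h2
      revert m
      decide +kernel
    have hρc : h.ρ c = Xp 8 := by
      have e : R * h.ρ c * R⁻¹ = Xp 8 := hcρ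
      rw [mul_inv_eq_iff_eq_mul, ← hRX] at e
      exact mul_left_cancel e
    have d1 : Dh z s c bf 0 := ⟨0, 0, by rw [hcomm]; simp [tt, zp], rfl⟩
    obtain ⟨a', ha', ha'ρ⟩ := exists_lift_S h (S := 8) (by norm_num)
    obtain ⟨b3, hb3, hb3θ⟩ := P.exists_B e3'
    have hb3A : b3 ∈ AU h := B_mem_AU h P hb3 (by rw [hb3θ]; decide +kernel)
    have d2 : Dh z s a' b3 0 :=
      ⟨0, 0, by rw [(AU_commute h P hGd ha' hb3A).eq, mul_inv_cancel_right]; simp [tt, zp], rfl⟩
    have d2' : Dh z s c b3 0 :=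
      Dh_indep P (AU_comm_z h ha') (AU_comm_s h P ha') hcz hcs hb3 hb3 (hρc.trans ha'ρ.symm) rfl d2
    have := Dh_split P fourRefl_X12 hcz hcs hρc hb3 hBx
      (by rw [hb3θ, a3]; decide) d2' d1
    exact absurd this (by decide)

end Cfsg.Agent.PGroups.ConwayA
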